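import Mathlib
import Cfsg.Agent.S0205

/-!
# Elementwise form of the CA property

`CAOn H`: inside `H`, two elements commuting with an element that is not central in `H` commute.
The predicate passes to subgroups, unlike the quotient forms.
-/

set_option autoImplicit false
set_option linter.style.haveILetI false

namespace CfsgLib.MinNonCA

open Subgroup

universe u

variable {G : Type u} [Group G]

/-- Centralisers in `H` of elements outside `Z(H)` are abelian. -/
def CAOn (H : Subgroup G) : Prop :=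
  ∀ x ∈ H, ∀ h ∈ H, ¬ Commute x h → ∀ a ∈ H, ∀ b ∈ H, Commute x a → Commute x b → Commute a b

/-- All solvable subgroups are CA-groups. -/
def SolvCA (G : Type*) [Group G] : Prop :=
  ∀ H : Subgroup G, Group.IsSolvable H → CAOn H

/-- Elementwise commutativity of a subgroup. -/
def AbOn (H : Subgroup G) : Prop := ∀ a ∈ H, ∀ b ∈ H, Commute a b

theorem CAOn.mono {H K : Subgroup G} (h : CAOn H) (hKH : K ≤ H) : CAOn K :=
  fun x hx y hy hxy a ha b hb => h x (hKH hx) y (hKH hy) hxy a (hKH ha) b (hKH hb)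

theorem caOn_iff (H : Subgroup G) :
    CAOn H ↔ ∀ x : H, x ∉ center H → IsMulCommutative (centralizer ({x} : Set H)) := by
  constructor
  · intro h x hx
    obtain ⟨y, hy⟩ : ∃ y : H, ¬ Commute (x : G) (y : G) := by
      by_contra hcon
      push Not at hcon
      exact hx (mem_center_iff.2 fun g => Subtype.ext (hcon g).symm.eq)
    refine ⟨⟨fun a b => Subtype.ext (Subtype.ext ?_)⟩⟩
    have ha : (x : G) * (a : H) = (a : H) * x :=
      congrArg Subtype.val (mem_centralizer_singleton_iff.1 a.2).symm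
    have hb : (x : G) * (b : H) = (b : H) * x :=
      congrArg Subtype.val (mem_centralizer_singleton_iff.1 b.2).symm
    exact (h x x.2 y y.2 hy _ (a : H).2 _ (b : H).2 ha hb).eq
  · intro h x hx y hy hxy a ha b hb hxa hxb
    have hc := h ⟨x, hx⟩ fun hc =>
      hxy (congrArg Subtype.val (mem_center_iff.1 hc ⟨y, hy⟩)).symm
    have hma : (⟨a, ha⟩ : H) ∈ centralizer ({⟨x, hx⟩} : Set H) :=
      mem_centralizer_singleton_iff.2 (Subtype.ext hxa.eq.symm)
    have hmb : (⟨b, hb⟩ : H) ∈ centralizer ({⟨x, hx⟩} : Set H) :=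
      mem_centralizer_singleton_iff.2 (Subtype.ext hxb.eq.symm)
    exact congrArg (fun g : centralizer ({⟨x, hx⟩} : Set H) => (((g : H)) : G))
      (hc.is_comm.comm ⟨_, hma⟩ ⟨_, hmb⟩)

theorem caOn_top_iff :
    CAOn (⊤ : Subgroup G) ↔
      ∀ x : G, x ∉ center G → IsMulCommutative (centralizer ({x} : Set G)) := by
  constructor
  · intro h x hx
    obtain ⟨y, hy⟩ : ∃ y : G, ¬ Commute x y := by
      by_contra hcon
      push Not at hcon
      exact hx (mem_center_iff.2 fun g => (hcon g).symm.eq)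
    exact ⟨⟨fun a b => Subtype.ext (h x (mem_top x) y (mem_top y) hy _ (mem_top _) _ (mem_top _)
      (mem_centralizer_singleton_iff.1 a.2).symm (mem_centralizer_singleton_iff.1 b.2).symm).eq⟩⟩
  · intro h x _ y _ hxy a _ b _ hxa hxb
    have hc := h x fun hc => hxy (mem_center_iff.1 hc y).symm
    exact congrArg Subtype.val (hc.is_comm.comm
      ⟨a, mem_centralizer_singleton_iff.2 hxa.eq.symm⟩ ⟨b, mem_centralizer_singleton_iff.2 hxb.eq.symm⟩)

theorem solvCA_of_proper (hns : ¬ Group.IsSolvable G)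
    (h : ∀ H : Subgroup G, H ≠ ⊤ → CAOn H) : SolvCA G := by
  refine fun H hH => h H fun ht => hns ?_
  subst ht
  haveI := hH
  exact Group.isSolvable_of_surjective (f := (⊤ : Subgroup G).subtype) fun g => ⟨⟨g, mem_top g⟩, rfl⟩

theorem SolvCA.comap {H : Type*} [Group H] (h : SolvCA G) (f : H →* G)
    (hf : Function.Injective f) : SolvCA H := by
  intro K hK x hx y hy hxy a ha b hb hxa hxb
  haveI := hK
  haveI : Group.IsSolvable (K.map f) :=
    Group.isSolvable_of_surjective (f := f.subgroupMap K) (f.subgroupMap_surjective K)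
  have key := h (K.map f) inferInstance _ (mem_map_of_mem f hx) _ (mem_map_of_mem f hy)
    (fun hc => hxy (hf (by rw [map_mul, map_mul]; exact hc.eq))) _ (mem_map_of_mem f ha) _
    (mem_map_of_mem f hb) (hxa.map f) (hxb.map f)
  exact hf (by rw [map_mul, map_mul]; exact key.eq)

theorem isSolvable_of_abOn {H : Subgroup G} (h : AbOn H) : Group.IsSolvable H :=
  Group.isSolvable_of_comm fun a b => Subtype.ext (h _ a.2 _ b.2).eq

theorem isSolvable_of_le {H K : Subgroup G} (h : H ≤ K) [Group.IsSolvable K] : Group.IsSolvable H :=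
  Group.isSolvable_of_isSolvable_injective (inclusion_injective h)

/-- The product of a solvable subgroup and a solvable subgroup normalising it is solvable. -/
theorem isSolvable_sup {H K : Subgroup G} (hHK : H ≤ normalizer (K : Set G)) [Group.IsSolvable H]
    [Group.IsSolvable K] : Group.IsSolvable (H ⊔ K : Subgroup G) := by
  have hn : K ⊔ H ≤ normalizer (K : Set G) := sup_le le_normalizer hHK
  haveI : (K.subgroupOf (H ⊔ K)).Normal :=
    normal_subgroupOf_of_le_normalizer (sup_comm H K ▸ hn)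
  haveI : Group.IsSolvable (K.subgroupOf (H ⊔ K)) :=
    Group.isSolvable_of_isSolvable_injective
      (f := (subgroupOfEquivOfLe (le_sup_right : K ≤ H ⊔ K)).toMonoidHom) (MulEquiv.injective _)
  let f : H →* (↥(H ⊔ K) ⧸ K.subgroupOf (H ⊔ K)) :=
    (QuotientGroup.mk' _).comp (inclusion le_sup_left)
  have hsur : Function.Surjective f := by
    intro q
    obtain ⟨⟨x, hx⟩, rfl⟩ := QuotientGroup.mk'_surjective _ q
    have hx' : x ∈ ((H ⊔ K : Subgroup G) : Set G) := hx
    rw [Subgroup.coe_mul_of_left_le_normalizer_right H K hHK] at hx'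
    obtain ⟨a, ha, b, hb, rfl⟩ := Set.mem_mul.1 hx'
    refine ⟨⟨a, ha⟩, QuotientGroup.eq.2 ?_⟩
    rw [mem_subgroupOf]
    simpa [mul_assoc] using hb
  haveI := Group.isSolvable_of_surjective hsur
  exact (Group.isSolvable_iff_subgroup_quotient (K.subgroupOf (H ⊔ K))).2 ⟨‹_›, ‹_›⟩

theorem isSolvable_sup_normal {H K : Subgroup G} [K.Normal] [Group.IsSolvable H]
    [Group.IsSolvable K] : Group.IsSolvable (H ⊔ K : Subgroup G) :=
  isSolvable_sup (normalizer_eq_top K ▸ le_top)

theorem isSolvable_sup_zpowers {K : Subgroup G} [Group.IsSolvable K] {x : G}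
    (hx : x ∈ normalizer (K : Set G)) : Group.IsSolvable (zpowers x ⊔ K : Subgroup G) :=
  haveI : Group.IsSolvable (zpowers x) :=
    isSolvable_of_abOn fun a ha b hb => by
      obtain ⟨i, rfl⟩ := ha; obtain ⟨j, rfl⟩ := hb; exact Commute.zpow_zpow_self x i j
  isSolvable_sup ((zpowers_le).2 hx)

theorem isSolvable_of_odd [Finite G] (H : Subgroup G) (h : Odd (Nat.card H)) : Group.IsSolvable H :=
  Cfsg.Agent.S0205.result h

/-- A non-solvable subgroup contains a non-abelian solvable one; for a normal subgroup its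
normaliser may be taken as a supplement. -/
theorem exists_solvable_nonabelian [Finite G] {D : Subgroup G} (hD : ¬ Group.IsSolvable D) :
    ∃ Y : Subgroup G, Y ≤ D ∧ Group.IsSolvable Y ∧ ¬ AbOn Y ∧
      (D.Normal → normalizer (Y : Set G) ⊔ D = ⊤) := by
  haveI : Fact (Nat.Prime 2) := ⟨Nat.prime_two⟩
  obtain ⟨P⟩ : Nonempty (Sylow 2 D) := inferInstance
  set P' : Subgroup G := (P : Subgroup D).map D.subtype
  have hfr : D.Normal → normalizer (P' : Set G) ⊔ D = ⊤ := fun hN =>
    haveI := hN; Sylow.normalizer_sup_eq_top P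
  haveI hPs : Group.IsSolvable P' := by
    have hp := P.isPGroup'.map D.subtype
    haveI := hp.isNilpotent
    infer_instance
  by_cases hab : AbOn P'
  swap
  · exact ⟨P', map_subtype_le _, hPs, hab, hfr⟩
  set Y0 : Subgroup D := normalizer ((P : Subgroup D) : Set D)
  have hne : ¬ AbOn Y0 := by
    intro hY
    have hN : normalizer ((P : Subgroup D) : Set D) ≤ centralizer ((P : Subgroup D) : Set D) :=
      fun x hx => mem_centralizer_iff.2 fun y hy => (hY y (le_normalizer hy) x hx).eq
    have hc := MonoidHom.ker_transferSylow_isComplement' P hN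
    set K := (MonoidHom.transferSylow P hN).ker
    haveI : Group.IsSolvable K := Cfsg.Agent.S0205.result
      (Nat.odd_iff.2 (Nat.two_dvd_ne_zero.1 (MonoidHom.not_dvd_card_ker_transferSylow P hN)))
    haveI : Group.IsSolvable (P : Subgroup D) :=
      Group.isSolvable_of_isSolvable_injective
        (f := ((P : Subgroup D).equivMapOfInjective D.subtype D.subtype_injective).toMonoidHom)
        (MulEquiv.injective _)
    haveI := isSolvable_sup_normal (H := (P : Subgroup D)) (K := K)
    have ht : (P : Subgroup D) ⊔ K = ⊤ := by rw [sup_comm]; exact hc.sup_eq_top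
    apply hD
    exact Group.isSolvable_of_surjective (f := ((P : Subgroup D) ⊔ K).subtype)
      fun g => ⟨⟨g, by rw [ht]; exact mem_top g⟩, rfl⟩
  refine ⟨Y0.map D.subtype, map_subtype_le _, ?_, ?_, fun hN => ?_⟩
  · haveI : Group.IsSolvable (P : Subgroup D) :=
      Group.isSolvable_of_isSolvable_injective
        (f := ((P : Subgroup D).equivMapOfInjective D.subtype D.subtype_injective).toMonoidHom)
        (MulEquiv.injective _)
    haveI : ((P : Subgroup D).subgroupOf Y0).Normal := normal_subgroupOf_of_le_normalizer le_rfl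
    have hodd : Odd (Nat.card (Y0 ⧸ (P : Subgroup D).subgroupOf Y0)) := by
      rw [← Subgroup.index_eq_card, ← Nat.not_even_iff_odd, even_iff_two_dvd]
      exact fun h => P.not_dvd_index (h.trans (relIndex_dvd_index_of_le le_normalizer))
    haveI : Group.IsSolvable (Y0 ⧸ (P : Subgroup D).subgroupOf Y0) := Cfsg.Agent.S0205.result hodd
    haveI : Group.IsSolvable ((P : Subgroup D).subgroupOf Y0) :=
      Group.isSolvable_of_isSolvable_injective
        (f := (subgroupOfEquivOfLe (le_normalizer : (P : Subgroup D) ≤ Y0)).toMonoidHom)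
        (MulEquiv.injective _)
    haveI : Group.IsSolvable Y0 :=
      (Group.isSolvable_iff_subgroup_quotient ((P : Subgroup D).subgroupOf Y0)).2 ⟨‹_›, ‹_›⟩
    exact Group.isSolvable_of_surjective (f := D.subtype.subgroupMap Y0)
      (D.subtype.subgroupMap_surjective Y0)
  · intro h
    refine hne fun a ha b hb => Subtype.ext ?_
    exact (h _ (mem_map_of_mem _ ha) _ (mem_map_of_mem _ hb)).eq
  · refine top_le_iff.1 ((hfr hN).ge.trans (sup_le_sup_right ?_ D))
    intro g hg
    rw [mem_normalizer_iff] at hg ⊢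
    have hconj : ∀ d : D, g * d * g⁻¹ ∈ D := fun d => hN.conj_mem _ d.2 g
    have hmemP : ∀ d : D, (d : D) ∈ (P : Subgroup D) ↔ (d : G) ∈ P' := fun d =>
      ⟨fun h => mem_map_of_mem _ h, fun ⟨e, he, heq⟩ => Subtype.ext heq ▸ he⟩
    intro x
    constructor
    · rintro ⟨d, hd, rfl⟩
      refine ⟨⟨g * d * g⁻¹, hconj d⟩, ?_, rfl⟩
      refine mem_normalizer_iff.2 fun e => ?_
      rw [hmemP, hmemP]
      have h1 := (mem_normalizer_iff.1 hd) ⟨g⁻¹ * e * g, by simpa using hN.conj_mem _ e.2 g⁻¹⟩
      rw [hmemP, hmemP] at h1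
      simp only [coe_mul, coe_inv] at h1 ⊢
      rw [show (g * d * g⁻¹) * e * (g * d * g⁻¹)⁻¹ = g * ((d : G) * (g⁻¹ * e * g) * (d : G)⁻¹) * g⁻¹
        by group, ← hg, ← h1, hg (g⁻¹ * e * g)]
      rw [show g * (g⁻¹ * (e : G) * g) * g⁻¹ = e by group]
    · rintro ⟨d, hd, he⟩
      have he' : (d : G) = g * x * g⁻¹ := he
      have hxD : x ∈ D := by
        have := hN.conj_mem _ d.2 g⁻¹
        rwa [he', show g⁻¹ * (g * x * g⁻¹) * g⁻¹⁻¹ = x by group] at this
      refine ⟨⟨x, hxD⟩, mem_normalizer_iff.2 fun e => ?_, rfl⟩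
      rw [hmemP, hmemP]
      have h1 := (mem_normalizer_iff.1 hd) ⟨g * e * g⁻¹, hconj e⟩
      rw [hmemP, hmemP] at h1
      simp only [coe_mul, coe_inv, he'] at h1 ⊢
      rw [hg, h1, show g * x * g⁻¹ * (g * e * g⁻¹) * (g * x * g⁻¹)⁻¹ = g * (x * e * x⁻¹) * g⁻¹
        by group, ← hg]

theorem exists_solvable_nonabelian' [Finite G] {D : Subgroup G} (hD : ¬ AbOn D) :
    ∃ Y : Subgroup G, Y ≤ D ∧ Group.IsSolvable Y ∧ ¬ AbOn Y := by
  by_cases h : Group.IsSolvable D
  · exact ⟨D, le_rfl, h, hD⟩
  · obtain ⟨Y, h1, h2, h3, -⟩ := exists_solvable_nonabelian h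
    exact ⟨Y, h1, h2, h3⟩

/-- A perfect group is generated by its 2-elements. -/
theorem eq_top_of_two_elements [Finite G] [Group.IsPerfect G] (N : Subgroup G) [N.Normal]
    (h : ∀ y : G, (∃ k : ℕ, y ^ 2 ^ k = 1) → y ∈ N) : N = ⊤ := by
  haveI : Fact (Nat.Prime 2) := ⟨Nat.prime_two⟩
  have hodd : Odd (Nat.card (G ⧸ N)) := by
    rw [← Nat.not_even_iff_odd, even_iff_two_dvd]
    intro h2
    obtain ⟨P⟩ : Nonempty (Sylow 2 G) := inferInstance
    have hle : (P : Subgroup G) ≤ N := fun x hx => h x (by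
      obtain ⟨k, hk⟩ := P.isPGroup' ⟨x, hx⟩
      exact ⟨k, by simpa using congrArg Subtype.val hk⟩)
    rw [← Subgroup.index_eq_card] at h2
    exact P.not_dvd_index (h2.trans (index_dvd_of_le hle))
  haveI : Group.IsSolvable (G ⧸ N) := Cfsg.Agent.S0205.result hodd
  haveI : Group.IsPerfect (G ⧸ N) := inferInstance
  by_contra hN
  haveI : Nontrivial (G ⧸ N) := QuotientGroup.nontrivial_iff.2 hN
  exact (Group.IsSolvable.commutator_lt_top_of_nontrivial (G ⧸ N)).ne
    Group.IsPerfect.commutator_eq_top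

end CfsgLib.MinNonCA
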