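import Cfsg.Agent.MinNonCA.TwoLow

/-!
# No central extension of `A₇` with CA solvable subgroups and non-abelian Sylow 2-subgroups
-/

set_option autoImplicit false
set_option linter.style.haveILetI false

namespace CfsgLib.MinNonCA

open Subgroup Equiv

universe u

variable {G : Type u} [Group G] [Finite G]

theorem exists_two_element_lift {Q : Type*} [Group Q] (f : G →* Q) {a : Q} (ha : a ^ 2 = 1) (r : G)
    (hr : f r = a) : ∃ r' ∈ zpowers r, f r' = a ∧ ∃ k, r' ^ 2 ^ k = 1 := by
  obtain ⟨k, m, hm, e⟩ := Nat.exists_eq_two_pow_mul_odd (orderOf_pos r).ne'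
  refine ⟨r ^ m, pow_mem (mem_zpowers r) m, ?_, k, by
    rw [← pow_mul, mul_comm, ← e, pow_orderOf_eq_one]⟩
  obtain ⟨j, hj⟩ := hm
  rw [map_pow, hr, hj, pow_succ, pow_mul, ha, one_pow, one_mul]

theorem commute_of_coprime_pow {x a : G} (hc : x * a * x⁻¹ * a⁻¹ ∈ center G)
    (hx : x ^ 3 ∈ center G) (ha : a ^ 2 ∈ center G) : Commute x a := by
  set ζ := x * a * x⁻¹ * a⁻¹ with hζ
  have hz : ∀ g, Commute g ζ := fun g => mem_center_iff.1 hc g
  have e1 : x * a * x⁻¹ = ζ * a := by rw [hζ]; group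
  have h2 : ζ ^ 2 = 1 := by
    have e2 : x * (a ^ 2) * x⁻¹ = ζ ^ 2 * a ^ 2 := by
      rw [← conj_pow, e1, ((hz a).symm).mul_pow]
    rw [mem_center_iff.1 ha x, mul_inv_cancel_right] at e2
    exact mul_right_cancel (e2.symm.trans (one_mul _).symm)
  have h3 : ζ ^ 3 = 1 := by
    have key : ∀ k : ℕ, x ^ k * a * (x ^ k)⁻¹ = ζ ^ k * a := by
      intro k
      induction k with
      | zero => simp
      | succ k ih =>
        calc x ^ (k + 1) * a * (x ^ (k + 1))⁻¹ = x * (x ^ k * a * (x ^ k)⁻¹) * x⁻¹ := by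
              rw [pow_succ']; group
          _ = ζ ^ k * (x * a * x⁻¹) := by rw [ih, ← mul_assoc x, ((hz x).pow_right k).eq]; simp only [mul_assoc]
          _ = ζ ^ (k + 1) * a := by rw [e1, pow_succ]; exact (mul_assoc _ _ _).symm
    have e3 := key 3
    rw [← mem_center_iff.1 hx a, mul_inv_cancel_right] at e3
    exact mul_right_cancel (e3.symm.trans (one_mul _).symm)
  have h1 : ζ = 1 := by
    rw [pow_succ, h2, one_mul] at h3; exact h3
  rw [h1, one_mul] at e1
  exact mul_inv_eq_iff_eq_mul.1 e1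

/-- `A₇` does not occur. -/
theorem alt_seven_false [Group.IsPerfect G] [Nontrivial G] (h : SolvCA G) (S : Sylow 2 G)
    (hna : ¬ AbOn (S : Subgroup G)) (f : G →* alternatingGroup (Fin 7))
    (hf : Function.Surjective f) (hker : f.ker = center G) : False := by
  haveI : Fact (Nat.Prime 2) := ⟨Nat.prime_two⟩
  let x : alternatingGroup (Fin 7) := ⟨swap 4 5 * swap 5 6, by
    rw [Equiv.Perm.mem_alternatingGroup]; decide⟩
  let a : alternatingGroup (Fin 7) := ⟨swap 0 1 * swap 2 3, by
    rw [Equiv.Perm.mem_alternatingGroup]; decide⟩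
  let b : alternatingGroup (Fin 7) := ⟨swap 0 2 * swap 1 3, by
    rw [Equiv.Perm.mem_alternatingGroup]; decide⟩
  let n : alternatingGroup (Fin 7) := ⟨swap 0 1 * swap 4 5, by
    rw [Equiv.Perm.mem_alternatingGroup]; decide⟩
  have hxa : Commute x a := Subtype.ext (by decide)
  have hxb : Commute x b := Subtype.ext (by decide)
  have hab : Commute a b := Subtype.ext (by decide)
  have hnx : ¬ Commute n x := fun e => absurd (congrArg Subtype.val e.eq) (by decide)
  have hnx' : n * x * n⁻¹ = x⁻¹ := Subtype.ext (by decide)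
  have hna' : n * a * n⁻¹ = a := Subtype.ext (by decide)
  have hnb : n * b * n⁻¹ = a * b := Subtype.ext (by decide)
  have hx3 : x ^ 3 = 1 := Subtype.ext (by decide)
  have ha2 : a ^ 2 = 1 := Subtype.ext (by decide)
  have hb2 : b ^ 2 = 1 := Subtype.ext (by decide)
  have ha1 : a ≠ 1 := fun e => absurd (congrArg Subtype.val e) (by decide)
  have hb1 : b ≠ 1 := fun e => absurd (congrArg Subtype.val e) (by decide)
  have hne : a ≠ b := fun e => absurd (congrArg Subtype.val e) (by decide)
  -- a solvable subgroup of `A₇`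
  set A : Subgroup (alternatingGroup (Fin 7)) := closure {x, a, b}
  have hgens : ∀ c ∈ ({x, a, b} : Set (alternatingGroup (Fin 7))),
      ∀ d ∈ ({x, a, b} : Set (alternatingGroup (Fin 7))), c * d = d * c := by
    rintro c (rfl | rfl | rfl) d (rfl | rfl | rfl) <;>
      first | rfl | exact hxa.eq | exact hxa.eq.symm | exact hxb.eq | exact hxb.eq.symm |
        exact hab.eq | exact hab.eq.symm
  haveI : Group.IsSolvable A := isSolvable_of_abOn fun c hc d hd => by
    exact congrArg Subtype.val ((Subgroup.isMulCommutative_closure hgens).is_comm.comm ⟨c, hc⟩ ⟨d, hd⟩)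
  have hnA : n ∈ normalizer (A : Set (alternatingGroup (Fin 7))) := by
    refine CfsgLib.Transfer.mem_normalizer_of_map_conj_eq (eq_of_le_of_card_ge ?_ (le_of_eq
      (card_map_of_injective (MulAut.conj n).injective).symm))
    rw [MonoidHom.map_closure, closure_le]
    rintro _ ⟨c, (rfl | rfl | rfl), rfl⟩
    · show n * x * n⁻¹ ∈ A
      rw [hnx']; exact inv_mem (subset_closure (by simp))
    · show n * a * n⁻¹ ∈ A
      rw [hna']; exact subset_closure (by simp)
    · show n * b * n⁻¹ ∈ A
      rw [hnb]; exact mul_mem (subset_closure (by simp)) (subset_closure (by simp))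
  set W0 : Subgroup (alternatingGroup (Fin 7)) := zpowers n ⊔ A
  haveI : Group.IsSolvable W0 := isSolvable_sup_zpowers hnA
  set W : Subgroup G := W0.comap f
  haveI : Group.IsSolvable W := by
    set g := f.subgroupComap W0
    haveI : Group.IsSolvable g.ker := Group.isSolvable_of_comm fun c d => by
      refine Subtype.ext (Subtype.ext ?_)
      have hc : ((c : W) : G) ∈ center G := hker ▸ (congrArg Subtype.val (MonoidHom.mem_ker.1 c.2) :)
      exact (mem_center_iff.1 hc _).symm
    exact Group.isSolvable_of_ker_le_range g.ker.subtype g (by rw [range_subtype])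
  obtain ⟨X, hX⟩ := hf x
  obtain ⟨A0, hA0⟩ := hf a
  obtain ⟨B0, hB0⟩ := hf b
  obtain ⟨N, hN⟩ := hf n
  obtain ⟨A', -, hA', hA2⟩ := exists_two_element_lift f ha2 A0 hA0
  obtain ⟨B', -, hB', hB2⟩ := exists_two_element_lift f hb2 B0 hB0
  have hcen : ∀ g : G, f g = 1 → g ∈ center G := fun g hg => hker ▸ hg
  have hcA : Commute X A' := commute_of_coprime_pow
    (hcen _ (by rw [map_mul, map_mul, map_mul, map_inv, map_inv, hX, hA', hxa.eq]; group))
    (hcen _ (by rw [map_pow, hX, hx3])) (hcen _ (by rw [map_pow, hA', ha2]))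
  have hcB : Commute X B' := commute_of_coprime_pow
    (hcen _ (by rw [map_mul, map_mul, map_mul, map_inv, map_inv, hX, hB', hxb.eq]; group))
    (hcen _ (by rw [map_pow, hX, hx3])) (hcen _ (by rw [map_pow, hB', hb2]))
  have hmem : ∀ g c, c ∈ W0 → f g = c → g ∈ W := fun g c hc e => by
    show f g ∈ W0
    rw [e]; exact hc
  have hAB : Commute A' B' := h.commute_of_commute (H := W)
    (hmem X x (mem_sup_right (subset_closure (by simp))) hX)
    (hmem N n (mem_sup_left (mem_zpowers n)) hN)
    (fun hc => hnx (by rw [← hX, ← hN]; exact (hc.map f).symm))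
    (hmem A' a (mem_sup_right (subset_closure (by simp))) hA')
    (hmem B' b (mem_sup_right (subset_closure (by simp))) hB') hcA hcB
  -- a Sylow 2-subgroup containing both lifts
  have hz : ∀ g : G, (∃ k, g ^ 2 ^ k = 1) → IsPGroup 2 (zpowers g) := by
    rintro g ⟨k, hk⟩ ⟨_, i, rfl⟩
    refine ⟨k, Subtype.ext ?_⟩
    show (g ^ i) ^ 2 ^ k = 1
    rw [← zpow_natCast, ← zpow_mul, mul_comm, zpow_mul, zpow_natCast, hk, one_zpow]
  have hsub : IsPGroup 2 (zpowers A' ⊔ zpowers B' : Subgroup G) := by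
    refine (hz A' hA2).to_sup_of_normal_right' (hz B' hB2) ((zpowers_le).2 ?_)
    refine centralizer_le_normalizer _ (mem_centralizer_iff.2 fun g hg => ?_)
    obtain ⟨i, rfl⟩ := hg
    exact (hAB.zpow_right i).symm.eq
  obtain ⟨S', hS'⟩ := hsub.exists_le_sylow
  refine (nonabelian_case h S' (not_abOn_sylow S S' hna)).2 A'
    (hS' (mem_sup_left (mem_zpowers A'))) B' (hS' (mem_sup_right (mem_zpowers B'))) ?_ ?_ ?_ ?_ ?_ hAB
  · intro hc; rw [← hker, MonoidHom.mem_ker, hA'] at hc; exact ha1 hc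
  · intro hc; rw [← hker, MonoidHom.mem_ker, hB'] at hc; exact hb1 hc
  · intro hc
    rw [← hker, MonoidHom.mem_ker, map_mul, map_inv, hA', hB'] at hc
    exact hne (inv_mul_eq_one.1 hc)
  · exact hcen _ (by rw [map_pow, hA', ha2])
  · exact hcen _ (by rw [map_pow, hB', hb2])

end CfsgLib.MinNonCA
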