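import Cfsg.Agent.MinNonCA.Setup
import Cfsg.Agent.GW.PSLTorus
import Cfsg.Agent.DicksonPSL2.FourNormalizer
import Cfsg.Agent.DicksonPSL2.CoprimeCase

/-!
# A group as in `PSLSetup` is a CA-group
-/

set_option autoImplicit false
set_option linter.style.haveILetI false
set_option linter.unusedSectionVars false

namespace CfsgLib.MinNonCA

open Subgroup CfsgLib.SL2Trace CfsgLib.DicksonPSL2
open CfsgLib.SL2Tori (tr)
open scoped MatrixGroups

universe u

section PSL

variable {F : Type} [Field F] [Fintype F]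

theorem conj_injective (h4 : 4 ≤ Fintype.card F) {s t : PSL(2, F)}
    (h : MulAut.conj s = MulAut.conj t) : s = t := by
  refine (inv_mul_eq_one.1 (eq_one_of_forall_commute h4 fun y => ?_)).symm
  have h1 := congrArg (fun f : MulAut PSL(2, F) => f y) h
  simp only [MulAut.conj_apply] at h1
  show t⁻¹ * s * y = y * (t⁻¹ * s)
  calc t⁻¹ * s * y = t⁻¹ * (s * y * s⁻¹) * s := by group
    _ = t⁻¹ * (t * y * t⁻¹) * s := by rw [h1]
    _ = y * (t⁻¹ * s) := by group

theorem commute_conj_iff (h4 : 4 ≤ Fintype.card F) {β : MulAut PSL(2, F)} {s : PSL(2, F)} :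
    Commute β (MulAut.conj s) ↔ β s = s := by
  have e : β * MulAut.conj s = MulAut.conj (β s) * β := by
    ext y; simp [MulAut.conj_apply]
  constructor
  · intro h
    exact conj_injective h4 (mul_right_cancel (e.symm.trans h.eq))
  · intro h
    show β * MulAut.conj s = MulAut.conj s * β
    rw [e, h]

theorem exists_inverting_psl {s : PSL(2, F)} (hs : IsTor s) :
    ∃ n : PSL(2, F), n ∉ torus s ∧ n * s * n⁻¹ = s⁻¹ ∧ n * n = 1 := by
  obtain ⟨g, rfl, hg⟩ := hs
  obtain ⟨w, hw⟩ := SL2Tori.exists_inverting (g := g) hg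
  have h1 : proj w * proj g * (proj w)⁻¹ = (proj g)⁻¹ := by
    rw [← proj_inv, ← proj_inv, ← proj_mul, ← proj_mul, hw]
  have h2 : proj w ∉ torus (proj g) := by
    rw [proj_mem_torus_iff]
    intro e
    rw [e, mul_inv_cancel_right] at hw
    exact SL2Tori.inv_ne_self hg hw.symm
  exact ⟨proj w, h2, h1, ((mem_or_inverts (isTor_proj.2 hg)
    (h1 ▸ inv_mem (self_mem_torus _))).resolve_left h2).1⟩

theorem nine_le_or (h : Odd (Fintype.card F)) (h4 : 4 ≤ Fintype.card F) : 5 ≤ Fintype.card F := by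
  obtain ⟨k, hk⟩ := h; omega

end PSL

namespace PSLSetup

variable {G : Type u} [Group G] [Finite G] {F : Type} [Field F] [Fintype F] (D : PSLSetup G F)

/-- `g` acts as an inner automorphism. -/
def Inner (g : G) : Prop := ∃ s : PSL(2, F), D.Φ g = MulAut.conj s

theorem inner_coe (r : D.R) : D.Inner (r : G) := ⟨D.π r, D.Φ_coe r⟩

theorem Inner.mul {D : PSLSetup G F} {g g' : G} (h : D.Inner g) (h' : D.Inner g') :
    D.Inner (g * g') := by
  obtain ⟨s, hs⟩ := h; obtain ⟨t, ht⟩ := h'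
  exact ⟨s * t, by rw [map_mul, hs, ht, map_mul]⟩

theorem Inner.inv {D : PSLSetup G F} {g : G} (h : D.Inner g) : D.Inner g⁻¹ := by
  obtain ⟨s, hs⟩ := h
  exact ⟨s⁻¹, by rw [map_inv, hs, map_inv]⟩

theorem inner_of_fix {g : G} {w : F} (hw : w ≠ 0) (hg : D.Φ g (u w) = u w) : D.Inner g := by
  obtain ⟨v, hv⟩ := D.eq_conj_u_of_fix hw hg
  exact ⟨u v, hv⟩

theorem exists_lift {g : G} {s : PSL(2, F)} (hg : D.Φ g = MulAut.conj s) :
    ∃ r : D.R, D.π r = s ∧ (r : G)⁻¹ * g ∈ center G := by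
  obtain ⟨r, hr⟩ := D.hπ s
  exact ⟨r, hr, D.Φ_eq_iff.1 (by rw [Φ_coe, hr, hg])⟩

theorem inner_of_isSquare {g : G} {h : GL (Fin 2) F} {σ : F ≃+* F} (hg : D.Φ g = semi h σ)
    (hsq : IsSquare h.1.det) : D.Inner g := by
  obtain ⟨s, hs⟩ := semi_eq_conj_mul hsq σ
  obtain ⟨r, hr⟩ := D.hπ s
  have hτ : D.Φ ((r : G)⁻¹ * g) = semi 1 σ := by
    rw [map_mul, map_inv, Φ_coe, hr, hg, hs, inv_mul_cancel_left]
  obtain ⟨v, hv⟩ := D.eq_conj_u_of_fix one_ne_zero
    (show D.Φ ((r : G)⁻¹ * g) (u 1) = u 1 by rw [hτ, semi_one_u, map_one])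
  have hσ : σ = 1 := RingEquiv.ext fun t => u_injective (by
    rw [← semi_one_u, ← hτ, hv, MulAut.conj_apply, ← u_neg, ← u_add, ← u_add]
    exact congrArg u (show v + t + -v = t by ring))
  refine ⟨s, ?_⟩
  rw [hg, hs, hσ, semi, map_one, map_one, one_mul, map_one, mul_one]

theorem inner_of_even (he : Even (Fintype.card F)) (g : G) : D.Inner g := by
  obtain ⟨h, σ, hβ⟩ := exists_semilinear (D.Φ g)
  exact D.inner_of_isSquare hβ (FiniteField.isSquare_of_char_two
    (FiniteField.even_card_iff_char_two.2 (Nat.even_iff.1 he)) _)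

theorem inner_mul_of_not {g g' : G} (hg : ¬ D.Inner g) (hg' : ¬ D.Inner g') :
    D.Inner (g * g') := by
  classical
  obtain ⟨h, σ, hβ⟩ := exists_semilinear (D.Φ g)
  obtain ⟨h', σ', hβ'⟩ := exists_semilinear (D.Φ g')
  refine D.inner_of_isSquare (h := h * AutPSL.mapGL σ h') (σ := σ * σ')
    (by rw [map_mul, hβ, hβ', semi_mul]) ?_
  have hn : ¬ IsSquare h.1.det := fun hs => hg (D.inner_of_isSquare hβ hs)
  have hn' : ¬ IsSquare (σ h'.1.det) := fun hs =>
    hg' (D.inner_of_isSquare hβ' (by simpa using hs.map σ.symm))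
  rw [Units.val_mul, Matrix.det_mul,
    show (AutPSL.mapGL σ h').1.det = σ h'.1.det from (RingEquiv.map_det σ h'.1).symm,
    ← quadraticChar_one_iff_isSquare (mul_ne_zero (show h.1.det ≠ 0 from h.det.ne_zero)
      (show σ h'.1.det ≠ 0 from fun e => h'.det.ne_zero (σ.map_eq_zero_iff.1 e))), map_mul, quadraticChar_neg_one_iff_not_isSquare.2 hn,
    quadraticChar_neg_one_iff_not_isSquare.2 hn']
  rfl

/-- The preimage of the centraliser of `Φ x`. -/
noncomputable def X (x : G) : Subgroup G := (centralizer {D.Φ x}).comap D.Φ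

theorem mem_X {x g : G} : g ∈ D.X x ↔ Commute (D.Φ g) (D.Φ x) := by
  rw [X, mem_comap, mem_centralizer_singleton_iff]
  rfl

theorem self_mem_X (x : G) : x ∈ D.X x := D.mem_X.2 (Commute.refl _)

theorem mem_X_of_commute {x g : G} (h : Commute x g) : g ∈ D.X x := D.mem_X.2 (h.symm.map D.Φ)

theorem X_ne_top {x : G} (hx : x ∉ center G) : D.X x ≠ ⊤ := fun ht => hx (D.mem_center_of_Φ
  (eq_one_of_conj_comm D.h4 fun s => by
    obtain ⟨r, rfl⟩ := D.hπ s
    have := D.mem_X.1 (ht.symm ▸ mem_top (r : G) : (r : G) ∈ D.X x)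
    rw [Φ_coe] at this
    exact this.symm))

/-- The centraliser of `x` is abelian. -/
def AbC (_D : PSLSetup G F) (x : G) : Prop :=
  ∀ a b : G, Commute x a → Commute x b → Commute a b

theorem abC_of_not_full {x y : G} (hx : x ∉ center G) (hy : y ∈ D.X x) (hxy : ¬ Commute x y) :
    D.AbC x := fun a b ha hb =>
  D.hprop _ (D.X_ne_top hx) x (D.self_mem_X x) y hy hxy a (D.mem_X_of_commute ha) b
    (D.mem_X_of_commute hb) ha hb

theorem abC_conj {x : G} (g : G) (h : D.AbC (g * x * g⁻¹)) : D.AbC x := fun a b ha hb => by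
  have key := h (g * a * g⁻¹) (g * b * g⁻¹) (ha.map (MulAut.conj g)) (hb.map (MulAut.conj g))
  exact (MulAut.conj g).injective.eq_iff.1 (by rw [map_mul, map_mul]; exact key.eq)

theorem abC_of_moved {x n : G} {s : PSL(2, F)} (hs : D.Φ x = MulAut.conj s) (hs1 : s ≠ 1)
    (hn : ∀ g ∈ D.X x, n * g * n⁻¹ ∈ D.X x) (hnx : ¬ Commute x n) : D.AbC x := by
  haveI := D.hRn
  haveI := D.hRp
  have hN : n ∈ normalizer (D.X x : Set G) := by
    refine CfsgLib.Transfer.mem_normalizer_of_map_conj_eq (eq_of_le_of_card_ge ?_ (le_of_eq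
      (card_map_of_injective (MulAut.conj n).injective).symm))
    rintro _ ⟨g, hg, rfl⟩
    exact hn g hg
  have hne : normalizer (D.X x : Set G) ≠ ⊤ := by
    intro ht
    haveI : (D.X x).Normal := normalizer_eq_top_iff.1 ht
    haveI : ((D.X x).subgroupOf D.R).Normal := inferInstance
    obtain ⟨r, hr, hrz⟩ := D.exists_lift hs
    have hrX : (r : G) ∈ D.X x := D.mem_X.2 (by rw [Φ_coe, hr, hs])
    rcases normal_le_center_or_top (D.solvCA.comap D.R.subtype D.R.subtype_injective)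
      ((D.X x).subgroupOf D.R) with h | h
    · exact hs1 (hr ▸ (D.eq_one_iff r).2 (h (mem_subgroupOf.2 hrX)))
    · have h1 : D.Φ x = 1 := eq_one_of_conj_comm D.h4 fun t => by
        obtain ⟨r', rfl⟩ := D.hπ t
        have := D.mem_X.1 (mem_subgroupOf.1 (h.symm ▸ mem_top r' : r' ∈ (D.X x).subgroupOf D.R))
        rw [Φ_coe] at this
        exact this.symm
      rw [hs, ← map_one MulAut.conj] at h1
      exact hs1 (conj_injective D.h4 h1)
  exact fun a b ha hb => D.hprop _ hne x (le_normalizer (D.self_mem_X x)) n hN hnx a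
    (le_normalizer (D.mem_X_of_commute ha)) b (le_normalizer (D.mem_X_of_commute hb)) ha hb

theorem abC_u {x : G} {w : F} (hw : w ≠ 0) (hx : D.Φ x = MulAut.conj (u w)) : D.AbC x := by
  obtain ⟨d, hd, hchi⟩ := exists_chi_ne_one (F := F) D.h4
  obtain ⟨n, hn⟩ := D.hπ d
  have key : ∀ g ∈ D.X x, ∃ v, D.Φ g = MulAut.conj (u v) := fun g hg => by
    refine D.eq_conj_u_of_fix hw ((commute_conj_iff D.h4).1 ?_)
    rw [← hx]; exact D.mem_X.1 hg
  refine D.abC_of_moved (n := (n : G)) hx (u_ne_one hw) (fun g hg => ?_) fun hc => hchi ?_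
  · obtain ⟨v, hv⟩ := key g hg
    refine D.mem_X.2 ?_
    rw [map_mul, map_mul, map_inv, Φ_coe, hn, hv, hx, ← map_mul, ← map_inv, ← map_mul, conj_u hd]
    exact (show Commute (u (chi d * v)) (u w) by
      show u (chi d * v) * u w = u w * u (chi d * v)
      rw [← u_add, ← u_add, add_comm]).map MulAut.conj
  · have h1 := hc.map D.Φ
    rw [hx, Φ_coe, hn] at h1
    have h2 : u w * d * (u w)⁻¹ = d := by
      refine conj_injective D.h4 ?_
      rw [map_mul, map_mul, map_inv, h1.eq, mul_inv_cancel_right]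
    have h3 := conj_u hd w
    rw [show d * u w * d⁻¹ = u w by
      conv_lhs => rw [← mul_inv_eq_iff_eq_mul.1 h2]
      rw [mul_inv_cancel_right]] at h3
    exact mul_right_cancel₀ hw (by linear_combination -(u_injective h3))

theorem abC_inner {x : G} (hx : x ∉ center G) (hi : D.Inner x) : D.AbC x := by
  obtain ⟨s, hs⟩ := hi
  have hs1 : s ≠ 1 := fun e => hx (D.mem_center_of_Φ (by rw [hs, e, map_one]))
  by_cases htor : IsTor s
  swap
  · obtain ⟨a, w, ha⟩ := exists_conj_u htor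
    obtain ⟨r, hr⟩ := D.hπ a
    refine D.abC_conj (r : G) (D.abC_u (w := w) ?_ ?_)
    · rintro rfl
      rw [u_zero, conj_eq_one_iff] at ha
      exact hs1 ha
    · rw [map_mul, map_mul, map_inv, Φ_coe, hr, hs, ← map_mul, ← map_inv, ← map_mul, ha]
  obtain ⟨n, hnT, hns, hnn⟩ := exists_inverting_psl htor
  obtain ⟨rn, hrn⟩ := D.hπ n
  by_cases hs2 : s * s = 1
  · -- an involution
    have hodd : Odd (Fintype.card F) := by
      rw [← Nat.not_even_iff_odd]
      intro he
      haveI : Fact (Nat.Prime 2) := ⟨Nat.prime_two⟩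
      haveI : CharP F 2 :=
        ringChar.of_eq (FiniteField.even_card_iff_char_two.2 (Nat.even_iff.1 he))
      exact (isTor_iff_pow 2 s).1 htor (by rw [pow_two, hs2])
    rw [inv_eq_of_mul_eq_one_right hs2] at hns
    have hc : Commute n s := mul_inv_eq_iff_eq_mul.1 hns
    obtain ⟨r, hr, hrz⟩ := D.exists_lift hs
    refine D.abC_of_not_full hx (y := (rn : G)) (D.mem_X.2 ?_) fun hcx => ?_
    · rw [Φ_coe, hrn, hs]; exact hc.map MulAut.conj
    · refine D.hK hodd r rn (hr ▸ hs1) ?_ ?_ (by rw [hr, hs2]) (by rw [hrn, hnn])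
        (by rw [hr, hrn]; exact hc.symm) ?_
      · rw [hrn]; intro e; exact hnT (e ▸ one_mem _)
      · rw [hr, hrn]; intro e; exact hnT (e ▸ self_mem_torus s)
      · apply Subtype.ext
        have hz := fun g => mem_center_iff.1 (inv_mem hrz) g
        have e : (r : G) = x * ((r : G)⁻¹ * x)⁻¹ := by group
        show (r : G) * rn = rn * r
        rw [e, ← mul_assoc, ← hcx.eq, mul_assoc, mul_assoc, hz]
  · refine D.abC_of_moved (n := (rn : G)) hs hs1 (fun g hg => D.mem_X.2 ?_) fun hc => hs2 ?_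
    · have h1 : D.Φ rn * D.Φ x * (D.Φ rn)⁻¹ = (D.Φ x)⁻¹ := by
        rw [Φ_coe, hrn, hs, ← map_mul, ← map_inv, ← map_mul, hns, map_inv]
      have h2 := (D.mem_X.1 hg).map (MulAut.conj (D.Φ rn))
      simp only [MulAut.conj_apply, h1] at h2
      rw [map_mul, map_mul, map_inv]
      exact Commute.inv_right_iff.1 h2
    · have h1 := hc.map D.Φ
      rw [hs, Φ_coe, hrn] at h1
      have h3 : n * s * n⁻¹ = s := conj_injective D.h4 (by
        rw [map_mul, map_mul, map_inv, ← h1.eq, mul_inv_cancel_right])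
      rw [hns] at h3
      nth_rw 1 [← h3]
      exact inv_mul_cancel s

theorem commute_lifts_torus {c : PSL(2, F)} (hc : IsTor c) {a b : D.R} (ha : D.π a ∈ torus c)
    (hb : D.π b ∈ torus c) : Commute a b := by
  haveI := isCyclic_torus hc
  obtain ⟨g, hg⟩ := IsCyclic.exists_generator (α := torus c)
  obtain ⟨l, hl⟩ := D.hπ (g : PSL(2, F))
  obtain ⟨i, hi⟩ := mem_zpowers_iff.1 (hg ⟨_, ha⟩)
  obtain ⟨j, hj⟩ := mem_zpowers_iff.1 (hg ⟨_, hb⟩)
  refine D.commute_congr (a := l ^ i) (b := l ^ j) ?_ ?_ (Commute.zpow_zpow_self l i j)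
  · rw [map_zpow, hl, ← coe_zpow, hi]
  · rw [map_zpow, hl, ← coe_zpow, hj]

/-- The fixed points of `Φ x`. -/
noncomputable def Fix (x : G) : Subgroup PSL(2, F) :=
  MonoidHom.eqLocus (D.Φ x).toMonoidHom (MonoidHom.id _)

theorem mem_Fix {x : G} {s : PSL(2, F)} : s ∈ D.Fix x ↔ D.Φ x s = s := Iff.rfl

theorem isTor_of_fix {x : G} (hx : ¬ D.Inner x) {s : PSL(2, F)} (hs : s ∈ D.Fix x) (hs1 : s ≠ 1) :
    IsTor s := by
  by_contra ht
  obtain ⟨a, w, ha⟩ := exists_conj_u ht
  obtain ⟨r, hr⟩ := D.hπ a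
  have hw : w ≠ 0 := fun e => hs1 (conj_eq_one_iff.1 (by rw [ha, e, u_zero]))
  have hi : D.Inner ((r : G) * x * (r : G)⁻¹) := D.inner_of_fix hw (by
    rw [map_mul, map_mul, map_inv, MulAut.mul_apply, MulAut.mul_apply, Φ_coe, hr, ← map_inv,
      ← ha, MulAut.conj_apply, MulAut.conj_apply, inv_inv,
      show a⁻¹ * (a * s * a⁻¹) * a = s by group, D.mem_Fix.1 hs])
  refine hx ?_
  have := ((D.inner_coe r).inv.mul hi).mul (D.inner_coe r)
  rwa [show (r : G)⁻¹ * ((r : G) * x * (r : G)⁻¹) * r = x by group] at this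

theorem eq_of_fix_involutions (hodd : Odd (Fintype.card F)) {x : G} (hx : ¬ D.Inner x)
    {a b : PSL(2, F)} (ha : a ∈ D.Fix x) (hb : b ∈ D.Fix x) (ha1 : a ≠ 1) (haa : a * a = 1)
    (hb1 : b ≠ 1) (hbb : b * b = 1) (hc : a * b = b * a) : a = b := by
  by_contra hne
  obtain ⟨h, σ, hβ⟩ := exists_semilinear (D.Φ x)
  exact hx (D.inner_of_isSquare hβ (isSquare_det_of_klein hodd ha1 haa hb1 hbb hne hc
    (hβ ▸ D.mem_Fix.1 ha) (hβ ▸ D.mem_Fix.1 hb)))

/-- Lifts of commuting fixed points of an outer element commute. -/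
theorem commute_lifts_fix (hodd : Odd (Fintype.card F)) {x : G} (hx : ¬ D.Inner x) {a b : D.R}
    (ha : D.π a ∈ D.Fix x) (hb : D.π b ∈ D.Fix x) (hc : Commute (D.π a) (D.π b)) :
    Commute a b := by
  by_cases ha1 : D.π a = 1
  · exact (mem_center_iff.1 ((D.eq_one_iff a).1 ha1) b).symm
  have ht := D.isTor_of_fix hx ha ha1
  have hmem : D.π b * D.π a * (D.π b)⁻¹ = D.π a := by rw [← hc.eq, mul_inv_cancel_right]
  rcases mem_or_inverts ht (n := D.π b) (by rw [hmem]; exact self_mem_torus _) with h | ⟨hbb, hinv⟩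
  · exact D.commute_lifts_torus ht (self_mem_torus _) h
  · have h1 := hinv _ (self_mem_torus _)
    rw [hmem] at h1
    have haa : D.π a * D.π a = 1 := by nth_rw 1 [h1]; exact inv_mul_cancel _
    by_cases hb1 : D.π b = 1
    · exact mem_center_iff.1 ((D.eq_one_iff b).1 hb1) a
    · exact D.commute_lifts_torus ht (self_mem_torus _)
        (D.eq_of_fix_involutions hodd hx ha hb ha1 haa hb1 hbb hc ▸ self_mem_torus _)

/-- The fixed points of an outer element do not contain a dihedral pair. -/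
theorem dihedral_false (hodd : Odd (Fintype.card F)) {x : G} (hx : ¬ D.Inner x)
    (hfull : ∀ y ∈ D.X x, Commute x y) {x₀ t c : PSL(2, F)} (hx₀ : IsTor x₀)
    (hle : D.Fix x ≤ normalizer (torus x₀ : Set PSL(2, F))) (htT : t ∉ torus x₀)
    (ht : t ∈ D.Fix x) (hc : c ∈ D.Fix x) (htt : t * t = 1) (htc : t * c * t⁻¹ = c⁻¹)
    (hcc : c * c ≠ 1) : False := by
  classical
  have h4 := D.h4
  have ht1 : t ≠ 1 := fun e => htT (e ▸ one_mem _)
  have h2 : (2 : F) ≠ 0 := SL2Tori.two_ne_zero_of_odd hodd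
  have httor := D.isTor_of_fix hx ht ht1
  obtain ⟨tl, htl⟩ := D.hπ t
  have htlZ : (tl : G) ∉ center G := fun hz => ht1 (conj_injective h4 (by
    rw [← htl, ← Φ_coe, D.Φ_of_center hz, map_one]))
  have hab := D.abC_inner htlZ (D.inner_coe tl)
  have hxt : Commute (tl : G) x := (hfull _ (D.mem_X.2 (by
    rw [Φ_coe, htl]; exact ((commute_conj_iff h4).2 ht).symm))).symm
  -- the centraliser of `t` in the fixed points
  have hCt : ∀ y ∈ D.Fix x, t * y = y * t → y = 1 ∨ y = t := by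
    intro y hy hty
    refine or_iff_not_imp_left.2 fun hy1 => ?_
    have hyy : y * y = 1 := by
      rcases mem_or_inverts hx₀ ((mem_normalizer_torus_iff hx₀).1 (hle hy)) with h | h
      · have h' := ((mem_or_inverts hx₀ ((mem_normalizer_torus_iff hx₀).1 (hle ht))).resolve_left
          htT).2 y h
        rw [hty, mul_inv_cancel_right] at h'
        nth_rw 1 [h']
        exact inv_mul_cancel _
      · exact h.1
    exact D.eq_of_fix_involutions hodd hx hy ht hy1 hyy ht1 htt hty.symm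
  have htorus : ∀ y ∈ torus t, y = 1 ∨ y = t := by
    intro y hy
    obtain ⟨yl, hyl⟩ := D.hπ y
    have h1 : Commute (tl : G) (yl : G) :=
      (D.commute_lifts_torus httor (htl ▸ self_mem_torus t) (hyl ▸ hy)).map D.R.subtype
    have h2 := (hab x (yl : G) hxt h1).map D.Φ
    rw [Φ_coe, hyl] at h2
    exact hCt y ((commute_conj_iff h4).1 h2) (torus_comm httor (self_mem_torus t) hy)
  have h5 : Fintype.card F = 5 := by
    have hc2 : Nat.card (torus t) ≤ 2 := by
      refine (Nat.card_le_card_of_injective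
        (fun y : torus t => decide (y.1 = 1)) ?_).trans (by simp)
      intro y z e
      apply Subtype.ext
      rcases htorus _ y.2 with hy | hy <;> rcases htorus _ z.2 with hz | hz <;>
        simp [hy, hz, ht1] at e ⊢
    have hg : Nat.gcd 2 (Fintype.card F - 1) ≤ 2 := Nat.le_of_dvd two_pos (Nat.gcd_dvd_left _ _)
    have hm : Nat.gcd 2 (Fintype.card F - 1) * Nat.card (torus t) ≤ 4 :=
      (Nat.mul_le_mul hg hc2)
    obtain ⟨k, hk⟩ := hodd
    rcases card_torus httor with e | e <;> omega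
  obtain ⟨h, σ, hβ⟩ := exists_semilinear (D.Φ x)
  have hnsq : ¬ IsSquare h.1.det := fun hs => hx (D.inner_of_isSquare hβ hs)
  haveI : CharP F 5 := by
    obtain ⟨p, hp⟩ := CharP.exists F
    obtain ⟨n, hpp, hn⟩ := FiniteField.card F p
    have hd : p ∣ 5 := by rw [← h5, hn]; exact dvd_pow_self p n.ne_zero
    rwa [← (Nat.prime_dvd_prime_iff_eq hpp Nat.prime_five).1 hd]
  have hσ : σ = 1 := by
    haveI : Fact (Nat.Prime 5) := ⟨Nat.prime_five⟩
    have h1 : Nat.card (F ≃+* F) = 1 :=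
      RegLinear.card_ringAut (q := 5) (by rw [Nat.card_eq_fintype_card, h5, pow_one])
    haveI := (Nat.card_eq_one_iff_unique.1 h1).1
    exact Subsingleton.elim _ _
  subst hσ
  obtain ⟨N, rfl, hN⟩ := Forms.KleinPSL.exists_lift_of_orderOf_two h2 ht1 htt
  have htrN : tr N = 0 := Forms.KleinPSL.tr_eq_zero h2 hN
  have hdet : (1 + N.1 : Matrix (Fin 2) (Fin 2) F).det = 2 := by
    have hd := SL2Tori.det_combination N 1 1
    rw [one_smul, one_smul, htrN] at hd
    rw [hd]; norm_num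
  let g1 : GL (Fin 2) F :=
    Matrix.GeneralLinearGroup.mkOfDetNeZero (1 + N.1) (by rw [hdet]; exact h2)
  have hg1 : (g1 : Matrix (Fin 2) (Fin 2) F) = 1 + N.1 := rfl
  have hns2 : ¬ IsSquare (2 : F) := by
    rw [FiniteField.isSquare_two_iff, h5]; norm_num
  have hsq : IsSquare (g1 * h⁻¹).1.det := by
    have hdh : (h⁻¹).1.det = h.1.det⁻¹ := by
      refine eq_inv_of_mul_eq_one_left ?_
      rw [← Matrix.det_mul, Units.inv_mul, Matrix.det_one]
    rw [Units.val_mul, Matrix.det_mul, hdh, hg1, hdet,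
      ← quadraticChar_one_iff_isSquare (mul_ne_zero h2 (inv_ne_zero (show h.1.det ≠ 0 from h.det.ne_zero))), map_mul,
      quadraticChar_neg_one_iff_not_isSquare.2 hns2,
      quadraticChar_neg_one_iff_not_isSquare.2
        (show ¬ IsSquare (h.1.det)⁻¹ from fun e => hnsq (by simpa using e.inv))]
    rfl
  obtain ⟨s, hs⟩ := semi_eq_conj_mul hsq 1
  have hone : semi (F := F) 1 1 = 1 := by rw [semi, map_one, map_one, one_mul, map_one]
  rw [hone, mul_one] at hs
  obtain ⟨sl, hsl⟩ := D.hπ s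
  set y := (sl : G) * x with hy
  have hΦy : D.Φ y = semi g1 1 := by
    rw [hy, map_mul, Φ_coe, hsl, hβ, ← hs, semi_mul, mul_one]
    congr 1
    rw [show AutPSL.mapGL (1 : F ≃+* F) h = h from Units.ext (by ext i j; rfl), inv_mul_cancel_right]
  have hNN : N.1 * N.1 = -1 := by simpa using congrArg (fun g : SL(2, F) => g.1) hN
  have hΦyy : D.Φ (y * y) = D.Φ (tl : G) := by
    rw [map_mul, hΦy, semi_mul, mul_one, Φ_coe, htl,
      show AutPSL.mapGL (1 : F ≃+* F) g1 = g1 from Units.ext (by ext i j; rfl)]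
    have e : g1 * g1 = Matrix.GeneralLinearGroup.scalar (Fin 2) (Units.mk0 2 h2) *
        Matrix.SpecialLinearGroup.toGL N := by
      apply Units.ext
      show (1 + N.1) * (1 + N.1) = Matrix.scalar (Fin 2) (2 : F) * N.1
      rw [Matrix.scalar_apply, ← Matrix.smul_one_eq_diagonal, smul_mul_assoc, one_mul, add_mul,
        one_mul, mul_add, mul_one, hNN, two_smul]
      abel
    rw [e, semi_scalar_mul, semi_toGL, hone, mul_one]
    rfl
  have hyt : Commute (tl : G) y := by
    have hz := mem_center_iff.1 (D.Φ_eq_iff.1 hΦyy)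
    have e : (tl : G) = y * y * ((y * y)⁻¹ * tl) := by group
    show (tl : G) * y = y * tl
    rw [e, mul_assoc (y * y), ← hz y]
    group
  have hyx := (hab y x hyt hxt).map D.Φ
  rw [hΦy, hβ] at hyx
  have hm : AutPSL.mapGL (1 : F ≃+* F) h = h := Units.ext (by ext i j; rfl)
  have hm1 : AutPSL.mapGL (1 : F ≃+* F) g1 = g1 := Units.ext (by ext i j; rfl)
  obtain ⟨p, hp⟩ := CharP.exists F
  haveI : Fact p.Prime := ⟨CharP.char_is_prime F p⟩
  obtain ⟨l, hl⟩ : ∃ l : Fˣ, g1 * h = Matrix.GeneralLinearGroup.scalar (Fin 2) l * (h * g1) := by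
    have e1 := hyx.eq
    rw [semi_mul, semi_mul, mul_one, hm, hm1, semi, semi, map_one, mul_one, mul_one] at e1
    have e2 := AutPSL.toPSLAut_injective p e1
    obtain ⟨l, hl⟩ := AutPSL.conjSL_eq_one_iff.1
      (show AutPSL.conjSL (g1 * h * (h * g1)⁻¹) = 1 by rw [map_mul, e2, ← map_mul, mul_inv_cancel, map_one])
    exact ⟨l, by rw [← hl, inv_mul_cancel_right]⟩
  have hl' : (1 + N.1) * h.1 = (l : F) • (h.1 * (1 + N.1)) := by
    have := congrArg Units.val hl
    simp only [Units.val_mul, hg1] at this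
    rw [this]
    show Matrix.scalar (Fin 2) (l : F) * _ = _
    rw [Matrix.scalar_apply, ← Matrix.smul_one_eq_diagonal, smul_mul_assoc, one_mul]
  have hl1 : (l : F) = 1 := by
    have e := congrArg (fun M : Matrix (Fin 2) (Fin 2) F => Matrix.trace (M * (h⁻¹).1)) hl'
    simp only [mul_assoc, Units.mul_inv, mul_one, smul_mul_assoc, Matrix.trace_smul, smul_eq_mul] at e
    rw [← mul_assoc, Matrix.trace_mul_cycle, Units.inv_mul, one_mul, Matrix.trace_add,
      Matrix.trace_one, Fintype.card_fin] at e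
    change ((2 : ℕ) : F) + tr N = (l : F) * (((2 : ℕ) : F) + tr N) at e
    rw [htrN, add_zero, Nat.cast_ofNat] at e
    exact (mul_right_cancel₀ h2 ((one_mul (2 : F)).trans e)).symm
  rw [hl1, one_smul, add_mul, mul_add, one_mul, mul_one, add_right_inj] at hl'
  obtain ⟨a, b, hab'⟩ := SL2Tori.commute_exists
    (SL2Tori.nonScalar_of_sq_ne_four (Forms.KleinPSL.tr_sq_ne_four h2 hN)) hl'
  obtain ⟨C, rfl⟩ := SL2Trace.proj_surjective c
  have hfc : semi h 1 (SL2Trace.proj C) = SL2Trace.proj C := hβ ▸ hc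
  rw [semi_proj, map_one, MulAut.one_apply] at hfc
  have e0 : (AutPSL.conjSL h C).1 * h.1 = h.1 * C.1 := by
    rw [AutPSL.conjSL_coe, mul_assoc, Units.inv_mul, mul_one]
  rcases DicksonPSL2.proj_eq_proj_iff.1 hfc with e | e
  · -- `h` commutes with `C`
    have e1 : h.1 * C.1 = C.1 * h.1 := by rw [← e0]; exact congrArg (fun M : SL(2, F) => M.1 * h.1) e.symm
    rw [hab', add_mul, mul_add, smul_mul_assoc, smul_mul_assoc, mul_smul_comm, mul_smul_comm,
      one_mul, mul_one, add_right_inj, ← sub_eq_zero, ← smul_sub, smul_eq_zero] at e1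
    rcases e1 with hb | hNC
    · refine hnsq ⟨a, ?_⟩
      rw [hab', hb, zero_smul, add_zero, Matrix.det_smul, Matrix.det_one, Fintype.card_fin]
      ring
    · refine hcc ?_
      have e2 : N * C = C * N := Subtype.ext (sub_eq_zero.1 hNC)
      have e3 : (SL2Trace.proj C)⁻¹ = SL2Trace.proj C := by
        rw [← htc]
        show SL2Trace.proj N * SL2Trace.proj C * (SL2Trace.proj N)⁻¹ = SL2Trace.proj C
        rw [← proj_mul, e2, proj_mul, mul_inv_cancel_right]
      nth_rw 1 [← e3]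
      exact inv_mul_cancel _
  · refine hcc ?_
    have e1 : (AutPSL.conjSL h C).1 = -C.1 := by
      have := congrArg Subtype.val e
      simp only [Matrix.SpecialLinearGroup.coe_neg] at this
      rw [this, neg_neg]
    have htr : tr C = -tr C := by
      have := congrArg Matrix.trace e1
      rwa [AutPSL.conjSL_coe, Matrix.trace_mul_cycle, Units.inv_mul, one_mul,
        Matrix.trace_neg] at this
    have htr0 : tr C = 0 := mul_left_cancel₀ h2 (by linear_combination htr)
    rw [← proj_mul, SL2Trace.proj_eq_one_iff]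
    refine Or.inr (Subtype.ext ?_)
    have hcay := cayley C (tr C) rfl
    rw [htr0, zero_smul, sub_zero, pow_two] at hcay
    rw [Matrix.SpecialLinearGroup.coe_mul, eq_neg_of_add_eq_zero_left hcay]
    simp

theorem abC_outer {x : G} (hx : x ∉ center G) (hi : ¬ D.Inner x) : D.AbC x := by
  classical
  have hodd : Odd (Fintype.card F) :=
    Nat.not_even_iff_odd.1 fun he => hi (D.inner_of_even he x)
  by_cases hfull : ∀ y ∈ D.X x, Commute x y
  swap
  · push Not at hfull
    obtain ⟨y, hy, hxy⟩ := hfull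
    exact D.abC_of_not_full hx hy hxy
  -- it suffices that lifts of fixed points commute
  suffices hL : ∀ a b : D.R, D.π a ∈ D.Fix x → D.π b ∈ D.Fix x → Commute a b by
    have dec : ∀ g ∈ D.X x, ∃ (a : D.R) (z e : G), D.π a ∈ D.Fix x ∧ z ∈ center G ∧
        (e = 1 ∨ e = x) ∧ g = (a : G) * z * e := by
      have inner_dec : ∀ g ∈ D.X x, D.Inner g → ∃ (a : D.R) (z : G), D.π a ∈ D.Fix x ∧
          z ∈ center G ∧ g = (a : G) * z := by
        rintro g hg ⟨s, hs⟩
        obtain ⟨a, ha, haz⟩ := D.exists_lift hs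
        refine ⟨a, _, ?_, haz, (mul_inv_cancel_left _ _).symm⟩
        rw [ha, D.mem_Fix, ← commute_conj_iff D.h4, ← hs]
        exact (D.mem_X.1 hg).symm
      intro g hg
      by_cases hgi : D.Inner g
      · obtain ⟨a, z, h1, h2, h3⟩ := inner_dec g hg hgi
        exact ⟨a, z, 1, h1, h2, Or.inl rfl, by rw [mul_one, h3]⟩
      · have hxi : ¬ D.Inner x⁻¹ := fun h => hi (by simpa using h.inv)
        obtain ⟨a, z, h1, h2, h3⟩ := inner_dec (g * x⁻¹) (mul_mem hg (inv_mem (D.self_mem_X x)))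
          (D.inner_mul_of_not hgi hxi)
        exact ⟨a, z, x, h1, h2, Or.inr rfl, by rw [← h3, inv_mul_cancel_right]⟩
    intro g g' hg hg'
    obtain ⟨a, z, e, ha, hz, he, rfl⟩ := dec g (D.mem_X_of_commute hg)
    obtain ⟨b, z', e', hb, hz', he', rfl⟩ := dec g' (D.mem_X_of_commute hg')
    have hzc : ∀ y, Commute z y := fun y => (mem_center_iff.1 hz y).symm
    have hzc' : ∀ y, Commute y z' := fun y => mem_center_iff.1 hz' y
    have hax : ∀ c : D.R, D.π c ∈ D.Fix x → Commute x (c : G) := fun c hc => hfull _ (D.mem_X.2 (by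
      rw [Φ_coe]; exact ((commute_conj_iff D.h4).2 hc).symm))
    have hab : Commute (a : G) (b : G) := (hL a b ha hb).map D.R.subtype
    have hae : ∀ c : D.R, D.π c ∈ D.Fix x → ∀ e₀, (e₀ = 1 ∨ e₀ = x) → Commute (c : G) e₀ := by
      rintro c hc e₀ (rfl | rfl)
      · exact Commute.one_right _
      · exact (hax c hc).symm
    have hee : Commute e e' := by
      rcases he with rfl | rfl <;> rcases he' with rfl | rfl <;>
        first | exact Commute.one_left _ | exact Commute.one_right _ | exact Commute.refl _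
    exact ((((hab.mul_right (hzc' a)).mul_right (hae a ha e' he')).mul_left
      (((hzc b).mul_right (hzc' z)).mul_right (hzc e'))).mul_left
      (((hae b hb e he).symm.mul_right (hzc' e)).mul_right hee))
  intro a b ha hb
  by_contra hab
  have hne : ¬ Commute (D.π a) (D.π b) := fun hc => hab (D.commute_lifts_fix hodd hi ha hb hc)
  set L := D.Fix x
  obtain ⟨p, hp⟩ := CharP.exists F
  haveI : Fact p.Prime := ⟨CharP.char_is_prime F p⟩
  have hpL : ¬ p ∣ Nat.card L := by
    intro hd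
    obtain ⟨⟨s, hsL⟩, hso⟩ := exists_prime_orderOf_dvd_card' p hd
    rw [Subgroup.orderOf_mk] at hso
    have hs1 : s ≠ 1 := fun e => (Fact.out : p.Prime).ne_one (by rw [← hso, e, orderOf_one])
    exact (isTor_iff_pow p s).1 (D.isTor_of_fix hi hsL hs1) (hso ▸ pow_orderOf_eq_one s)
  have hfour : ∀ {M : Type} [Group M] [Finite M] (f : M →* PSL(2, F)), Function.Injective f →
      f.range ≤ L → (∃ V : Subgroup M, V.Normal ∧ Nat.card V = 4 ∧ ∀ v ∈ V, v * v = 1) → False := by
    rintro M _ _ f hf hle ⟨V, hV, hV4, hexp⟩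
    haveI : Fintype V := Fintype.ofFinite _
    have hcard : 1 < ((Finset.univ : Finset V).erase 1).card := by
      rw [Finset.card_erase_of_mem (Finset.mem_univ _), Finset.card_univ,
        ← Nat.card_eq_fintype_card, hV4]
      norm_num
    obtain ⟨v, hv, w, hw, hvw⟩ := Finset.one_lt_card.1 hcard
    have h1 : ∀ v : V, v ≠ 1 → f v.1 ≠ 1 := fun v hv e =>
      hv (Subtype.ext (hf (by rw [e, OneMemClass.coe_one, map_one])))
    refine hvw (Subtype.ext (hf (D.eq_of_fix_involutions hodd hi (hle ⟨_, rfl⟩) (hle ⟨_, rfl⟩)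
      (h1 v (Finset.ne_of_mem_erase hv)) (by rw [← map_mul, hexp _ v.2, map_one])
      (h1 w (Finset.ne_of_mem_erase hw)) (by rw [← map_mul, hexp _ w.2, map_one]) ?_)))
    rw [← map_mul, ← map_mul]
    congr 1
    have h := hexp _ (mul_mem v.2 w.2)
    calc (v : M) * w = v * ((v : M) * w * (v * w)) * w := by rw [h, mul_one]
      _ = (v * v) * (w * v) * (w * w) := by simp only [mul_assoc]
      _ = w * v := by rw [hexp _ v.2, hexp _ w.2, one_mul, mul_one]
  rcases coprime_case p hpL with h | ⟨x₀, hx₀, hle⟩ | ⟨-, -, ⟨e⟩⟩ | ⟨-, -, ⟨e⟩⟩ | ⟨-, -, ⟨e⟩⟩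
  · have h1 : D.π a = 1 := mem_bot.1 (h ▸ ha)
    exact hne (h1 ▸ Commute.one_left _)
  · have key : ∀ s ∈ L, s ∈ torus x₀ ∨ (s * s = 1 ∧ ∀ y ∈ torus x₀, s * y * s⁻¹ = y⁻¹) :=
      fun s hs => mem_or_inverts hx₀ ((mem_normalizer_torus_iff hx₀).1 (hle hs))
    have build : ∀ t c, t ∈ L → c ∈ L → c ∈ torus x₀ → t ∉ torus x₀ → ¬ Commute t c → False := by
      intro t c ht hc hcT htT hntc
      obtain ⟨htt, hinv⟩ := (key t ht).resolve_left htT
      have htc := hinv c hcT
      refine D.dihedral_false hodd hi hfull hx₀ hle htT ht hc htt htc fun hcc => hntc ?_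
      rw [inv_eq_of_mul_eq_one_right hcc] at htc
      exact mul_inv_eq_iff_eq_mul.1 htc
    by_cases haT : D.π a ∈ torus x₀ <;> by_cases hbT : D.π b ∈ torus x₀
    · exact hne (torus_comm hx₀ haT hbT)
    · exact build _ _ hb ha haT hbT fun h => hne h.symm
    · exact build _ _ ha hb hbT haT hne
    · refine build _ ((D.π b)⁻¹ * D.π a) hb (mul_mem (inv_mem hb) ha)
        (div_mem_torus hx₀ ((mem_normalizer_torus_iff hx₀).1 (hle ha))
          ((mem_normalizer_torus_iff hx₀).1 (hle hb)) haT hbT) hbT fun h => hne ?_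
      have h' := (Commute.refl (D.π b)).mul_right h
      rw [mul_inv_cancel_left] at h'
      exact h'.symm
  · exact hfour (L.subtype.comp e.symm.toMonoidHom) (L.subtype_injective.comp e.symm.injective)
      (fun _ ⟨m, hm⟩ => hm ▸ (e.symm m).2) exists_four_alt
  · exact hfour (L.subtype.comp e.symm.toMonoidHom) (L.subtype_injective.comp e.symm.injective)
      (fun _ ⟨m, hm⟩ => hm ▸ (e.symm m).2) exists_four_perm
  · obtain ⟨f, hf⟩ := exists_alt_four_to_five
    exact hfour ((L.subtype.comp e.symm.toMonoidHom).comp f)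
      ((L.subtype_injective.comp e.symm.injective).comp hf)
      (fun _ ⟨m, hm⟩ => hm ▸ (e.symm (f m)).2) exists_four_alt

include D in
/-- The group is a CA-group. -/
theorem caOn_top : CAOn (⊤ : Subgroup G) := by
  intro x _ y _ hxy a _ b _ hxa hxb
  have hx : x ∉ center G := fun hz => hxy (mem_center_iff.1 hz y).symm
  by_cases hi : D.Inner x
  · exact D.abC_inner hx hi a b hxa hxb
  · exact D.abC_outer hx hi a b hxa hxb

end PSLSetup

end CfsgLib.MinNonCA
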