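import Cfsg.Agent.MinNonCA.CA
import Cfsg.Agent.DicksonPSL2.ElementOrders
import Cfsg.Agent.DicksonPSL2.SubfieldFacts
import Cfsg.Agent.FieldEmb.Basic
import Cfsg.Agent.MultPSL.Main

/-!
# `PSL(2, q)` for the exceptional `q` is minimal non-CA
-/

set_option autoImplicit false
set_option linter.style.haveILetI false
set_option linter.unusedSectionVars false

namespace CfsgLib.MinNonCA

open Subgroup CfsgLib.SL2Trace CfsgLib.DicksonPSL2
open scoped MatrixGroups

universe u

theorem caOn_map_iff {G H : Type*} [Group G] [Group H] (f : G →* H) (hf : Function.Injective f)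
    (K : Subgroup G) : CAOn (K.map f) ↔ CAOn K := by
  have hc : ∀ {a b : G}, Commute (f a) (f b) ↔ Commute a b := fun {a b} =>
    ⟨fun e => hf (by rw [map_mul, map_mul]; exact e.eq), fun e => e.map f⟩
  constructor
  · exact fun h x hx y hy hxy a ha b hb hxa hxb => hc.1 (h _ (mem_map_of_mem f hx) _
      (mem_map_of_mem f hy) (fun e => hxy (hc.1 e)) _ (mem_map_of_mem f ha) _ (mem_map_of_mem f hb)
      (hxa.map f) (hxb.map f))
  · rintro h _ ⟨x, hx, rfl⟩ _ ⟨y, hy, rfl⟩ hxy _ ⟨a, ha, rfl⟩ _ ⟨b, hb, rfl⟩ hxa hxb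
    exact (h x hx y hy (fun e => hxy (e.map f)) a ha b hb (hc.1 hxa) (hc.1 hxb)).map f

theorem caOn_top_of_equiv {G H : Type*} [Group G] [Group H] (e : G ≃* H)
    (h : CAOn (⊤ : Subgroup G)) : CAOn (⊤ : Subgroup H) := by
  have := (caOn_map_iff e.toMonoidHom e.injective ⊤).2 h
  rwa [map_top_of_surjective _ e.surjective] at this

/-- In a group with elements of order at most two or of odd order, centralisers of involutions
have exponent two. -/
theorem sq_eq_one_of_orders {M : Type*} [Group M]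
    (hM : ∀ g : M, g ^ 2 = 1 ∨ ∃ r, Odd r ∧ g ^ r = 1) {t c : M} (ht : t ^ 2 = 1) (ht1 : t ≠ 1)
    (hc : Commute t c) : c ^ 2 = 1 := by
  rcases hM c with h | ⟨r, hr, hcr⟩
  · exact h
  rcases hM (t * c) with h | ⟨k, hk, htk⟩
  · rwa [hc.mul_pow, ht, one_mul] at h
  · have hodd : ∀ {n : ℕ}, Odd n → t ^ n = t := by
      rintro n ⟨j, rfl⟩
      rw [pow_succ, pow_mul, ht, one_pow, one_mul]
    rw [hc.mul_pow, hodd hk] at htk
    refine absurd ?_ ht1
    rw [← hodd hr, eq_inv_of_mul_eq_one_left htk, inv_pow, ← pow_mul, mul_comm, pow_mul, hcr,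
      one_pow, inv_one]

variable {F : Type} [Field F] [Fintype F]

theorem isTor_involution (hodd : Odd (Fintype.card F)) {t : PSL(2, F)} (ht : t * t = 1)
    (ht1 : t ≠ 1) : IsTor t := by
  obtain ⟨p, hp⟩ := CharP.exists F
  haveI : Fact p.Prime := ⟨CharP.char_is_prime F p⟩
  obtain ⟨n, hpp, hn⟩ := FiniteField.card F p
  rw [isTor_iff_pow p]
  have hpo : Odd p := by
    rw [hn, Nat.odd_pow_iff n.ne_zero] at hodd
    exact hodd
  obtain ⟨j, rfl⟩ := hpo
  rw [pow_succ, pow_mul, pow_two, ht, one_pow, one_mul]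
  exact ht1

theorem gcd_two_odd (hodd : Odd (Fintype.card F)) : Nat.gcd 2 (Fintype.card F - 1) = 2 := by
  obtain ⟨k, hk⟩ := hodd
  exact Nat.gcd_eq_left ⟨k, by omega⟩

theorem sq_eq_one_small (hodd : Odd (Fintype.card F)) (h5 : Fintype.card F ≤ 5)
    {t c : PSL(2, F)} (ht : t * t = 1) (ht1 : t ≠ 1) (hc : Commute t c) : c * c = 1 := by
  have htor := isTor_involution hodd ht ht1
  rcases mem_or_inverts htor (n := c) (by rw [← hc.eq, mul_inv_cancel_right]; exact self_mem_torus t)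
    with h | h
  · have h1 : orderOf t = 2 := orderOf_eq_prime (by rw [pow_two, ht]) ht1
    have h2 : 2 ∣ Nat.card (torus t) :=
      (dvd_of_eq h1.symm).trans (Subgroup.orderOf_dvd_natCard _ (self_mem_torus t))
    have h3 : Nat.card (torus t) = 2 := by
      obtain ⟨k, hk⟩ := h2
      have hpos : 0 < Nat.card (torus t) := Nat.card_pos
      rcases card_torus htor with e | e <;> rw [gcd_two_odd hodd] at e <;> omega
    have h4 : (⟨c, h⟩ : torus t) ^ 2 = 1 :=
      orderOf_dvd_iff_pow_eq_one.1 ((_root_.orderOf_dvd_natCard _).trans (dvd_of_eq h3))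
    rw [← pow_two]
    exact congrArg Subtype.val h4
  · exact h.1

/-- The only obstruction to the CA property inside `PSL(2, q)`, `q` odd. -/
theorem caOn_of_no_dihedral (hodd : Odd (Fintype.card F)) {H : Subgroup PSL(2, F)}
    (h : ∀ t ∈ H, ∀ a ∈ H, ∀ c ∈ H, t * t = 1 → t ≠ 1 → (∃ y ∈ H, ¬ Commute t y) →
      Commute t a → a ∉ torus t → c ∈ torus t → c * c ≠ 1 → False) : CAOn H := by
  intro x hx y hy hxy a ha b hb hxa hxb
  have hx1 : x ≠ 1 := fun e => hxy (e ▸ Commute.one_left y)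
  by_cases htor : IsTor x
  swap
  · obtain ⟨g, w, hg⟩ := exists_conj_u htor
    have hw : w ≠ 0 := fun e => hx1 (conj_eq_one_iff.1 (by rw [hg, e, u_zero]))
    have key : ∀ {z}, Commute x z → ∃ v, g * z * g⁻¹ = u v := fun {z} hz => by
      refine exists_eq_u_of_comm hw ?_
      rw [← hg]
      exact (hz.map (MulAut.conj g)).symm.eq
    obtain ⟨v₁, h₁⟩ := key hxa
    obtain ⟨v₂, h₂⟩ := key hxb
    refine (MulAut.conj g).injective.eq_iff.1 ?_
    simp only [map_mul, MulAut.conj_apply, h₁, h₂, ← u_add, add_comm]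
  have hmem : ∀ {z}, Commute x z → z ∈ torus x ∨ (z * z = 1 ∧ x * x = 1) := fun {z} hz => by
    rcases mem_or_inverts htor (n := z)
      (by rw [← hz.eq, mul_inv_cancel_right]; exact self_mem_torus x) with h' | ⟨h1, h2⟩
    · exact Or.inl h'
    · have e := h2 x (self_mem_torus x)
      rw [← hz.eq, mul_inv_cancel_right] at e
      refine Or.inr ⟨h1, ?_⟩
      nth_rw 1 [e]
      exact inv_mul_cancel x
  by_cases hab : a ∈ torus x ∧ b ∈ torus x
  · exact torus_comm htor hab.1 hab.2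
  obtain ⟨z, hzH, hxz, hzT⟩ : ∃ z ∈ H, Commute x z ∧ z ∉ torus x := by
    rcases not_and_or.1 hab with h' | h'
    · exact ⟨a, ha, hxa, h'⟩
    · exact ⟨b, hb, hxb, h'⟩
  have hxx : x * x = 1 := ((hmem hxz).resolve_left hzT).2
  have hsq : ∀ c ∈ H, Commute x c → c * c = 1 := fun c hc hxc =>
    (hmem hxc).elim (fun hcT => by_contra fun hcc =>
      h x hx z hzH c hc hxx hx1 ⟨y, hy, hxy⟩ hxz hzT hcT hcc) (·.1)
  have e := hsq _ (mul_mem ha hb) (hxa.mul_right hxb)
  show a * b = b * a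
  calc a * b = a * (a * b * (a * b)) * b := by rw [e, mul_one, ]
    _ = (a * a) * (b * a) * (b * b) := by simp only [mul_assoc]
    _ = b * a := by rw [hsq a ha hxa, hsq b hb hxb, one_mul, mul_one]

theorem no_klein_BP (hodd : Odd (Fintype.card F)) {t a : PSL(2, F)} (htB : t ∈ BP) (haB : a ∈ BP)
    (ht : t * t = 1) (ht1 : t ≠ 1) (ha : a * a = 1) (ha1 : a ≠ 1) (hta : Commute t a) : a = t := by
  have key : ∀ {z : PSL(2, F)}, z ∈ BP → z * z = 1 → z ≠ 1 → chi z = -1 := fun {z} hzB hz hz1 => by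
    have h1 : chi z * chi z = 1 := by rw [← chi_mul z hzB, hz, chi_one]
    refine (mul_self_eq_one_iff.1 h1).resolve_left fun h2 => ?_
    obtain ⟨w, rfl⟩ := eq_u_of_chi_eq_one hzB h2
    exact not_isTor_u w (isTor_involution hodd hz hz1)
  have h3 : chi (t * a) = 1 := by rw [chi_mul t haB, key htB ht ht1, key haB ha ha1]; ring
  obtain ⟨w, hw⟩ := eq_u_of_chi_eq_one (mul_mem htB haB) h3
  have hta1 : t * a = 1 := by
    by_contra hne
    refine not_isTor_u w (hw ▸ isTor_involution hodd ?_ hne)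
    rw [mul_assoc, ← mul_assoc a t a, ← hta.eq, mul_assoc t a a, ha, mul_one, ht]
  rw [← inv_eq_of_mul_eq_one_right hta1, inv_eq_of_mul_eq_one_right ht]

theorem not_sixteen_dvd {q : ℕ} (h : q % 8 = 3 ∨ q % 8 = 5) : ¬ 16 ∣ q ^ 2 - 1 := by
  have hd := Nat.div_add_mod q 8
  rintro ⟨c, hc⟩
  rcases h with h | h <;> rw [h] at hd
  · have e : q ^ 2 = 16 * (4 * (q / 8) ^ 2 + 3 * (q / 8)) + 9 := by
      conv_lhs => rw [← hd]
      ring
    omega
  · have e : q ^ 2 = 16 * (4 * (q / 8) ^ 2 + 5 * (q / 8) + 1) + 9 := by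
      conv_lhs => rw [← hd]
      ring
    omega

theorem mod_eight_of_not_sixteen_dvd {q : ℕ} (ho : Odd q) (h : ¬ 16 ∣ q ^ 2 - 1) :
    q % 8 = 3 ∨ q % 8 = 5 := by
  by_contra hcon
  have h2 : q % 8 = 1 ∨ q % 8 = 7 := by obtain ⟨j, hj⟩ := ho; omega
  have hd := Nat.div_add_mod q 8
  refine h ?_
  rcases h2 with h2 | h2 <;> rw [h2] at hd
  · have e : q ^ 2 = 16 * (4 * (q / 8) ^ 2 + q / 8) + 1 := by
      conv_lhs => rw [← hd]
      ring
    exact ⟨4 * (q / 8) ^ 2 + q / 8, by omega⟩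
  · have e : q ^ 2 = 16 * (4 * (q / 8) ^ 2 + 7 * (q / 8) + 3) + 1 := by
      conv_lhs => rw [← hd]
      ring
    exact ⟨4 * (q / 8) ^ 2 + 7 * (q / 8) + 3, by omega⟩

theorem odd_of_mod_eight {q : ℕ} (h : q % 8 = 3 ∨ q % 8 = 5) : Odd q := Nat.odd_iff.2 (by omega)

theorem not_eight_dvd (h8 : Fintype.card F % 8 = 3 ∨ Fintype.card F % 8 = 5) :
    ¬ 8 ∣ Nat.card PSL(2, F) := by
  have hodd := odd_of_mod_eight h8
  rintro ⟨c, hc⟩
  have h2 := CfsgLib.Linear.card_PSL_two_odd (F := F) hodd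
  rw [hc] at h2
  refine not_sixteen_dvd h8 ?_
  have hcop : Nat.Coprime 16 (Fintype.card F) := by
    rw [show (16 : ℕ) = 2 ^ 4 by norm_num]
    exact Nat.Coprime.pow_left 4 ((Nat.prime_two.coprime_iff_not_dvd).2 (by omega))
  exact hcop.dvd_of_dvd_mul_left ⟨c, by rw [← h2]; ring⟩

/-- `PSL(2, q)`, `q ≡ ±3 mod 8`, `q > 5`, is not a CA-group. -/
theorem psl_not_ca (hodd : Odd (Fintype.card F)) (h7 : 5 < Fintype.card F) :
    ¬ CAOn (⊤ : Subgroup PSL(2, F)) := by
  intro hCA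
  haveI : Fact (Nat.Prime 2) := ⟨Nat.prime_two⟩
  have h2 : 2 ∣ Nat.card PSL(2, F) := by
    have h1 := CfsgLib.Linear.card_PSL_two_odd (F := F) hodd
    have h4 : 4 ∣ Fintype.card F * (Fintype.card F ^ 2 - 1) := by
      obtain ⟨k, hk⟩ := hodd
      refine dvd_mul_of_dvd_right ⟨k ^ 2 + k, ?_⟩ _
      have : Fintype.card F ^ 2 = 4 * (k ^ 2 + k) + 1 := by rw [hk]; ring
      omega
    omega
  obtain ⟨t, ht⟩ := exists_prime_orderOf_dvd_card' 2 h2
  have htt : t * t = 1 := by rw [← pow_two]; exact orderOf_dvd_iff_pow_eq_one.1 (dvd_of_eq ht)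
  have ht1 : t ≠ 1 := fun e => by rw [e, orderOf_one] at ht; omega
  have htor := isTor_involution hodd htt ht1
  obtain ⟨n, hnT, hnt, -⟩ := exists_inverting_psl htor
  haveI := isCyclic_torus htor
  obtain ⟨c, hc⟩ := IsCyclic.exists_generator (α := torus t)
  have hcc : (c : PSL(2, F)) * c ≠ 1 := by
    intro e
    have h4 : orderOf c ∣ 2 := orderOf_dvd_of_pow_eq_one (Subtype.ext (by rw [pow_two]; exact e))
    rw [orderOf_eq_card_of_forall_mem_zpowers hc] at h4
    have := Nat.le_of_dvd two_pos h4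
    rcases card_torus htor with e | e <;> rw [gcd_two_odd hodd] at e <;> omega
  have hinv := ((mem_or_inverts htor (n := n) (by rw [hnt]; exact inv_mem (self_mem_torus t))
    ).resolve_left hnT).2 c c.2
  rw [inv_eq_of_mul_eq_one_right htt] at hnt
  obtain ⟨y, hy⟩ : ∃ y, ¬ Commute t y := by
    by_contra hcon
    push Not at hcon
    exact ht1 (eq_one_of_forall_commute (by omega) hcon)
  have hnc := hCA t (mem_top _) y (mem_top _) hy n (mem_top _) c (mem_top _)
    (mul_inv_eq_iff_eq_mul.1 hnt).symm (torus_comm htor (self_mem_torus t) c.2)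
  rw [hnc.eq, mul_inv_cancel_right] at hinv
  exact hcc (by nth_rw 1 [hinv]; exact inv_mul_cancel _)

/-- All proper subgroups of `PSL(2, q)` are CA-groups when `q > 5`, `q ≡ ±3 mod 8` and every
proper subfield has at most five elements. -/
theorem proper_ca (h8 : Fintype.card F % 8 = 3 ∨ Fintype.card F % 8 = 5)
    (hsub : ∀ Q m : ℕ, Q ^ m = Fintype.card F → Q = Fintype.card F ∨ Q = 3 ∨ Q = 5)
    {H : Subgroup PSL(2, F)} (hH : H ≠ ⊤) : CAOn H := by
  classical
  have hodd := odd_of_mod_eight h8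
  obtain ⟨p, hp⟩ := CharP.exists F
  haveI : Fact p.Prime := ⟨CharP.char_is_prime F p⟩
  refine caOn_of_no_dihedral hodd fun t ht a ha c hc htt ht1 hy hta haT hcT hcc => ?_
  have htor := isTor_involution hodd htt ht1
  have htc : Commute t c := torus_comm htor (self_mem_torus t) hcT
  have hexp : ∀ {M : Type} [Group M] (e : H ≃* M),
      (∀ t' c' : M, t' ^ 2 = 1 → t' ≠ 1 → Commute t' c' → c' ^ 2 = 1) → False := by
    intro M _ e hM
    refine hcc ?_
    have h1 := hM (e ⟨t, ht⟩) (e ⟨c, hc⟩)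
      (by rw [← map_pow, pow_two, show (⟨t, ht⟩ : H) * ⟨t, ht⟩ = 1 from Subtype.ext htt, map_one])
      (fun h => ht1 (congrArg Subtype.val (e.map_eq_one_iff.1 h)))
      ((show Commute (⟨t, ht⟩ : H) ⟨c, hc⟩ from Subtype.ext htc.eq).map e.toMonoidHom)
    rw [← map_pow, e.map_eq_one_iff, pow_two] at h1
    exact congrArg Subtype.val h1
  rcases subgroup_cases_sharp p H with
    ⟨g, hg⟩ | ⟨x₀, hx₀, hle⟩ | ⟨-, -, ⟨e⟩⟩ | ⟨h24, -, -⟩ | ⟨-, -, ⟨e⟩⟩ | hsf
  · have hm : ∀ z ∈ H, MulAut.conj g z ∈ (BP : Subgroup PSL(2, F)) := fun z hz =>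
      hg (mem_conjS.2 (by simpa [mul_assoc] using hz))
    refine haT ?_
    have haa : a * a = 1 := by
      refine ((mem_or_inverts htor (n := a) ?_).resolve_left haT).1
      rw [← hta.eq, mul_inv_cancel_right]; exact self_mem_torus t
    rw [(MulAut.conj g).injective (no_klein_BP hodd (hm t ht) (hm a ha)
      (by rw [← map_mul, htt, map_one]) (fun e => ht1 ((MulAut.conj g).map_eq_one_iff.1 e))
      (by rw [← map_mul, haa, map_one])
      (fun e => haT ((MulAut.conj g).map_eq_one_iff.1 e ▸ one_mem _)) (hta.map (MulAut.conj g)))]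
    exact self_mem_torus t
  · have key : ∀ z ∈ H, z ∈ torus x₀ ∨ (z * z = 1 ∧ ∀ v ∈ torus x₀, z * v * z⁻¹ = v⁻¹) :=
      fun z hz => mem_or_inverts hx₀ ((mem_normalizer_torus_iff hx₀).1 (hle hz))
    have hc1 : c ≠ 1 := fun e => hcc (by rw [e, one_mul])
    have hc0 : c ∈ torus x₀ := (key c hc).resolve_right fun h => hcc h.1
    have ht0 : t ∈ torus x₀ := by
      rw [← (isTor_of_mem_torus hx₀ hc0 hc1).2, (isTor_of_mem_torus htor hcT hc1).2]
      exact self_mem_torus t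
    obtain ⟨y, hy, hty⟩ := hy
    rcases key y hy with h | ⟨-, h⟩
    · exact hty (torus_comm hx₀ ht0 h)
    · have h' := h t ht0
      rw [inv_eq_of_mul_eq_one_right htt] at h'
      exact hty (mul_inv_eq_iff_eq_mul.1 h').symm
  · refine hexp e fun t' c' h1 h2 h3 => sq_eq_one_of_orders (fun g => ?_) h1 h2 h3
    exact (alt_four_pow g).imp_right fun h => ⟨3, by decide, h⟩
  · refine not_eight_dvd h8 (Dvd.dvd.trans ?_ H.card_subgroup_dvd_card)
    rw [h24]; norm_num
  · refine hexp e fun t' c' h1 h2 h3 => sq_eq_one_of_orders (fun g => ?_) h1 h2 h3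
    exact (alt_five_pow g).imp_right fun h => h.elim (fun h => ⟨3, by decide, h⟩)
      fun h => ⟨5, by decide, h⟩
  · obtain ⟨K, iK, iK', m, hm, he⟩ := hsf.data
    have hKodd : Odd (Fintype.card K) := by
      rcases Nat.eq_zero_or_pos m with rfl | hm0
      · rw [pow_zero] at hm; exact absurd hm (by omega)
      · rw [← hm, Nat.odd_pow_iff hm0.ne'] at hodd
        exact hodd
    have hKcard := CfsgLib.Linear.card_PSL_two_odd (F := K) hKodd
    have hFcard := CfsgLib.Linear.card_PSL_two_odd (F := F) hodd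
    rcases he with ⟨⟨e⟩⟩ | ⟨⟨e⟩⟩
    · rcases hsub _ m hm with h | h
      · refine hH (Subgroup.eq_top_of_card_eq _ ?_)
        rw [Nat.card_congr e.toEquiv]
        rw [h] at hKcard
        omega
      · refine hexp e fun t' c' h1 h2 h3 => ?_
        rw [pow_two]
        exact sq_eq_one_small hKodd (by omega) (by rwa [← pow_two]) h2 h3
    · have hP : Nat.card H = Fintype.card K * (Fintype.card K ^ 2 - 1) := by
        rw [Nat.card_congr e.toEquiv, Linear.card_PGL, Linear.card_SL_two]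
      refine not_eight_dvd h8 (Dvd.dvd.trans ?_ H.card_subgroup_dvd_card)
      rw [hP]
      refine dvd_mul_of_dvd_right ?_ _
      obtain ⟨k, hk⟩ := hKodd
      obtain ⟨l, hl⟩ := Nat.even_mul_succ_self k
      refine ⟨l, ?_⟩
      have : Fintype.card K ^ 2 = 4 * (k * (k + 1)) + 1 := by rw [hk]; ring
      omega

theorem psl_not_solvable (h4 : 4 ≤ Fintype.card F) : ¬ Group.IsSolvable PSL(2, F) := by
  intro hs
  obtain ⟨d, -, hd⟩ := exists_chi_ne_one (F := F) h4
  haveI : Nontrivial PSL(2, F) := ⟨d, 1, fun e => hd (by rw [e, chi_one])⟩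
  exact (Group.IsSolvable.commutator_lt_top_of_nontrivial PSL(2, F)).ne
    (MultPSL.commutator_PSL_two h4)

theorem subfield_cases {q : ℕ}
    (h : q.Prime ∨ ∃ r : ℕ, r.Prime ∧ (q = 3 ^ r ∨ q = 5 ^ r)) (Q m : ℕ) (hQ : Q ^ m = q) :
    Q = q ∨ Q = 3 ∨ Q = 5 := by
  rcases h with h | ⟨r, hr, h⟩
  · have hm : m = 1 := (hQ ▸ h : (Q ^ m).Prime).eq_one_of_pow
    exact Or.inl (by rw [← hQ, hm, pow_one])
  · have aux : ∀ b : ℕ, b.Prime → q = b ^ r → Q = q ∨ Q = b := by
      intro b hb hqb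
      have hm0 : m ≠ 0 := fun e => by
        rw [e, pow_zero, hqb] at hQ
        exact (Nat.one_lt_pow hr.ne_zero hb.one_lt).ne hQ
      obtain ⟨j, -, rfl⟩ := (Nat.dvd_prime_pow hb).1 (hqb ▸ hQ ▸ dvd_pow_self Q hm0)
      rw [← pow_mul, hqb] at hQ
      have hjm := Nat.pow_right_injective hb.two_le hQ
      rcases (Nat.dvd_prime hr).1 (Dvd.intro m hjm) with rfl | rfl
      · right; rw [pow_one]
      · exact Or.inl hqb.symm
    rcases h with h | h
    · exact (aux 3 Nat.prime_three h).imp_right Or.inl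
    · exact (aux 5 Nat.prime_five h).imp_right Or.inr

/-- The converse direction. -/
theorem converse {G : Type u} [Group G] (e : G ≃* PSL(2, F))
    (h : ((Fintype.card F).Prime ∧ 5 < Fintype.card F ∧ ¬ 16 ∣ Fintype.card F ^ 2 - 1) ∨
      ∃ p : ℕ, p.Prime ∧ p ≠ 2 ∧ (Fintype.card F = 3 ^ p ∨ Fintype.card F = 5 ^ p)) :
    ¬ Group.IsSolvable G ∧ ¬ CAOn (⊤ : Subgroup G) ∧ ∀ H : Subgroup G, H ≠ ⊤ → CAOn H := by
  set q := Fintype.card F with hq
  have h8 : 5 < q ∧ (q % 8 = 3 ∨ q % 8 = 5) := by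
    rcases h with ⟨hp, h5, h16⟩ | ⟨r, hr, hr2, hr'⟩
    · exact ⟨h5, mod_eight_of_not_sixteen_dvd (hp.odd_of_ne_two (by omega)) h16⟩
    · obtain ⟨j, rfl⟩ := hr.odd_of_ne_two hr2
      have hj : 1 ≤ j := by
        rcases Nat.eq_zero_or_pos j with rfl | h
        · exact absurd hr (by norm_num)
        · exact h
      rcases hr' with e | e <;> rw [e, pow_succ, pow_mul] <;> norm_num
      · refine ⟨?_, Or.inl (by rw [Nat.mul_mod, Nat.pow_mod]; norm_num)⟩
        nlinarith [Nat.one_le_pow j 9 (by norm_num), Nat.le_self_pow (by omega : j ≠ 0) 9]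
      · refine ⟨?_, Or.inr (by rw [Nat.mul_mod, Nat.pow_mod]; norm_num)⟩
        exact Nat.one_lt_pow (by omega) (by norm_num)
  have hsub : ∀ Q m : ℕ, Q ^ m = q → Q = q ∨ Q = 3 ∨ Q = 5 :=
    subfield_cases (h.imp (·.1) fun ⟨r, hr, _, hr'⟩ => ⟨r, hr, hr'⟩)
  refine ⟨fun hs => ?_, fun hca => ?_, fun H hH => ?_⟩
  · haveI := hs
    exact psl_not_solvable (by omega) (Group.isSolvable_of_surjective (f := e.toMonoidHom) e.surjective)
  · exact psl_not_ca (odd_of_mod_eight h8.2) h8.1 (caOn_top_of_equiv e hca)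
  · refine (caOn_map_iff e.toMonoidHom e.injective H).1 (proper_ca h8.2 hsub fun ht => hH ?_)
    have := congrArg (Subgroup.comap e.toMonoidHom) ht
    rwa [comap_map_eq_self_of_injective e.injective, comap_top] at this

end CfsgLib.MinNonCA
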