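import Cfsg.Agent.MinNonCA.Simple
import Cfsg.Agent.Transfer.Frobenius
import Cfsg.Agent.Inv53.Basic
import Cfsg.Agent.S0215

/-!
# Fusion in perfect groups with CA solvable subgroups

If a Sylow 2-subgroup is non-abelian its centre is central; if it is abelian, it meets the centre
trivially and each of its involutions has no centraliser in the normaliser beyond `C(S)`.
-/

set_option autoImplicit false
set_option linter.style.haveILetI false

namespace CfsgLib.MinNonCA

open Subgroup

universe u

variable {G : Type u} [Group G] [Finite G]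

theorem two_element (S : Sylow 2 G) {s : G} (hs : s ∈ S) : ∃ k, s ^ 2 ^ k = 1 := by
  obtain ⟨k, hk⟩ := S.isPGroup' ⟨s, hs⟩
  exact ⟨k, by simpa using congrArg Subtype.val hk⟩

theorem isSolvable_sylow (S : Sylow 2 G) : Group.IsSolvable (S : Subgroup G) := by
  haveI : Fact (Nat.Prime 2) := ⟨Nat.prime_two⟩
  haveI := S.isPGroup'.isNilpotent
  infer_instance

theorem mem_sylow_of_center (S : Sylow 2 G) {z : G} (hz : z ∈ center G)
    (h2 : ∃ k, z ^ 2 ^ k = 1) : z ∈ S := by
  haveI : Fact (Nat.Prime 2) := ⟨Nat.prime_two⟩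
  have hcomm : ∀ s ∈ (S : Subgroup G), Commute s z := fun s _ => mem_center_iff.1 hz s
  have hle : zpowers z ≤ normalizer ((S : Subgroup G) : Set G) := by
    refine (zpowers_le).2 (mem_normalizer_iff.2 fun g => ?_)
    rw [show z * g * z⁻¹ = g by rw [← mem_center_iff.1 hz g, mul_inv_cancel_right]]
  have hp : IsPGroup 2 (zpowers z) := by
    obtain ⟨k, hk⟩ := h2
    rintro ⟨a, i, rfl⟩
    refine ⟨k, Subtype.ext ?_⟩
    show (z ^ i) ^ 2 ^ k = 1
    rw [← zpow_natCast, ← zpow_mul, mul_comm, zpow_mul, zpow_natCast, hk, one_zpow]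
  have hsup : IsPGroup 2 (zpowers z ⊔ (S : Subgroup G) : Subgroup G) :=
    hp.to_sup_of_normal_right' S.isPGroup' hle
  have := S.is_maximal' hsup le_sup_right
  have hm : z ∈ zpowers z ⊔ (S : Subgroup G) := mem_sup_left (mem_zpowers z)
  rw [this] at hm
  exact hm

theorem mem_sylow_of_mul_center (S : Sylow 2 G) {s g : G} (hs : s ∈ S) (hg : ∃ k, g ^ 2 ^ k = 1)
    (hsg : s⁻¹ * g ∈ center G) : g ∈ S := by
  obtain ⟨k, hk⟩ := hg
  obtain ⟨j, hj⟩ := two_element S hs
  have hc : Commute s⁻¹ g := by
    have := mem_center_iff.1 hsg s⁻¹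
    calc s⁻¹ * g = s⁻¹ * (s⁻¹ * g) * s := by rw [this]; group
      _ = s⁻¹ * s⁻¹ * g * s := by group
      _ = g * s⁻¹ := by
          have h2 := mem_center_iff.1 hsg s
          calc s⁻¹ * s⁻¹ * g * s = s⁻¹ * (s⁻¹ * g * s) := by group
            _ = s⁻¹ * (s * (s⁻¹ * g)) := by rw [h2]
            _ = s⁻¹ * g := by group
            _ = (s * (s⁻¹ * g)) * s⁻¹ := by rw [h2]; group
            _ = g * s⁻¹ := by group
  have hz := mem_sylow_of_center S hsg ⟨k + j, by
    rw [hc.mul_pow, pow_add, pow_mul g, hk, one_pow, mul_one, mul_comm, pow_mul, inv_pow, hj,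
      inv_one, one_pow]⟩
  have := mul_mem hs hz
  rwa [mul_inv_cancel_left] at this

theorem two_element_conj {z : G} (hz : ∃ k, z ^ 2 ^ k = 1) (g : G) :
    ∃ k, (g * z * g⁻¹) ^ 2 ^ k = 1 := by
  obtain ⟨k, hk⟩ := hz
  exact ⟨k, by rw [conj_pow, hk, mul_one, mul_inv_cancel]⟩

/-- An element with central square whose only conjugate in `S` is itself is central. -/
theorem mem_center_of_isolated [Group.IsPerfect G] (h : SolvCA G) (S : Sylow 2 G) {z : G}
    (hzS : z ∈ S) (hz2 : z ^ 2 ∈ center G)
    (hiso : ∀ g : G, g * z * g⁻¹ ∈ S → g * z * g⁻¹ = z) : z ∈ center G := by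
  haveI : Fact (Nat.Prime 2) := ⟨Nat.prime_two⟩
  by_contra hzc
  haveI : Nontrivial G := ⟨z, 1, fun e => hzc (e ▸ one_mem _)⟩
  haveI := isSimpleGroup_quotient_center h
  set π := QuotientGroup.mk' (center G)
  have hπ : Function.Surjective π := QuotientGroup.mk'_surjective _
  have hu : orderOf (π z) = 2 := orderOf_eq_prime
    (by rw [← map_pow]; exact (QuotientGroup.eq_one_iff _).2 hz2)
    fun h1 => hzc ((QuotientGroup.eq_one_iff z).1 h1)
  obtain ⟨N, hNn, hNodd, hN⟩ := Cfsg.Agent.S0215.result (S.mapSurjective hπ) (π z) hu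
    (show π z ∈ ((S.mapSurjective hπ : Sylow 2 _) : Subgroup _) by
      rw [Sylow.coe_mapSurjective]; exact mem_map_of_mem π hzS) fun q hq => by
      obtain ⟨g, rfl⟩ := hπ q
      rw [← map_inv, ← map_mul, ← map_mul] at hq ⊢
      obtain ⟨s, hs, hsq⟩ : ∃ s ∈ (S : Subgroup G), π s = π (g * z * g⁻¹) := hq
      rw [hiso g (mem_sylow_of_mul_center S hs (two_element_conj (two_element S hzS) g)
        (QuotientGroup.eq.1 hsq))]
  have h2 : 2 ∣ Nat.card (G ⧸ center G) := hu ▸ orderOf_dvd_natCard (π z)
  haveI := hNn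
  have hNbot : N = ⊥ := (IsSimpleGroup.eq_bot_or_eq_top_of_normal N hNn).resolve_right fun ht => by
    rw [ht, card_top] at hNodd
    exact hNodd.not_two_dvd_nat h2
  have huc : π z ∈ center (G ⧸ center G) := mem_center_iff.2 fun q => by
    have h1 := hN q
    rw [hNbot, mem_bot] at h1
    exact (mul_inv_eq_iff_eq_mul.1 (mul_inv_eq_one.1 h1)).symm
  haveI : Group.IsPerfect (G ⧸ center G) := inferInstance
  haveI : Nontrivial (G ⧸ center G) := QuotientGroup.nontrivial_iff.2 center_ne_top
  rcases IsSimpleGroup.eq_bot_or_eq_top_of_normal (center (G ⧸ center G)) inferInstance with hc | hc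
  · rw [hc, mem_bot] at huc
    rw [huc, orderOf_one] at hu
    omega
  · exact center_ne_top hc

/-- A step of a fusion chain fixes the central elements of `S`. -/
theorem commute_step (h : SolvCA G) (S : Sylow 2 G) (hna : ¬ AbOn (S : Subgroup G)) {z : G}
    (hzc : ∀ s ∈ (S : Subgroup G), Commute z s) {D : Subgroup G} (hDS : D ≤ S) (hzD : z ∈ D)
    (htame : ¬ 2 ∣ ((S : Subgroup G) ⊓ normalizer (D : Set G)).relIndex (normalizer (D : Set G)))
    {x : G} (hx : x ∈ normalizer (D : Set G)) : Commute x z := by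
  haveI : Fact (Nat.Prime 2) := ⟨Nat.prime_two⟩
  haveI := isSolvable_sylow S
  haveI : Group.IsSolvable D := isSolvable_of_le hDS
  have hzC : ∀ W : Subgroup G, W ≤ S → z ∈ centralizer (W : Set G) := fun W hW =>
    mem_centralizer_iff.2 fun w hw => (hzc w (hW hw)).symm.eq
  by_cases hD : AbOn D
  swap
  · exact (commute_centralizer_normalizer h hD (hzC D hDS) hx).symm
  set N := normalizer (D : Set G) with hN
  set K := centralizer (D : Set G) with hK
  have hKN : K ≤ N := centralizer_le_normalizer _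
  have hnK : N ≤ normalizer (K : Set G) := by
    intro n hn
    refine mem_normalizer_iff.2 fun c => ?_
    simp only [hK, mem_centralizer_iff]
    constructor
    · intro hc d hd
      have h1 := hc (n⁻¹ * d * n) ((mem_normalizer_iff''.1 hn d).1 hd)
      calc d * (n * c * n⁻¹) = n * ((n⁻¹ * d * n) * c) * n⁻¹ := by group
        _ = n * (c * (n⁻¹ * d * n)) * n⁻¹ := by rw [h1]
        _ = n * c * n⁻¹ * d := by group
    · intro hc d hd
      have h1 := hc (n * d * n⁻¹) ((mem_normalizer_iff.1 hn d).1 hd)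
      calc d * c = n⁻¹ * ((n * d * n⁻¹) * (n * c * n⁻¹)) * n := by group
        _ = n⁻¹ * ((n * c * n⁻¹) * (n * d * n⁻¹)) * n := by rw [h1]
        _ = c * d := by group
  set V := (S : Subgroup G) ⊓ K with hV
  have hVS : V ≤ S := inf_le_left
  have hDV : D ≤ V := le_inf hDS fun d hd => mem_centralizer_iff.2 fun e he => (hD e he d hd).eq
  have hidx : ¬ 2 ∣ V.relIndex K := by
    let PN : Sylow 2 N := Sylow.ofCard _ (CfsgLib.Transfer.card_subgroupOf_eq S htame)
    haveI : (K.subgroupOf N).Normal := normal_subgroupOf_of_le_normalizer hnK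
    have h1 := CfsgLib.Inv53.not_dvd_relIndex_inf PN (N := (⊤ : Subgroup N))
      (K := K.subgroupOf N) le_top le_top (by rw [normalizer_eq_top])
    have e : (PN : Subgroup N) ⊓ K.subgroupOf N = V.subgroupOf N := rfl
    rw [e, relIndex_subgroupOf hKN] at h1
    exact h1
  -- Frattini
  have hR : V.map (MulAut.conj x).toMonoidHom ≤ K := by
    rintro _ ⟨v, hv, rfl⟩
    exact ((mem_normalizer_iff.1 (hnK hx)) v).1 hv.2
  obtain ⟨c, hc, hle⟩ := CfsgLib.Inv53.exists_conj_le_of_pGroup (p := 2) (S.isPGroup'.to_le hVS)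
    inf_le_right hidx ((S.isPGroup'.to_le hVS).map (MulAut.conj x).toMonoidHom) hR
  have hm : c * x ∈ normalizer (V : Set G) := by
    refine CfsgLib.Transfer.mem_normalizer_of_map_conj_eq ?_
    rw [← CfsgLib.Transfer.map_conj_map_conj]
    refine eq_of_le_of_card_ge hle ?_
    rw [CfsgLib.Inv53.card_map_conj, CfsgLib.Inv53.card_map_conj]
  have hcz : Commute c z := (mem_centralizer_iff.1 hc z hzD).symm
  suffices hmz : Commute (c * x) z by
    have := (Commute.inv_left hcz).mul_left hmz
    rwa [inv_mul_cancel_left] at this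
  haveI : Group.IsSolvable V := isSolvable_of_le hVS
  by_cases hVab : AbOn V
  swap
  · exact (commute_centralizer_normalizer h hVab (hzC V hVS) hm).symm
  -- `C(V)` is solvable
  have hVC : V ≤ centralizer (V : Set G) := fun v hv =>
    mem_centralizer_iff.2 fun w hw => (hVab w hw v hv).eq
  have hCK : centralizer (V : Set G) ≤ K := centralizer_le hDV
  haveI hCsol : Group.IsSolvable (centralizer (V : Set G)) := by
    set C := centralizer (V : Set G)
    haveI : (V.subgroupOf C).Normal := normal_subgroupOf_of_le_normalizer (centralizer_le_normalizer _)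
    haveI : Group.IsSolvable (V.subgroupOf C) :=
      Group.isSolvable_of_isSolvable_injective (f := (subgroupOfEquivOfLe hVC).toMonoidHom)
        (MulEquiv.injective _)
    have hodd : Odd (Nat.card (C ⧸ V.subgroupOf C)) := by
      rw [← Subgroup.index_eq_card, ← Nat.not_even_iff_odd, even_iff_two_dvd]
      intro h2
      exact hidx (h2.trans (Dvd.intro _ (relIndex_mul_relIndex V C K hVC hCK)))
    haveI : Group.IsSolvable (C ⧸ V.subgroupOf C) := Cfsg.Agent.S0205.result hodd
    exact (Group.isSolvable_iff_subgroup_quotient (V.subgroupOf C)).2 ⟨‹_›, ‹_›⟩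
  haveI := isSolvable_normalizer_of_centralizer h hCsol
  by_contra hmz
  have hY : AbOn ((S : Subgroup G) ⊓ normalizer (V : Set G)) := fun a ha b hb =>
    h.commute_of_commute (H := normalizer (V : Set G))
      (le_normalizer (hDV hzD)) hm (fun e => hmz e.symm) ha.2 hb.2 (hzc a ha.1) (hzc b hb.1)
  have hYV : (S : Subgroup G) ⊓ normalizer (V : Set G) ≤ V := fun y hy =>
    ⟨hy.1, hCK (mem_centralizer_iff.2 fun v hv => (hY v ⟨hVS hv, le_normalizer hv⟩ y hy).eq)⟩
  haveI : Group.IsNilpotent (S : Subgroup G) := S.isPGroup'.isNilpotent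
  have hVS' : V.subgroupOf (S : Subgroup G) = ⊤ := by
    by_contra hne
    refine (Group.normalizerCondition_of_isNilpotent (G := (S : Subgroup G))
      (V.subgroupOf (S : Subgroup G)) (lt_top_iff_ne_top.2 hne)).not_ge ?_
    rw [← subgroupOf_normalizer_eq hVS]
    intro y hy
    exact mem_subgroupOf.2 (hYV ⟨y.2, mem_subgroupOf.1 hy⟩)
  exact hna fun a ha b hb => hVab a
    (mem_subgroupOf.1 (hVS' ▸ mem_top (⟨a, ha⟩ : (S : Subgroup G)))) b
    (mem_subgroupOf.1 (hVS' ▸ mem_top (⟨b, hb⟩ : (S : Subgroup G))))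

theorem commute_of_fusionChain (h : SolvCA G) (S : Sylow 2 G) (hna : ¬ AbOn (S : Subgroup G))
    {z : G} (hzc : ∀ s ∈ (S : Subgroup G), Commute z s) {A : Set G} {g : G}
    (hc : CfsgLib.Transfer.FusionChain S A g) : z ∈ A → Commute g z := by
  induction hc with
  | nil A => exact fun _ => Commute.one_left z
  | cons A Q x g hA ht hx _ ih =>
    intro hzA
    have hxz := commute_step h S hna hzc inf_le_left (hA hzA) ht.1 hx
    refine hxz.mul_left (ih ⟨z, hzA, ?_⟩)
    show x⁻¹ * z * x = z
    rw [mul_assoc, ← hxz.eq, inv_mul_cancel_left]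

/-- The centre of a non-abelian Sylow 2-subgroup is central. -/
theorem center_sylow_le_center [Group.IsPerfect G] (h : SolvCA G) (S : Sylow 2 G)
    (hna : ¬ AbOn (S : Subgroup G)) {z : G} (hzS : z ∈ S)
    (hzc : ∀ s ∈ (S : Subgroup G), Commute z s) : z ∈ center G := by
  haveI : Fact (Nat.Prime 2) := ⟨Nat.prime_two⟩
  obtain ⟨k, hk⟩ := two_element S hzS
  induction k generalizing z with
  | zero => simp only [pow_zero, pow_one] at hk; exact hk ▸ one_mem _
  | succ k ih =>
    refine mem_center_of_isolated h S hzS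
      (ih (pow_mem hzS 2) (fun s hs => (hzc s hs).pow_left 2)
        (by rw [← pow_mul, ← pow_succ']; exact hk)) fun g hg => ?_
    have hc := CfsgLib.Transfer.exists_fusionChain S (A := {z}) (g := g⁻¹)
      (Set.singleton_subset_iff.2 hzS) (by
        rw [Set.image_singleton, inv_inv]; exact Set.singleton_subset_iff.2 hg)
    have := (commute_of_fusionChain h S hna hzc hc rfl).inv_left
    rw [inv_inv] at this
    rw [this.eq, mul_inv_cancel_right]

section Abelian

variable [Group.IsPerfect G]

/-- An abelian Sylow 2-subgroup of a perfect group meets the centre trivially. -/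
theorem eq_one_of_mem_center (S : Sylow 2 G) (hab : AbOn (S : Subgroup G)) {z : G} (hzS : z ∈ S)
    (hz : z ∈ center G) : z = 1 := by
  haveI : Fact (Nat.Prime 2) := ⟨Nat.prime_two⟩
  letI : CommGroup (S : Subgroup G) :=
    { (inferInstance : Group (S : Subgroup G)) with
      mul_comm := fun a b => Subtype.ext (hab a a.2 b b.2).eq }
  haveI : (S : Subgroup G).FiniteIndex := inferInstance
  let f : G →* (S : Subgroup G) := MonoidHom.transfer (MonoidHom.id (S : Subgroup G))
  have key : ∀ (k : ℕ) (g₀ : G), g₀⁻¹ * z ^ k * g₀ ∈ (S : Subgroup G) →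
      g₀⁻¹ * z ^ k * g₀ = z ^ k := fun k g₀ _ => by
    rw [mem_center_iff.1 (pow_mem hz k) g₀⁻¹, inv_mul_cancel_right]
  have h1 := MonoidHom.transfer_eq_pow (MonoidHom.id (S : Subgroup G)) z key
  have h2 : f z = 1 := by
    have hle : commutator G ≤ f.ker := by
      refine Subgroup.commutator_le.2 fun g _ k _ => MonoidHom.mem_ker.2 ?_
      rw [map_commutatorElement, commutatorElement_eq_one_iff_mul_comm]
      exact mul_comm _ _
    exact hle (Group.IsPerfect.commutator_eq_top (G := G) ▸ mem_top z)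
  have h3 : z ^ (S : Subgroup G).index = 1 := by
    have := congrArg Subtype.val (h1.symm.trans h2)
    simpa using this
  obtain ⟨k, hk⟩ := two_element S hzS
  have hcop : Nat.gcd (2 ^ k) (S : Subgroup G).index = 1 :=
    Nat.Coprime.pow_left k (Nat.prime_two.coprime_iff_not_dvd.2 S.not_dvd_index)
  have h4 : z ^ Nat.gcd (2 ^ k) (S : Subgroup G).index = 1 := pow_gcd_eq_one.2 ⟨hk, h3⟩
  rwa [hcop, pow_one] at h4

theorem isSolvable_centralizer_sylow (S : Sylow 2 G) (hab : AbOn (S : Subgroup G)) :
    Group.IsSolvable (centralizer ((S : Subgroup G) : Set G)) := by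
  haveI : Fact (Nat.Prime 2) := ⟨Nat.prime_two⟩
  haveI := isSolvable_sylow S
  set C := centralizer ((S : Subgroup G) : Set G)
  have hSC : (S : Subgroup G) ≤ C := fun s hs => mem_centralizer_iff.2 fun t ht => (hab t ht s hs).eq
  haveI : ((S : Subgroup G).subgroupOf C).Normal :=
    normal_subgroupOf_of_le_normalizer (centralizer_le_normalizer _)
  haveI : Group.IsSolvable ((S : Subgroup G).subgroupOf C) :=
    Group.isSolvable_of_isSolvable_injective (f := (subgroupOfEquivOfLe hSC).toMonoidHom)
      (MulEquiv.injective _)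
  have hodd : Odd (Nat.card (C ⧸ (S : Subgroup G).subgroupOf C)) := by
    rw [← Subgroup.index_eq_card, ← Nat.not_even_iff_odd, even_iff_two_dvd]
    exact fun h2 => S.not_dvd_index (h2.trans (relIndex_dvd_index_of_le hSC))
  haveI : Group.IsSolvable (C ⧸ (S : Subgroup G).subgroupOf C) := Cfsg.Agent.S0205.result hodd
  exact (Group.isSolvable_iff_subgroup_quotient ((S : Subgroup G).subgroupOf C)).2 ⟨‹_›, ‹_›⟩

/-- For an abelian Sylow 2-subgroup `S`, an element normalising `S` and fixing one of its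
involutions centralises `S`. -/
theorem mem_centralizer_of_commute (h : SolvCA G) (S : Sylow 2 G) (hab : AbOn (S : Subgroup G))
    {s n : G} (hsS : s ∈ S) (hs2 : s ^ 2 = 1) (hs1 : s ≠ 1)
    (hn : n ∈ normalizer ((S : Subgroup G) : Set G)) (hns : Commute n s) :
    n ∈ centralizer ((S : Subgroup G) : Set G) := by
  haveI : Fact (Nat.Prime 2) := ⟨Nat.prime_two⟩
  haveI := isSolvable_sylow S
  haveI := isSolvable_normalizer_of_centralizer h (isSolvable_centralizer_sylow S hab)
  by_contra hnC
  have hcent : ∀ m ∈ normalizer ((S : Subgroup G) : Set G), Commute s m := by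
    intro m hm
    by_contra hsm
    exact hnC (mem_centralizer_iff.2 fun t ht => (h.commute_of_commute (le_normalizer hsS) hm hsm
      (le_normalizer ht) hn (hab s hsS t ht) hns.symm).eq)
  haveI : IsMulCommutative (S : Subgroup G) :=
    ⟨⟨fun a b => Subtype.ext (hab a a.2 b b.2).eq⟩⟩
  have hc : s ∈ center G := mem_center_of_isolated h S hsS (by rw [hs2]; exact one_mem _)
    fun g hg => by
      obtain ⟨m, hm, e⟩ := CfsgLib.Transfer.controlsFusion_normalizer_of_isMulCommutative S ‹_›
        s hsS g hg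
      rw [← e, ← (hcent m hm).eq, mul_inv_cancel_right]
  exact hs1 (eq_one_of_mem_center S hab hsS hc)

end Abelian

end CfsgLib.MinNonCA
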