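import Cfsg.Agent.MinNonCA.Fusion
import Cfsg.Agent.Small.NormalFour
import Cfsg.Agent.Coprime.Generation
import Cfsg.Agent.GW.Known
import Cfsg.Agent.GW.PSLTorus
import Cfsg.Agent.MultPSL.Main
import Cfsg.Agent.Linear.Basic
import Cfsg.Agent.S2202
import Cfsg.Agent.S0949

/-!
# The abelian Sylow 2-subgroup case

A perfect group with CA solvable subgroups and abelian Sylow 2-subgroups is `SL(2, 2^f)` or
`PSL(2, q)`, `q ≡ ±3 (mod 8)`.
-/

set_option autoImplicit false
set_option linter.style.haveILetI false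
set_option linter.unusedSectionVars false

namespace CfsgLib.MinNonCA

open Subgroup
open scoped IsKleinFour

universe u

variable {G : Type u} [Group G] [Finite G] [Group.IsPerfect G]

/-- The elements of exponent two of an abelian subgroup. -/
def omegaTwo (S : Subgroup G) (hab : AbOn S) : Subgroup G where
  carrier := {s | s ∈ S ∧ s ^ 2 = 1}
  one_mem' := ⟨one_mem _, one_pow _⟩
  mul_mem' := fun {a b} ha hb => ⟨mul_mem ha.1 hb.1,
    by rw [(hab a ha.1 b hb.1).mul_pow, ha.2, hb.2, one_mul]⟩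
  inv_mem' := fun {a} ha => ⟨inv_mem ha.1, by rw [inv_pow, ha.2, inv_one]⟩

theorem exists_moving (h : SolvCA G) [Nontrivial G] (S : Sylow 2 G) (hab : AbOn (S : Subgroup G)) :
    ∃ n ∈ normalizer ((S : Subgroup G) : Set G), n ∉ centralizer ((S : Subgroup G) : Set G) := by
  haveI : Fact (Nat.Prime 2) := ⟨Nat.prime_two⟩
  by_contra hcon
  push Not at hcon
  have hc := MonoidHom.ker_transferSylow_isComplement' S hcon
  have hK : (MonoidHom.transferSylow S hcon).ker = ⊤ := by
    refine eq_top_iff.2 ?_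
    rw [← Group.IsPerfect.commutator_eq_top (G := G)]
    refine Subgroup.commutator_le.2 fun g _ k _ => MonoidHom.mem_ker.2 ?_
    rw [map_commutatorElement, commutatorElement_eq_one_iff_mul_comm]
    exact Subtype.ext (hab _ (SetLike.coe_mem _) _ (SetLike.coe_mem _)).eq
  rw [hK, isComplement'_top_left] at hc
  have hodd : Odd (Nat.card G) := by
    rw [← Nat.not_even_iff_odd, even_iff_two_dvd]
    exact fun h2 => S.ne_bot_of_dvd_card h2 hc
  haveI : Group.IsSolvable G := Cfsg.Agent.S0205.result hodd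
  exact (Group.IsSolvable.commutator_lt_top_of_nontrivial G).ne Group.IsPerfect.commutator_eq_top

theorem even_card [Nontrivial G] : Even (Nat.card G) := by
  rw [← Nat.not_odd_iff_even]
  intro hodd
  haveI : Group.IsSolvable G := Cfsg.Agent.S0205.result hodd
  exact (Group.IsSolvable.commutator_lt_top_of_nontrivial G).ne Group.IsPerfect.commutator_eq_top

theorem isSolvable_centralizer_involution (h : SolvCA G) (S : Sylow 2 G)
    (hab : AbOn (S : Subgroup G)) {t : G} (htS : t ∈ S) (ht2 : t ^ 2 = 1) (ht1 : t ≠ 1) :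
    ∃ K : Subgroup G, Group.IsSolvable (centralizer ({t} : Set G)) ∧
      K ≤ centralizer ({t} : Set G) ∧ Odd (Nat.card K) ∧
      (S : Subgroup G) ≤ normalizer (K : Set G) ∧
      centralizer ({t} : Set G) ≤ K ⊔ (S : Subgroup G) := by
  haveI : Fact (Nat.Prime 2) := ⟨Nat.prime_two⟩
  set C := centralizer ({t} : Set G) with hC
  have hSC : (S : Subgroup G) ≤ C := fun s hs =>
    mem_centralizer_singleton_iff.2 (hab s hs t htS).eq
  let P : Sylow 2 C := S.subtype hSC
  have hN : normalizer ((P : Subgroup C) : Set C) ≤ centralizer ((P : Subgroup C) : Set C) := by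
    intro n hn
    have hn' : (n : G) ∈ normalizer ((S : Subgroup G) : Set G) := by
      refine mem_normalizer_iff.2 fun x => ⟨fun hx => ?_, fun hx => ?_⟩
      · exact mem_subgroupOf.1 ((mem_normalizer_iff.1 hn ⟨x, hSC hx⟩).1 (mem_subgroupOf.2 hx))
      · have hxC : x ∈ C := by
          have := mul_mem (mul_mem (inv_mem n.2) (hSC hx)) n.2
          simpa [mul_assoc] using this
        exact mem_subgroupOf.1 ((mem_normalizer_iff.1 hn ⟨x, hxC⟩).2 (mem_subgroupOf.2 hx))
    have hc := mem_centralizer_of_commute h S hab htS ht2 ht1 hn'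
      (mem_centralizer_singleton_iff.1 n.2)
    exact mem_centralizer_iff.2 fun x hx => Subtype.ext (mem_centralizer_iff.1 hc _ hx)
  obtain ⟨f, hcompl, hodd⟩ : ∃ f : C →* (P : Subgroup C),
      f.ker.IsComplement' (P : Subgroup C) ∧ Odd (Nat.card f.ker) :=
    ⟨_, MonoidHom.ker_transferSylow_isComplement' P hN,
      Nat.odd_iff.2 (Nat.two_dvd_ne_zero.1 (MonoidHom.not_dvd_card_ker_transferSylow P hN))⟩
  haveI : Group.IsSolvable f.ker := Cfsg.Agent.S0205.result hodd
  haveI : Group.IsSolvable (P : Subgroup C) := isSolvable_of_abOn fun a ha b hb =>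
    Subtype.ext (hab a ha b hb).eq
  haveI hCs : Group.IsSolvable C :=
    Group.isSolvable_of_ker_le_range f.ker.subtype f f.ker.range_subtype.ge
  refine ⟨f.ker.map C.subtype, hCs, map_subtype_le _, ?_, ?_, ?_⟩
  · rwa [card_map_of_injective C.subtype_injective]
  · intro s hs
    refine mem_normalizer_iff.2 fun x => ⟨?_, ?_⟩
    · rintro ⟨k, hk, rfl⟩
      exact ⟨⟨s, hSC hs⟩ * k * ⟨s, hSC hs⟩⁻¹, (f.normal_ker).conj_mem k hk _, rfl⟩
    · rintro ⟨k, hk, hke⟩
      refine ⟨⟨s, hSC hs⟩⁻¹ * k * ⟨s, hSC hs⟩⁻¹⁻¹, (f.normal_ker).conj_mem k hk _, ?_⟩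
      have hke' : (k : G) = s * x * s⁻¹ := hke
      show s⁻¹ * (k : G) * s⁻¹⁻¹ = x
      rw [hke']; group
  · intro c hc
    have hmem : (⟨c, hc⟩ : C) ∈ f.ker ⊔ (P : Subgroup C) := by
      rw [hcompl.sup_eq_top]; exact mem_top _
    have := mem_map_of_mem C.subtype hmem
    rw [Subgroup.map_sup] at this
    have hle : (P : Subgroup C).map C.subtype ≤ (S : Subgroup G) := by
      rintro _ ⟨y, hy, rfl⟩
      exact hy
    exact (sup_le_sup_left hle _ : _) this

/-- If `S` has rank at least three, centralisers of involutions are abelian. -/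
theorem abelian_centralizer_of_big (h : SolvCA G) (S : Sylow 2 G) (hab : AbOn (S : Subgroup G))
    (hΩ : 8 ≤ Nat.card (omegaTwo (S : Subgroup G) hab)) {t : G} (htS : t ∈ S) (ht2 : t ^ 2 = 1)
    (ht1 : t ≠ 1) : AbOn (centralizer ({t} : Set G)) := by
  classical
  haveI : Fact (Nat.Prime 2) := ⟨Nat.prime_two⟩
  by_contra hna
  obtain ⟨K, hCs, hKC, hKodd, hSK, hCK⟩ :=
    isSolvable_centralizer_involution h S hab htS ht2 ht1
  set C := centralizer ({t} : Set G) with hC
  haveI := hCs
  have hSC : (S : Subgroup G) ≤ C := fun s hs =>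
    mem_centralizer_singleton_iff.2 (hab s hs t htS).eq
  set Ω := omegaTwo (S : Subgroup G) hab with hΩdef
  -- the central part
  let H : G → Prop := fun s => ∀ c ∈ C, Commute s c
  have hidx : ∀ a ∈ Ω, ∀ b ∈ Ω, ¬ H a → ¬ H b → H (a * b) := by
    intro a ha b hb hna' hnb
    by_contra hnab
    set A : Subgroup G := closure {a, b} with hA
    have hAΩ : A ≤ Ω := by rw [hA, closure_le]; rintro g (rfl | rfl) <;> assumption
    haveI : IsMulCommutative A :=
      ⟨⟨fun x y => Subtype.ext (hab x (hAΩ x.2).1 y (hAΩ y.2).1).eq⟩⟩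
    have habne : a ≠ b := fun e => hnab (by
      rw [e, ← sq, hb.2]; exact fun c _ => Commute.one_left c)
    have hAcyc : ¬ IsCyclic A := by
      intro hcyc
      have hd : ∀ x : A, x ≠ 1 → orderOf x = 2 := fun x hx =>
        orderOf_eq_prime (Subtype.ext (by rw [SubgroupClass.coe_pow]; exact (hAΩ x.2).2)) hx
      have ha1 : (⟨a, subset_closure (Set.mem_insert _ _)⟩ : A) ≠ 1 := fun e =>
        hna' (by rw [show a = 1 from congrArg Subtype.val e]; exact fun c _ => Commute.one_left c)
      have hb1 : (⟨b, subset_closure (Set.mem_insert_of_mem _ rfl)⟩ : A) ≠ 1 := fun e =>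
        hnb (by rw [show b = 1 from congrArg Subtype.val e]; exact fun c _ => Commute.one_left c)
      haveI := hcyc
      haveI := Fintype.ofFinite A
      have hle := IsCyclic.card_orderOf_eq_totient (α := A) (d := 2)
        (hd _ ha1 ▸ orderOf_dvd_card)
      rw [Nat.totient_two, Finset.card_eq_one] at hle
      obtain ⟨z, hz⟩ := hle
      have e1 := Finset.ext_iff.1 hz ⟨a, subset_closure (Set.mem_insert _ _)⟩
      have e2 := Finset.ext_iff.1 hz ⟨b, subset_closure (Set.mem_insert_of_mem _ rfl)⟩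
      simp only [Finset.mem_filter, Finset.mem_univ, true_and, Finset.mem_singleton] at e1 e2
      exact habne (congrArg Subtype.val ((e1.1 (hd _ ha1)).trans (e2.1 (hd _ hb1)).symm))
    have hAS : A ≤ (S : Subgroup G) := fun x hx => (hAΩ hx).1
    have hcop : (Nat.card A).Coprime (Nat.card K) := by
      obtain ⟨n, hn⟩ := IsPGroup.iff_card.1 (S.isPGroup'.to_le hAS)
      rw [hn]
      exact (hKodd.coprime_two_left).pow_left n
    have hKS : K ≤ centralizer ((S : Subgroup G) : Set G) := by
      refine Coprime.le_of_forall_inf_centralizer_le hAcyc (hAS.trans hSK) hcop fun x hx hx1 => ?_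
      rintro c ⟨hcK, hcx⟩
      have hxc : Commute x c := (mem_centralizer_singleton_iff.1 hcx).symm
      have hnx : ¬ H x := by
        have hmem : x = a ∨ x = b ∨ x = a * b := by
          let B : Subgroup G :=
            { carrier := {g | g = 1 ∨ g = a ∨ g = b ∨ g = a * b}
              one_mem' := Or.inl rfl
              mul_mem' := fun {p q} hp hq => by
                have haa : a * a = 1 := by rw [← sq]; exact ha.2
                have hbb : b * b = 1 := by rw [← sq]; exact hb.2
                have hba : b * a = a * b := (hab b hb.1 a ha.1).eq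
                have e1 : a * (a * b) = b := by rw [← mul_assoc, haa, one_mul]
                have e2 : a * b * a = b := by rw [mul_assoc, hba, e1]
                have e3 : a * b * b = a := by rw [mul_assoc, hbb, mul_one]
                have e4 : a * b * (a * b) = 1 := by rw [← mul_assoc, e2, hbb]
                have e5 : b * (a * b) = a := by rw [← mul_assoc, hba, e3]
                rcases hp with hp | hp | hp | hp <;> rcases hq with hq | hq | hq | hq <;>
                  simp [hp, hq, haa, hbb, hba, e1, e2, e3, e4, e5]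
              inv_mem' := fun {p} hp => by
                have haa : a * a = 1 := by rw [← sq]; exact ha.2
                have hbb : b * b = 1 := by rw [← sq]; exact hb.2
                have hba : b * a = a * b := (hab b hb.1 a ha.1).eq
                rcases hp with rfl | rfl | rfl | rfl
                · exact Or.inl inv_one
                · exact Or.inr (Or.inl (inv_eq_of_mul_eq_one_right haa))
                · exact Or.inr (Or.inr (Or.inl (inv_eq_of_mul_eq_one_right hbb)))
                · exact Or.inr (Or.inr (Or.inr (by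
                    rw [mul_inv_rev, inv_eq_of_mul_eq_one_right haa, inv_eq_of_mul_eq_one_right hbb,
                      hba]))) }
          have hle : A ≤ B := by
            rw [hA, closure_le]
            rintro g (rfl | rfl)
            · exact Or.inr (Or.inl rfl)
            · exact Or.inr (Or.inr (Or.inl rfl))
          exact (hle hx).resolve_left hx1
        rcases hmem with rfl | rfl | rfl <;> assumption
      simp only [H, not_forall] at hnx
      obtain ⟨y, hy, hxy⟩ := hnx
      exact mem_centralizer_iff.2 fun s hs => (h.commute_of_commute (H := C) (hSC (hAS hx)) hy hxy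
        (hSC hs) (hKC hcK) (hab x (hAS hx) s hs) hxc).eq
    refine hna' fun c hc => ?_
    have hmem : C ≤ centralizer ({a} : Set G) := hCK.trans (sup_le
      (fun k hk => mem_centralizer_singleton_iff.2 (mem_centralizer_iff.1 (hKS hk) a ha.1).symm)
      fun s hs => mem_centralizer_singleton_iff.2 (hab s hs a ha.1).eq)
    exact (mem_centralizer_singleton_iff.1 (hmem hc)).symm
  -- central involutions determine `C`
  have hCh : ∀ s ∈ Ω, s ≠ 1 → H s → centralizer ({s} : Set G) = C := by
    intro s hs hs1 hHs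
    obtain ⟨K', hs', -, -, -, -⟩ := isSolvable_centralizer_involution h S hab hs.1 hs.2 hs1
    haveI := hs'
    have hle : C ≤ centralizer ({s} : Set G) := fun c hc =>
      mem_centralizer_singleton_iff.2 (hHs c hc).symm.eq
    refine le_antisymm (fun y hy => ?_) hle
    by_contra hyC
    refine hna fun a ha b hb => h.commute_of_commute (H := centralizer ({s} : Set G))
      (x := t) (y := y) (hle (mem_centralizer_singleton_iff.2 rfl)) hy
      (fun e => hyC (mem_centralizer_singleton_iff.2 e.symm.eq)) (hle ha) (hle hb)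
      (mem_centralizer_singleton_iff.1 ha).symm (mem_centralizer_singleton_iff.1 hb).symm
  -- the normaliser of `S` centralises `t`
  have hN : ∀ n ∈ normalizer ((S : Subgroup G) : Set G), Commute t n := by
    intro n hn
    have hΩn : ∀ s ∈ Ω, n * s * n⁻¹ ∈ Ω := fun s hs =>
      ⟨(mem_normalizer_iff.1 hn s).1 hs.1, by rw [conj_pow, hs.2, mul_one, mul_inv_cancel]⟩
    have hΩn' : ∀ s ∈ Ω, n⁻¹ * s * n ∈ Ω := fun s hs =>
      ⟨(mem_normalizer_iff''.1 hn s).1 hs.1, by
        have := conj_pow (a := n⁻¹) (b := s) (i := 2)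
        rw [inv_inv] at this
        rw [this, hs.2, mul_one, inv_mul_cancel]⟩
    obtain ⟨s, hs, hs1, hHs, hHs'⟩ :
        ∃ s ∈ Ω, s ≠ 1 ∧ H s ∧ H (n⁻¹ * s * n) := by
      by_contra hcon
      push Not at hcon
      have : Nat.card Ω ≤ 4 := by
        let ψ : Ω → Bool × Bool := fun s => (decide (H s), decide (H (n⁻¹ * s * n)))
        refine (Nat.card_le_card_of_injective ψ ?_).trans (by simp)
        intro s1 s2 hs
        obtain ⟨h1, h2⟩ := Prod.mk.injEq .. ▸ hs
        simp only [decide_eq_decide] at h1 h2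
        by_contra hne
        have hmul : ∀ a b : G, H a → H b → H (a * b) := fun a b h3 h4 c hc =>
          (h3 c hc).mul_left (h4 c hc)
        have e1 : H ((s1 : G) * s2) := by
          by_cases hh : H s1
          · exact hmul _ _ hh (h1.1 hh)
          · exact hidx _ s1.2 _ s2.2 hh fun h3 => hh (h1.2 h3)
        have e2 : H (n⁻¹ * (s1 * s2 : G) * n) := by
          rw [show n⁻¹ * (s1 * s2 : G) * n = (n⁻¹ * s1 * n) * (n⁻¹ * s2 * n) by group]
          by_cases hh : H (n⁻¹ * (s1 : G) * n)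
          · exact hmul _ _ hh (h2.1 hh)
          · exact hidx _ (hΩn' _ s1.2) _ (hΩn' _ s2.2) hh fun h3 => hh (h2.2 h3)
        refine hcon _ (mul_mem s1.2 s2.2) (fun e => hne (Subtype.ext ?_)) e1 e2
        rw [eq_inv_of_mul_eq_one_left e]
        exact inv_eq_of_mul_eq_one_right (by rw [← sq]; exact s2.2.2)
      omega
    have hs'1 : n⁻¹ * s * n ≠ 1 := fun e => hs1 (by
      have : s = n * (n⁻¹ * s * n) * n⁻¹ := by group
      rw [this, e, mul_one, mul_inv_cancel])
    have c1 := hCh s hs hs1 hHs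
    have c2 := hCh _ (hΩn' s hs) hs'1 hHs'
    have hnC : n ∈ normalizer (C : Set G) := by
      refine mem_normalizer_iff.2 fun x => ?_
      nth_rewrite 1 [← c2]
      rw [← c1]
      simp only [mem_centralizer_singleton_iff]
      constructor
      · intro e
        calc n * x * n⁻¹ * s = n * (x * (n⁻¹ * s * n)) * n⁻¹ := by group
          _ = n * ((n⁻¹ * s * n) * x) * n⁻¹ := by rw [e]
          _ = s * (n * x * n⁻¹) := by group
      · intro e
        calc x * (n⁻¹ * s * n) = n⁻¹ * (n * x * n⁻¹ * s) * n := by group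
          _ = n⁻¹ * (s * (n * x * n⁻¹)) * n := by rw [e]
          _ = n⁻¹ * s * n * x := by group
    exact commute_centralizer_normalizer h hna
      (mem_centralizer_iff.2 fun c hc => (mem_centralizer_singleton_iff.1 hc)) hnC
  haveI : IsMulCommutative (S : Subgroup G) :=
    ⟨⟨fun a b => Subtype.ext (hab a a.2 b b.2).eq⟩⟩
  refine ht1 (eq_one_of_mem_center S hab htS (mem_center_of_isolated h S htS
    (by rw [ht2]; exact one_mem _) fun g hg => ?_))
  obtain ⟨m, hm, e⟩ := CfsgLib.Transfer.controlsFusion_normalizer_of_isMulCommutative S ‹_›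
    t htS g hg
  rw [← e, ← (hN m hm).eq, mul_inv_cancel_right]

/-- Abelian involution centralisers give `SL(2, 2^f)`. -/
theorem sl2_of_abelian_centralizers (h : SolvCA G) [Nontrivial G] (S : Sylow 2 G)
    (hab : AbOn (S : Subgroup G)) (hΩ : 4 ≤ Nat.card (omegaTwo (S : Subgroup G) hab))
    (hC : ∀ t : G, orderOf t = 2 → AbOn (centralizer ({t} : Set G))) :
    ∃ (F : Type) (_ : Field F) (_ : Fintype F), CharP F 2 ∧ 4 ≤ Fintype.card F ∧
      Nonempty (G ≃* Matrix.SpecialLinearGroup (Fin 2) F) := by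
  classical
  haveI : Fact (Nat.Prime 2) := ⟨Nat.prime_two⟩
  rcases Cfsg.Agent.S2202.result even_card
      (fun t ht => ⟨⟨fun a b => Subtype.ext (hC t ht a a.2 b b.2).eq⟩⟩) with
    hcyc | hnorm | ⟨F, iF, iT, A, iA, iAf, hchar, -, ⟨e⟩⟩
  · exfalso
    haveI := hcyc S
    haveI : IsCyclic (omegaTwo (S : Subgroup G) hab) :=
      isCyclic_of_injective (inclusion (fun x hx => hx.1 : omegaTwo (S : Subgroup G) hab ≤ S))
        (inclusion_injective _)
    haveI := Fintype.ofFinite (omegaTwo (S : Subgroup G) hab)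
    have hle := IsCyclic.card_pow_eq_one_le (α := omegaTwo (S : Subgroup G) hab) (n := 2) (by norm_num)
    rw [Finset.filter_true_of_mem (fun x _ => Subtype.ext (by
      rw [SubgroupClass.coe_pow]; exact x.2.2)), Finset.card_univ, ← Nat.card_eq_fintype_card] at hle
    omega
  · exfalso
    haveI := hnorm S
    haveI := isSolvable_sylow S
    obtain ⟨n, hn, hnC⟩ := exists_moving h S hab
    exact hnC (mem_centralizer_iff.2 fun s hs =>
      (mem_center_iff.1 (solvable_normal_le_center h (S : Subgroup G) hs) n).symm)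
  · letI := iA
    let π : G →* A := (MonoidHom.snd _ _).comp e.toMonoidHom
    have hπ : ∀ g, π g = 1 := fun g => by
      have hle : commutator G ≤ π.ker := Abelianization.commutator_subset_ker π
      exact hle (Group.IsPerfect.commutator_eq_top (G := G) ▸ mem_top g)
    haveI : Subsingleton A := ⟨fun a b => by
      obtain ⟨g, hg⟩ := e.surjective (1, a)
      obtain ⟨g', hg'⟩ := e.surjective (1, b)
      have h1 := hπ g
      have h2 := hπ g'
      simp only [π, MonoidHom.coe_comp, Function.comp_apply, MulEquiv.coe_toMonoidHom,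
        MonoidHom.coe_snd, hg, hg'] at h1 h2
      rw [h1, h2]⟩
    let e' : G ≃* Matrix.SpecialLinearGroup (Fin 2) F :=
      MulEquiv.ofBijective ((MonoidHom.fst _ _).comp e.toMonoidHom) ⟨fun a b hab' =>
        e.injective (Prod.ext hab' (Subsingleton.elim _ _)), fun x => by
        obtain ⟨g, hg⟩ := e.surjective (x, 1)
        exact ⟨g, by simp [hg]⟩⟩
    refine ⟨F, iF, iT, hchar, ?_, ⟨e'⟩⟩
    by_contra hq
    haveI := hchar
    obtain ⟨k, -, hk⟩ := FiniteField.card F 2
    have hq2 : Fintype.card F = 2 := by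
      rcases hk' : (k : ℕ) with _ | _ | k'
      · exact absurd hk' k.pos.ne'
      · rw [hk, hk']; norm_num
      · exact absurd (hk ▸ hk' ▸ (show 4 ≤ 2 ^ (k' + 2) by
          calc 4 = 2 ^ 2 := rfl
            _ ≤ 2 ^ (k' + 2) := Nat.pow_le_pow_right (by norm_num) (by omega))) hq
    have h6 : Nat.card G = 6 := by
      rw [Nat.card_congr e'.toEquiv, CfsgLib.Linear.card_SL_two, hq2]; norm_num
    have hdvd : Nat.card (omegaTwo (S : Subgroup G) hab) ∣ 6 :=
      h6 ▸ card_subgroup_dvd_card _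
    obtain ⟨j, hj⟩ := IsPGroup.iff_card.1 (S.isPGroup'.to_le
      (fun x hx => hx.1 : omegaTwo (S : Subgroup G) hab ≤ S))
    rw [hj] at hdvd hΩ
    rcases j with _ | _ | j
    · omega
    · omega
    · have : 4 ∣ 6 := (Dvd.intro (2 ^ j) (by ring)).trans hdvd
      omega

theorem card_omega_of_moving (S : Sylow 2 G) (hab : AbOn (S : Subgroup G)) (h : SolvCA G)
    [Nontrivial G] :
    ∃ n ∈ normalizer ((S : Subgroup G) : Set G), ∃ u ∈ omegaTwo (S : Subgroup G) hab,
      u ≠ 1 ∧ n * u * n⁻¹ ≠ u ∧ n * (n * u * n⁻¹) * n⁻¹ ≠ u := by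
  haveI : Fact (Nat.Prime 2) := ⟨Nat.prime_two⟩
  obtain ⟨n, hn, hnC⟩ := exists_moving h S hab
  have h2 : 2 ∣ Nat.card (S : Subgroup G) :=
    (Nat.prime_two.coprime_iff_not_dvd.2 S.not_dvd_index).dvd_of_dvd_mul_right
      (by rw [card_mul_index]; exact even_iff_two_dvd.1 even_card)
  obtain ⟨u, hu⟩ := exists_prime_orderOf_dvd_card' (G := (S : Subgroup G)) 2 h2
  have hu2 : (u : G) ^ 2 = 1 := orderOf_dvd_iff_pow_eq_one.1 ((orderOf_coe u).trans hu).dvd
  have hu1 : (u : G) ≠ 1 := fun e => by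
    rw [← orderOf_coe, e, orderOf_one] at hu; omega
  refine ⟨n, hn, u, ⟨u.2, hu2⟩, hu1, fun e => hnC (mem_centralizer_of_commute h S hab u.2 hu2 hu1
    hn (mul_inv_eq_iff_eq_mul.1 e)), fun e => hnC ?_⟩
  have hn2 : n ^ 2 ∈ centralizer ((S : Subgroup G) : Set G) :=
    mem_centralizer_of_commute h S hab u.2 hu2 hu1 (pow_mem hn 2) (mul_inv_eq_iff_eq_mul.1 (by
      rw [sq, mul_inv_rev]
      simpa [mul_assoc] using e))
  -- `n` has odd order modulo `C(S)`
  set N := normalizer ((S : Subgroup G) : Set G)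
  set C := centralizer ((S : Subgroup G) : Set G)
  haveI : (C.subgroupOf N).Normal := by
    refine ⟨fun c hc m => mem_subgroupOf.2 (mem_centralizer_iff.2 fun s hs => ?_)⟩
    have h1 := mem_centralizer_iff.1 (mem_subgroupOf.1 hc) _
      ((mem_normalizer_iff''.1 m.2 s).1 hs)
    simp only [coe_mul, coe_inv]
    calc s * ((m : G) * c * (m : G)⁻¹)
        = (m : G) * (((m : G)⁻¹ * s * m) * c) * (m : G)⁻¹ := by group
      _ = (m : G) * ((c : G) * ((m : G)⁻¹ * s * m)) * (m : G)⁻¹ := by rw [h1]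
      _ = (m : G) * c * (m : G)⁻¹ * s := by group
  have hodd : ¬ 2 ∣ (C.subgroupOf N).index := by
    intro h3
    refine S.not_dvd_index ((h3.trans ?_).trans (relIndex_dvd_index_of_le (H := (S : Subgroup G))
      (K := N) le_normalizer))
    exact relIndex_dvd_of_le_left N fun s hs => mem_centralizer_iff.2 fun t ht => (hab t ht s hs).eq
  have h3 : (⟨n, hn⟩ : N) ^ (C.subgroupOf N).index ∈ C.subgroupOf N :=
    Subgroup.pow_index_mem _ _
  obtain ⟨k, hk⟩ := Nat.odd_iff.2 (Nat.two_dvd_ne_zero.1 hodd)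
  rw [hk, pow_succ, pow_mul] at h3
  have h4 : ((⟨n, hn⟩ : N) ^ 2) ^ k ∈ C.subgroupOf N := pow_mem (mem_subgroupOf.2 hn2) k
  exact mem_subgroupOf.1 ((Subgroup.mul_mem_cancel_left _ h4).1 h3)

/-- Small rank: `S` is homocyclic. -/
theorem exists_homocyclic (h : SolvCA G) [Nontrivial G] (S : Sylow 2 G)
    (hab : AbOn (S : Subgroup G)) (hΩ : Nat.card (omegaTwo (S : Subgroup G) hab) < 8) :
    ∃ m, 1 ≤ m ∧ Nonempty ((S : Subgroup G) ≃* Multiplicative (ZMod (2 ^ m) × ZMod (2 ^ m))) := by
  classical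
  haveI : Fact (Nat.Prime 2) := ⟨Nat.prime_two⟩
  obtain ⟨n, hn, u, hu, hu1, hnu, hnnu⟩ := card_omega_of_moving S hab h
  set Ω := omegaTwo (S : Subgroup G) hab with hΩdef
  have hconjS : ∀ x ∈ (S : Subgroup G), n * x * n⁻¹ ∈ (S : Subgroup G) := fun x hx =>
    (mem_normalizer_iff.1 hn x).1 hx
  have hΩn : ∀ s ∈ Ω, n * s * n⁻¹ ∈ Ω := fun s hs =>
    ⟨hconjS s hs.1, by rw [conj_pow, hs.2, mul_one, mul_inv_cancel]⟩
  set v := n * u * n⁻¹ with hv
  set w := n * v * n⁻¹ with hw
  have hvΩ : v ∈ Ω := hΩn u hu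
  have hwΩ : w ∈ Ω := hΩn v hvΩ
  have hv1 : v ≠ 1 := fun e => hu1 (by
    have : u = n⁻¹ * v * n := by rw [hv]; group
    rw [this, e, mul_one, inv_mul_cancel])
  have hw1 : w ≠ 1 := fun e => hv1 (by
    have : v = n⁻¹ * w * n := by rw [hw]; group
    rw [this, e, mul_one, inv_mul_cancel])
  have hvw : v ≠ w := fun e => hnu (by
    have h1 : v = n * v * n⁻¹ := e
    have : n * u * n⁻¹ = n * v * n⁻¹ := h1
    exact (mul_left_cancel (mul_right_cancel this)).symm)
  have hcard : Nat.card Ω = 4 := by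
    obtain ⟨j, hj⟩ := IsPGroup.iff_card.1 (S.isPGroup'.to_le (fun x hx => hx.1 : Ω ≤ S))
    have h4 : 4 ≤ Nat.card Ω := by
      haveI := Fintype.ofFinite Ω
      have hu' : u ≠ w := fun e => hnnu e.symm
      have hu'' : u ≠ v := fun e => hnu e.symm
      have hc : ({1, ⟨u, hu⟩, ⟨v, hvΩ⟩, ⟨w, hwΩ⟩} : Finset Ω).card = 4 := by
        simp [Subtype.ext_iff, hu1.symm, hv1.symm, hw1.symm, hu', hu'', hvw]
      rw [Nat.card_eq_fintype_card, ← hc]
      exact Finset.card_le_univ _
    rw [hj] at h4 hΩ ⊢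
    rcases j with _ | _ | _ | j
    · omega
    · omega
    · rfl
    · exfalso
      have : 8 ≤ 2 ^ (j + 3) := by
        calc 8 = 2 ^ 3 := rfl
          _ ≤ 2 ^ (j + 3) := Nat.pow_le_pow_right (by norm_num) (by omega)
      omega
  have hall : ∀ z ∈ Ω, z = 1 ∨ z = u ∨ z = v ∨ z = w := by
    intro z hz
    by_contra hcon
    push Not at hcon
    haveI := Fintype.ofFinite Ω
    have hu' : u ≠ w := fun e => hnnu e.symm
    have hu'' : u ≠ v := fun e => hnu e.symm
    obtain ⟨z1, zu, zv, zw⟩ := hcon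
    have hc : ({⟨z, hz⟩, 1, ⟨u, hu⟩, ⟨v, hvΩ⟩, ⟨w, hwΩ⟩} : Finset Ω).card = 5 := by
      simp [Subtype.ext_iff, hu1.symm, hv1.symm, hw1.symm, hu', hu'', hvw, z1, zu, zv, zw]
    have := Finset.card_le_univ ({⟨z, hz⟩, 1, ⟨u, hu⟩, ⟨v, hvΩ⟩, ⟨w, hwΩ⟩} : Finset Ω)
    rw [hc, ← Nat.card_eq_fintype_card, hcard] at this
    omega
  -- the exponent
  have hex : ∃ m, ∀ x ∈ (S : Subgroup G), x ^ 2 ^ m = 1 := by
    obtain ⟨k, hk⟩ := IsPGroup.iff_card.1 S.isPGroup'
    refine ⟨k, fun x hx => ?_⟩
    have := pow_card_eq_one' (G := (S : Subgroup G)) (x := ⟨x, hx⟩)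
    rw [hk] at this
    exact congrArg Subtype.val this
  obtain ⟨m, hm⟩ : ∃ m, Nat.find hex = m + 1 := by
    refine ⟨Nat.find hex - 1, ?_⟩
    have : Nat.find hex ≠ 0 := fun e => hu1 (by
      have := Nat.find_spec hex u hu.1
      rwa [e, pow_zero, pow_one] at this)
    omega
  have hexp := Nat.find_spec hex
  rw [hm] at hexp
  obtain ⟨a, ha, hau⟩ : ∃ a ∈ (S : Subgroup G), a ^ 2 ^ m = u := by
    have hnot := Nat.find_min hex (show m < Nat.find hex by omega)
    push Not at hnot
    obtain ⟨x, hx, hx1⟩ := hnot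
    have hxΩ : x ^ 2 ^ m ∈ Ω := ⟨pow_mem hx _, by rw [← pow_mul, ← pow_succ]; exact hexp x hx⟩
    have hback : ∀ z ∈ (S : Subgroup G), ∀ s, z ^ 2 ^ m = n * s * n⁻¹ →
        (n⁻¹ * z * n) ^ 2 ^ m = s ∧ n⁻¹ * z * n ∈ (S : Subgroup G) := fun z hz s e => by
      refine ⟨?_, (mem_normalizer_iff''.1 hn z).1 hz⟩
      have := conj_pow (a := n⁻¹) (b := z) (i := 2 ^ m)
      rw [inv_inv] at this
      rw [this, e]; group
    rcases hall _ hxΩ with e | e | e | e
    · exact absurd e hx1
    · exact ⟨x, hx, e⟩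
    · obtain ⟨e1, h1⟩ := hback x hx u e
      exact ⟨_, h1, e1⟩
    · obtain ⟨e1, h1⟩ := hback x hx v e
      obtain ⟨e2, h2⟩ := hback _ h1 u e1
      exact ⟨_, h2, e2⟩
  set b := n * a * n⁻¹ with hb
  have hbS : b ∈ (S : Subgroup G) := hconjS a ha
  have hbv : b ^ 2 ^ m = v := by rw [hb, conj_pow, hau]
  refine ⟨m + 1, by omega, ?_⟩
  set N := 2 ^ (m + 1) with hN
  haveI : NeZero N := ⟨by positivity⟩
  have ha1 : a ^ N = 1 := hexp a ha
  have hb1 : b ^ N = 1 := hexp b hbS
  have hmod : ∀ (g : G), g ^ N = 1 → ∀ i j : ℕ, i % N = j % N → g ^ i = g ^ j := fun g hg i j hij => by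
    rw [← Nat.div_add_mod i N, pow_add, pow_mul, hg, one_pow, one_mul, hij,
      ← Nat.div_add_mod j N, pow_add, pow_mul, hg, one_pow, one_mul, Nat.mul_add_mod,
      Nat.mod_mod]
  let f : Multiplicative (ZMod N × ZMod N) →* (S : Subgroup G) :=
    { toFun := fun x => ⟨a ^ (x.toAdd.1).val * b ^ (x.toAdd.2).val,
        mul_mem (pow_mem ha _) (pow_mem hbS _)⟩
      map_one' := Subtype.ext (by simp)
      map_mul' := fun x y => Subtype.ext (by
        show a ^ (x.toAdd.1 + y.toAdd.1).val * b ^ (x.toAdd.2 + y.toAdd.2).val = _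
        rw [coe_mul, hmod a ha1 _ ((x.toAdd.1).val + (y.toAdd.1).val) (by rw [ZMod.val_add, Nat.mod_mod]),
          hmod b hb1 _ ((x.toAdd.2).val + (y.toAdd.2).val) (by rw [ZMod.val_add, Nat.mod_mod]),
          pow_add, pow_add]
        exact Commute.mul_mul_mul_comm (hab _ (pow_mem ha _) _ (pow_mem hbS _)) _ _) }
  have hfa : ∀ i j : ℕ, a ^ i * b ^ j ∈ f.range.map (S : Subgroup G).subtype := fun i j =>
    ⟨_, ⟨Multiplicative.ofAdd ((i : ZMod N), (j : ZMod N)), rfl⟩, by
      show a ^ ((i : ZMod N)).val * b ^ ((j : ZMod N)).val = _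
      rw [ZMod.val_natCast, ZMod.val_natCast, hmod a ha1 _ i (Nat.mod_mod _ _),
        hmod b hb1 _ j (Nat.mod_mod _ _)]⟩
  have hcomb : ∀ z ∈ Ω, ∀ k, k ≤ m → ∃ y ∈ f.range.map (S : Subgroup G).subtype,
      y ∈ (S : Subgroup G) ∧ y ^ 2 ^ k = z := by
    intro z hz k hk
    have he : ∀ e d : ℕ, (a ^ (e * 2 ^ (m - k)) * b ^ (d * 2 ^ (m - k))) ^ 2 ^ k = u ^ e * v ^ d := by
      intro e d
      have h2 : 2 ^ (m - k) * 2 ^ k = 2 ^ m := by rw [← pow_add, Nat.sub_add_cancel hk]
      rw [(hab _ (pow_mem ha _) _ (pow_mem hbS _)).mul_pow, ← pow_mul, ← pow_mul, mul_assoc,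
        mul_assoc, h2, mul_comm e, mul_comm d, pow_mul, pow_mul, hau, hbv]
    have huv : u * v = w := by
      rcases hall _ (mul_mem hu hvΩ) with e | e | e | e
      · refine absurd ?_ hnu
        rw [eq_inv_of_mul_eq_one_right e]
        exact inv_eq_of_mul_eq_one_right (by rw [← sq]; exact hu.2)
      · exact absurd (mul_eq_left.1 e) hv1
      · exact absurd (mul_eq_right.1 e) hu1
      · exact e
    rcases hall z hz with rfl | rfl | rfl | rfl
    · exact ⟨1, one_mem _, one_mem _, one_pow _⟩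
    · exact ⟨_, hfa _ _, mul_mem (pow_mem ha _) (pow_mem hbS _), (he 1 0).trans (by simp)⟩
    · exact ⟨_, hfa _ _, mul_mem (pow_mem ha _) (pow_mem hbS _), (he 0 1).trans (by simp)⟩
    · exact ⟨_, hfa _ _, mul_mem (pow_mem ha _) (pow_mem hbS _), by simpa [huv] using he 1 1⟩
  have hsurj : ∀ k, k ≤ m + 1 → ∀ x ∈ (S : Subgroup G), x ^ 2 ^ k = 1 →
      x ∈ f.range.map (S : Subgroup G).subtype := by
    intro k
    induction k with
    | zero => intro _ x _ hx; rw [pow_zero, pow_one] at hx; exact hx ▸ one_mem _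
    | succ k ih =>
      intro hk x hxS hx
      obtain ⟨y, hy, hyS, hyk⟩ := hcomb _ (⟨pow_mem hxS (2 ^ k), by rw [← pow_mul, ← pow_succ]; exact hx⟩ :
        x ^ 2 ^ k ∈ Ω) k (by omega)
      have h1 := ih (by omega) (x * y⁻¹) (mul_mem hxS (inv_mem hyS))
        (by rw [(hab x hxS _ (inv_mem hyS)).mul_pow, inv_pow, hyk, mul_inv_cancel])
      have := mul_mem h1 hy
      rwa [inv_mul_cancel_right] at this
  have hsur : Function.Surjective f := fun x => by
    obtain ⟨y, ⟨z, rfl⟩, hy⟩ := hsurj (m + 1) le_rfl x x.2 (hexp x x.2)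
    exact ⟨z, Subtype.ext hy⟩
  have hinj : Function.Injective f := by
    rw [injective_iff_map_eq_one]
    intro x hx
    by_contra hx1
    -- some multiple of `x` has order two
    obtain ⟨k, hk, hk'⟩ : ∃ k : ℕ, x ^ 2 ^ k ≠ 1 ∧ (x ^ 2 ^ k) ^ 2 = 1 := by
      have hN0 : x ^ 2 ^ (m + 1) = 1 := by
        apply Multiplicative.toAdd.injective
        rw [toAdd_pow, toAdd_one, Prod.ext_iff]
        rw [← hN]
        constructor <;> simp
      have hex' : ∃ k, x ^ 2 ^ k = 1 := ⟨_, hN0⟩
      obtain ⟨k, hk⟩ : ∃ k, Nat.find hex' = k + 1 := by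
        refine ⟨Nat.find hex' - 1, ?_⟩
        have : Nat.find hex' ≠ 0 := fun e => hx1 (by
          have := Nat.find_spec hex'
          rwa [e, pow_zero, pow_one] at this)
        omega
      refine ⟨k, Nat.find_min hex' (by omega), ?_⟩
      rw [← pow_mul, ← pow_succ, ← hk]
      exact Nat.find_spec hex'
    set y := x ^ 2 ^ k with hy
    have hfy : f y = 1 := by rw [hy, map_pow, hx, one_pow]
    have h2 : ∀ c : ZMod N, c + c = 0 → c.val = 0 ∨ c.val = 2 ^ m := by
      intro c hc
      have h0 := congrArg ZMod.val hc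
      rw [ZMod.val_add, ZMod.val_zero] at h0
      have hlt := ZMod.val_lt c
      have hN2 : N = 2 * 2 ^ m := by rw [hN, pow_succ]; ring
      obtain ⟨d, hd⟩ := Nat.dvd_of_mod_eq_zero h0
      have hd2 : d < 2 := by
        by_contra hd2
        have : 2 * N ≤ N * d := by rw [mul_comm 2 N]; exact Nat.mul_le_mul_left N (by omega)
        omega
      interval_cases d <;> omega
    have hy2 : y.toAdd + y.toAdd = 0 := by
      rw [← toAdd_mul, ← sq, hk']; rfl
    have hval := congrArg Subtype.val hfy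
    have hval' : a ^ (y.toAdd.1).val * b ^ (y.toAdd.2).val = 1 := hval
    rcases h2 _ (congrArg Prod.fst hy2) with e1 | e1 <;>
      rcases h2 _ (congrArg Prod.snd hy2) with e2 | e2 <;> rw [e1, e2] at hval'
    · refine hk (Multiplicative.toAdd.injective (Prod.ext ?_ ?_))
      · exact (ZMod.val_eq_zero _).1 e1
      · exact (ZMod.val_eq_zero _).1 e2
    · rw [pow_zero, one_mul, hbv] at hval'; exact hv1 hval'
    · rw [pow_zero, mul_one, hau] at hval'; exact hu1 hval'
    · rw [hau, hbv] at hval'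
      refine hnu ?_
      rw [eq_inv_of_mul_eq_one_right hval']
      exact inv_eq_of_mul_eq_one_right (by rw [← sq]; exact hu.2)
  exact ⟨(MulEquiv.ofBijective f ⟨hinj, hsur⟩).symm⟩

/-- Conclusion of the abelian case. -/
theorem abelian_case (hGW : GW.SimpleHyp.{u} (Nat.card (G ⧸ center G))) (h : SolvCA G)
    [Nontrivial G] (S : Sylow 2 G) (hab : AbOn (S : Subgroup G)) :
    (∃ (F : Type) (_ : Field F) (_ : Fintype F), CharP F 2 ∧ 4 ≤ Fintype.card F ∧
      Nonempty (G ≃* Matrix.SpecialLinearGroup (Fin 2) F)) ∨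
    (∃ (F : Type) (_ : Field F) (_ : Fintype F), 5 < Fintype.card F ∧
      (Fintype.card F % 8 = 3 ∨ Fintype.card F % 8 = 5) ∧
      Nonempty (G ≃* Matrix.ProjectiveSpecialLinearGroup (Fin 2) F)) := by
  classical
  haveI : Fact (Nat.Prime 2) := ⟨Nat.prime_two⟩
  by_cases hΩ : 8 ≤ Nat.card (omegaTwo (S : Subgroup G) hab)
  · refine Or.inl (sl2_of_abelian_centralizers h S hab (by omega) fun t ht => ?_)
    have hp : IsPGroup 2 (zpowers t) := IsPGroup.of_card (n := 1) (by rw [Nat.card_zpowers, ht, pow_one])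
    obtain ⟨Q, hQ⟩ := hp.exists_le_sylow
    obtain ⟨g, hg⟩ := MulAction.exists_smul_eq G Q S
    have hmem : g * t * g⁻¹ ∈ (S : Subgroup G) := by
      rw [← hg, Sylow.coe_subgroup_smul]
      exact ⟨t, hQ (mem_zpowers t), rfl⟩
    have ht2 : t ^ 2 = 1 := ht ▸ pow_orderOf_eq_one t
    have ht1 : t ≠ 1 := fun e => by rw [e, orderOf_one] at ht; omega
    have hC := abelian_centralizer_of_big h S hab hΩ hmem
      (by rw [conj_pow, ht2, mul_one, mul_inv_cancel]) fun e => ht1 (by simpa using conj_eq_one_iff.1 e)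
    intro a ha b hb
    have key : ∀ x ∈ centralizer ({t} : Set G), g * x * g⁻¹ ∈ centralizer ({g * t * g⁻¹} : Set G) :=
      fun x hx => mem_centralizer_singleton_iff.2 (by
        have hxt := mem_centralizer_singleton_iff.1 hx
        calc g * x * g⁻¹ * (g * t * g⁻¹) = g * (x * t) * g⁻¹ := by group
          _ = g * (t * x) * g⁻¹ := by rw [hxt]
          _ = g * t * g⁻¹ * (g * x * g⁻¹) := by group)
    have := hC _ (key a ha) _ (key b hb)
    exact (MulAut.conj g).injective.eq_iff.1 (by rw [map_mul, map_mul]; exact this.eq)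
  push Not at hΩ
  obtain ⟨m, hm1, ⟨e⟩⟩ := exists_homocyclic h S hab hΩ
  haveI := isSimpleGroup_quotient_center h
  set π := QuotientGroup.mk' (center G)
  have hπ : Function.Surjective π := QuotientGroup.mk'_surjective _
  set P : Sylow 2 (G ⧸ center G) := S.mapSurjective hπ
  have eP : (S : Subgroup G) ≃* (P : Subgroup (G ⧸ center G)) := by
    refine MulEquiv.ofBijective ((π.subgroupMap (S : Subgroup G)).comp (MonoidHom.id _)) ⟨?_, ?_⟩ |>.trans
      (MulEquiv.subgroupCongr (Sylow.coe_mapSurjective hπ S).symm)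
    · rw [injective_iff_map_eq_one]
      intro x hx
      exact Subtype.ext (eq_one_of_mem_center S hab x.2
        ((QuotientGroup.eq_one_iff _).1 (congrArg Subtype.val hx)))
    · exact π.subgroupMap_surjective _
  have heven : 2 ∣ Nat.card (G ⧸ center G) := by
    have h2 : 2 ∣ Nat.card (S : Subgroup G) := by
      rw [Nat.card_congr e.toEquiv, Nat.card_congr Multiplicative.toAdd, Nat.card_prod, Nat.card_zmod]
      exact dvd_mul_of_dvd_left (dvd_pow_self 2 (by omega)) _
    rw [Nat.card_congr eP.toEquiv] at h2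
    exact h2.trans (card_subgroup_dvd_card _)
  haveI : Nontrivial (G ⧸ center G) := QuotientGroup.nontrivial_iff.2 center_ne_top
  by_cases hm2 : 2 ≤ m
  · exfalso
    obtain ⟨hn, -, -⟩ := Cfsg.Agent.S0949.result P m hm2 (eP.symm.trans e) fun N hN hodd =>
      (IsSimpleGroup.eq_bot_or_eq_top_of_normal N hN).resolve_right fun ht => by
        rw [ht, card_top] at hodd
        exact hodd.not_two_dvd_nat heven
    rcases IsSimpleGroup.eq_bot_or_eq_top_of_normal _ hn with hb | ht
    · exact P.ne_bot_of_dvd_card heven hb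
    · haveI : Group.IsSolvable (P : Subgroup (G ⧸ center G)) := isSolvable_sylow P
      haveI : Group.IsSolvable (G ⧸ center G) :=
        Group.isSolvable_of_surjective (f := (P : Subgroup (G ⧸ center G)).subtype)
          fun g => ⟨⟨g, ht ▸ mem_top g⟩, rfl⟩
      haveI : Group.IsPerfect (G ⧸ center G) := inferInstance
      exact (Group.IsSolvable.commutator_lt_top_of_nontrivial (G ⧸ center G)).ne
        Group.IsPerfect.commutator_eq_top
  obtain rfl : m = 1 := by omega
  let k := eP.symm.trans e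
  haveI : IsKleinFour (P : Subgroup (G ⧸ center G)) :=
    { card_four := by
        rw [Nat.card_congr k.toEquiv, Nat.card_congr Multiplicative.toAdd, Nat.card_prod,
          Nat.card_zmod, pow_one]
      exponent_two := by
        rw [Monoid.exponent_eq_of_mulEquiv k]
        have hk4 : IsKleinFour (Multiplicative (ZMod (2 ^ 1) × ZMod (2 ^ 1))) := by
          change IsKleinFour (Multiplicative (ZMod 2 × ZMod 2))
          infer_instance
        exact hk4.exponent_two }
  have hcardP : Nat.card (P : Subgroup (G ⧸ center G)) = 4 := IsKleinFour.card_four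
  have h8 : ¬ 8 ∣ Nat.card (G ⧸ center G) := by
    intro h8
    have h1 := P.card_eq_multiplicity
    rw [hcardP] at h1
    have h3 := (Nat.Prime.pow_dvd_iff_le_factorization Nat.prime_two Nat.card_pos.ne').1
      (show 2 ^ 3 ∣ Nat.card (G ⧸ center G) from h8)
    have : 2 ^ 3 ≤ 2 ^ (Nat.card (G ⧸ center G)).factorization 2 :=
      Nat.pow_le_pow_right (by norm_num) h3
    omega
  rcases hGW (G ⧸ center G) inferInstance le_rfl P 2 le_rfl IsKleinFour.nonempty_mulEquiv with
    ⟨F, iF, iT, hodd, h3, ⟨ψ⟩⟩ | hψ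
  swap
  · obtain ⟨ψ⟩ := hψ
    refine absurd ?_ h8
    rw [Nat.card_congr ψ.toEquiv, nat_card_alternatingGroup, Nat.card_fin]
    norm_num [Nat.factorial]
  letI := iF
  letI := iT
  have hT := CfsgLib.Linear.card_PSL_two_odd (F := F) hodd
  rw [← Nat.card_congr ψ.toEquiv] at hT
  have hq : Fintype.card F % 8 = 3 ∨ Fintype.card F % 8 = 5 := by
    by_contra hcon
    refine h8 ?_
    have h2 : Fintype.card F % 8 = 1 ∨ Fintype.card F % 8 = 7 := by
      obtain ⟨j, hj⟩ := hodd; omega
    have h16 : 16 ∣ Fintype.card F ^ 2 - 1 := by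
      set q := Fintype.card F
      have hd := Nat.div_add_mod q 8
      rcases h2 with h2 | h2 <;> rw [h2] at hd
      · have e : q ^ 2 = 16 * (4 * (q / 8) ^ 2 + q / 8) + 1 := by
          conv_lhs => rw [← hd]
          ring
        exact ⟨4 * (q / 8) ^ 2 + q / 8, by omega⟩
      · have e : q ^ 2 = 16 * (4 * (q / 8) ^ 2 + 7 * (q / 8) + 3) + 1 := by
          conv_lhs => rw [← hd]
          ring
        exact ⟨4 * (q / 8) ^ 2 + 7 * (q / 8) + 3, by omega⟩
    obtain ⟨c, hc⟩ := h16
    rw [hc] at hT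
    exact ⟨Fintype.card F * c, by linarith⟩
  -- trivial centre
  have hZ1 : center G = ⊥ := by
    have hker : (ψ.toMonoidHom.comp π).ker = center G := by
      ext g
      simp [π, MonoidHom.mem_ker]
    have hstem : Cfsg.IsStemExtension (ψ.toMonoidHom.comp π) :=
      ⟨ψ.surjective.comp hπ, hker.le, by
        rw [Group.IsPerfect.commutator_eq_top]; exact le_top⟩
    have hle := CfsgLib.MultPSL.card_stem_le_two (F := F) (by omega) (by omega) _ hstem
    rw [CfsgLib.Linear.card_SL_two, ← hT, card_eq_card_quotient_mul_card_subgroup (center G),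
      mul_comm 2] at hle
    have hc2 : Nat.card (center G) ≤ 2 := Nat.le_of_mul_le_mul_left hle Nat.card_pos
    have hpos : 0 < Nat.card (center G) := Nat.card_pos
    by_contra hne
    have hc : Nat.card (center G) = 2 := by
      have : Nat.card (center G) ≠ 1 := fun e => hne (Subgroup.card_eq_one.1 e)
      omega
    haveI : Fintype (center G) := Fintype.ofFinite _
    obtain ⟨z, hz⟩ := exists_prime_orderOf_dvd_card' (G := center G) 2 (by rw [hc])
    have hz1 := eq_one_of_mem_center S hab (mem_sylow_of_center S z.2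
      ⟨1, by rw [pow_one, ← hz, ← orderOf_coe, pow_orderOf_eq_one]⟩) z.2
    rw [← orderOf_coe, hz1, orderOf_one] at hz
    omega
  let eG : G ≃* Matrix.ProjectiveSpecialLinearGroup (Fin 2) F :=
    ((QuotientGroup.quotientMulEquivOfEq hZ1).trans QuotientGroup.quotientBot).symm.trans ψ
  by_cases h5 : 5 < Fintype.card F
  · exact Or.inr ⟨F, iF, iT, h5, hq, ⟨eG⟩⟩
  refine Or.inl (sl2_of_abelian_centralizers h S hab ?_ fun t ht => ?_)
  · obtain ⟨n, hn, u, hu, hu1, hnu, hnnu⟩ := card_omega_of_moving S hab h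
    have hle : (S : Subgroup G) ≤ omegaTwo (S : Subgroup G) hab := fun x hx => ⟨hx, by
      have h1 := Monoid.pow_exponent_eq_one (eP ⟨x, hx⟩)
      rw [IsKleinFour.exponent_two, ← map_pow] at h1
      exact congrArg Subtype.val (eP.map_eq_one_iff.1 h1)⟩
    refine le_trans ?_ (Subgroup.card_le_of_le hle)
    rw [Nat.card_congr eP.toEquiv, hcardP]
  · have hord : orderOf (eG t) = 2 := by rw [MulEquiv.orderOf_eq, ht]
    rcases CfsgLib.GW.card_centralizer_involution_psl hodd hord with ⟨h41, hc⟩ | ⟨h43, -⟩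
    · have hq5 : Fintype.card F = 5 := by omega
      rw [hq5] at hc
      haveI : Fact (Nat.Prime 2) := ⟨Nat.prime_two⟩
      have hcomm : IsMulCommutative (centralizer ({eG t} : Set _)) :=
        IsPGroup.isMulCommutative_of_card_eq_prime_sq (p := 2) (by rw [hc]; norm_num)
      intro a ha b hb
      have key : ∀ x ∈ centralizer ({t} : Set G), eG x ∈ centralizer ({eG t} : Set _) :=
        fun x hx => mem_centralizer_singleton_iff.2 (by
          rw [← map_mul, ← map_mul, mem_centralizer_singleton_iff.1 hx])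
      exact eG.injective.eq_iff.1 (by
        rw [map_mul, map_mul]
        exact congrArg Subtype.val (hcomm.is_comm.comm ⟨_, key a ha⟩ ⟨_, key b hb⟩))
    · omega

end CfsgLib.MinNonCA
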