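import Cfsg.Agent.MinNonCA.Alt7
import Cfsg.Agent.MinNonCA.TwoAbelian
import Cfsg.Agent.MinNonCA.Converse

/-!
# Non-solvable minimal non-CA-groups

Modulo the Gorenstein–Walter hypothesis `GW.SimpleHyp`.
-/

set_option autoImplicit false
set_option linter.style.haveILetI false
set_option linter.unusedSectionVars false

namespace CfsgLib.MinNonCA

open Subgroup CfsgLib.SL2Trace CfsgLib.DicksonPSL2
open scoped MatrixGroups

universe u

variable {G : Type u} [Group G] [Finite G]

theorem ker_eq_center {R : Type u} [Group R] {F : Type} [Field F] [Fintype F]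
    (h4 : 4 ≤ Fintype.card F) (π : R →* PSL(2, F)) (hπ : Function.Surjective π)
    (hle : π.ker ≤ center R) : π.ker = center R := by
  refine le_antisymm hle fun r hr => MonoidHom.mem_ker.2 (eq_one_of_forall_commute h4 fun y => ?_)
  obtain ⟨s, rfl⟩ := hπ y
  exact (show Commute r s from (mem_center_iff.1 hr s).symm).map π

/-- The case of a residual mapping onto `PSL(2, q)` contradicts the hypotheses. -/
theorem caOn_of_cover {F : Type} [Field F] [Fintype F]
    (hprop : ∀ H : Subgroup G, H ≠ ⊤ → CAOn H) (hns : ¬ Group.IsSolvable G) (R : Subgroup G)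
    (hRn : R.Normal) (hRp : Group.IsPerfect R) (π : R →* PSL(2, F)) (hπ : Function.Surjective π)
    (hle : π.ker ≤ center R) (h4 : 4 ≤ Fintype.card F)
    (hU : Fintype.card F = 9 ∨
      ∀ a b : R, π a ∈ (upGroup : Subgroup PSL(2, F)) → π b ∈ (upGroup : Subgroup PSL(2, F)) →
        Commute a b)
    (hK : Odd (Fintype.card F) → ∀ a b : R, π a ≠ 1 → π b ≠ 1 → π a ≠ π b →
      π a * π a = 1 → π b * π b = 1 → Commute (π a) (π b) → ¬ Commute a b) :
    CAOn (⊤ : Subgroup G) :=
  PSLSetup.caOn_top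
    { hprop := hprop, hns := hns, R := R, hRn := hRn, hRp := hRp, π := π, hπ := hπ,
      hker := ker_eq_center h4 π hπ hle, h4 := h4, hU := hU, hK := hK }

theorem upGroup_comm {F : Type} [Field F] {x y : PSL(2, F)} (hx : x ∈ (upGroup : Subgroup PSL(2, F)))
    (hy : y ∈ (upGroup : Subgroup PSL(2, F))) : Commute x y := by
  obtain ⟨v, rfl⟩ := hx
  obtain ⟨w, rfl⟩ := hy
  show u v * u w = u w * u v
  rw [← u_add, ← u_add, add_comm]

/-- Forward direction, up to the conditions on `q`. -/
theorem forward_psl (hGW : ∀ m, GW.SimpleHyp.{u} m) (hns : ¬ Group.IsSolvable G)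
    (hnca : ¬ CAOn (⊤ : Subgroup G)) (hprop : ∀ H : Subgroup G, H ≠ ⊤ → CAOn H) :
    ∃ (F : Type) (_ : Field F) (_ : Fintype F), 5 < Fintype.card F ∧
      (Fintype.card F % 8 = 3 ∨ Fintype.card F % 8 = 5) ∧ Nonempty (G ≃* PSL(2, F)) := by
  classical
  haveI : Fact (Nat.Prime 2) := ⟨Nat.prime_two⟩
  obtain ⟨R, hRn, hRp, hRq, -⟩ := exists_perfect_normal (G := G)
  haveI := hRn
  haveI := hRp
  have hRns : ¬ Group.IsSolvable R := fun hs =>
    hns ((Group.isSolvable_iff_subgroup_quotient R).2 ⟨hs, hRq⟩)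
  haveI : Nontrivial R := by
    by_contra hn
    rw [not_nontrivial_iff_subsingleton] at hn
    exact hRns (Group.isSolvable_of_comm fun a b => Subsingleton.elim _ _)
  have hR : SolvCA R := (solvCA_of_proper hns hprop).comap R.subtype R.subtype_injective
  obtain ⟨S⟩ : Nonempty (Sylow 2 R) := inferInstance
  by_cases hab : AbOn (S : Subgroup R)
  · rcases abelian_case (hGW _) hR S hab with
      ⟨F, iF, iT, h2, h4, ⟨e⟩⟩ | ⟨F, iF, iT, h5, h8, ⟨e⟩⟩
    · letI := iF
      letI := iT
      haveI := h2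
      haveI : Fact (Nat.Prime 2) := ⟨Nat.prime_two⟩
      refine absurd ?_ hnca
      let π : R →* PSL(2, F) := (projHom (F := F)).comp e.toMonoidHom
      have hker : ∀ r, π r = 1 → r = 1 := fun r hr => e.map_eq_one_iff.1 (by
        have h1 : (-1 : Matrix.SpecialLinearGroup (Fin 2) F) = 1 := by
          apply Subtype.ext
          ext i j
          simp [CharTwo.neg_eq]
        rcases (SL2Trace.proj_eq_one_iff (e r)).1 hr with h | h
        · exact h
        · exact h.trans h1)
      have hinj : Function.Injective π := (injective_iff_map_eq_one π).2 hker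
      refine caOn_of_cover hprop hns R hRn hRp π (projHom_surjective.comp e.surjective)
        (fun r hr => by rw [hker r hr]; exact one_mem _) h4 (Or.inr fun a b ha hb => ?_)
        fun hodd => absurd hodd ?_
      · exact hinj (by rw [map_mul, map_mul]; exact (upGroup_comm ha hb).eq)
      · rw [Nat.not_odd_iff_even]
        obtain ⟨n, -, hn⟩ := FiniteField.card F 2
        rw [hn]
        exact Nat.even_pow.2 ⟨even_two, n.ne_zero⟩
    · letI := iF
      letI := iT
      by_cases hRt : R = ⊤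
      · subst hRt
        exact ⟨F, iF, iT, h5, h8, ⟨Subgroup.topEquiv.symm.trans e⟩⟩
      · refine absurd (caOn_top_of_equiv e ?_) (psl_not_ca (odd_of_mod_eight h8) h5)
        exact (caOn_map_iff R.subtype R.subtype_injective ⊤).1
          (by rw [← MonoidHom.range_eq_map, range_subtype]; exact hprop R hRt)
  · refine absurd ?_ hnca
    obtain ⟨⟨n, hn, hdih⟩, -⟩ := nonabelian_case hR S hab
    haveI := isSimpleGroup_quotient_center hR
    rcases hGW _ (R ⧸ center R) inferInstance le_rfl _ n hn hdih with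
      ⟨F, iF, iT, hodd, h3, ⟨ψ⟩⟩ | ⟨⟨ψ⟩⟩
    swap
    · exact (alt_seven_false hR S hab (ψ.toMonoidHom.comp (QuotientGroup.mk' (center R)))
        (ψ.surjective.comp (QuotientGroup.mk'_surjective _))
        (by ext r; simp [MonoidHom.mem_ker])).elim
    letI := iF
    letI := iT
    let π : R →* PSL(2, F) := ψ.toMonoidHom.comp (QuotientGroup.mk' (center R))
    have hπ : Function.Surjective π := ψ.surjective.comp (QuotientGroup.mk'_surjective _)
    have hker : π.ker = center R := by ext r; simp [π, MonoidHom.mem_ker]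
    have h5 : 5 ≤ Fintype.card F := by obtain ⟨k, hk⟩ := hodd; omega
    refine caOn_of_cover hprop hns R hRn hRp π hπ hker.le (by omega) ?_ ?_
    · refine or_iff_not_imp_left.2 fun h9 a b ha hb => ?_
      obtain ⟨p, hp⟩ := CharP.exists F
      haveI : Fact p.Prime := ⟨CharP.char_is_prime F p⟩
      obtain ⟨m, hpp, hm⟩ := FiniteField.card F p
      have hp2 : p ≠ 2 := by
        rintro rfl
        rw [hm, Nat.odd_pow_iff m.ne_zero] at hodd
        exact absurd hodd (by decide)
      have hstem : Cfsg.IsStemExtension π :=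
        ⟨hπ, hker.le, by rw [Group.IsPerfect.commutator_eq_top]; exact le_top⟩
      have hle := CfsgLib.MultPSL.card_stem_le_two h5 h9 π hstem
      have hcardQ : Nat.card (R ⧸ center R) = Nat.card PSL(2, F) := Nat.card_congr ψ.toEquiv
      rw [card_eq_card_quotient_mul_card_subgroup (center R), hcardQ, CfsgLib.Linear.card_SL_two,
        ← CfsgLib.Linear.card_PSL_two_odd (F := F) hodd, mul_comm 2] at hle
      have hc2 : Nat.card (center R) ≤ 2 := Nat.le_of_mul_le_mul_left hle Nat.card_pos
      set ζ := a * b * a⁻¹ * b⁻¹ with hζ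
      have hζc : ζ ∈ center R := by
        rw [← hker, MonoidHom.mem_ker, hζ, map_mul, map_mul, map_mul, map_inv, map_inv,
          (upGroup_comm ha hb).eq, mul_inv_cancel_right, mul_inv_cancel]
      have hbp : b ^ p ∈ center R := by
        rw [← hker, MonoidHom.mem_ker, map_pow]
        obtain ⟨w, hw⟩ := hb
        rw [← hw]
        by_contra hne
        exact not_isTor_u w ((isTor_iff_pow p _).2 hne)
      have e1 : a * b * a⁻¹ = ζ * b := by rw [hζ]; group
      have hζp : ζ ^ p = 1 := by
        have e2 : a * b ^ p * a⁻¹ = ζ ^ p * b ^ p := by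
          rw [← conj_pow, e1, (show Commute ζ b from (mem_center_iff.1 hζc b).symm).mul_pow]
        rw [mem_center_iff.1 hbp a, mul_inv_cancel_right] at e2
        exact mul_right_cancel (e2.symm.trans (one_mul _).symm)
      have hord : orderOf ζ ∣ p := orderOf_dvd_of_pow_eq_one hζp
      have hordc : orderOf ζ ≤ 2 := by
        refine le_trans ?_ hc2
        exact Nat.le_of_dvd Nat.card_pos (Subgroup.orderOf_dvd_natCard _ hζc)
      have hζ1 : ζ = 1 := by
        refine orderOf_eq_one_iff.1 ?_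
        rcases (Nat.dvd_prime (Fact.out : p.Prime)).1 hord with h | h
        · exact h
        · have := (Fact.out : p.Prime).two_le
          omega
      rw [hζ1, one_mul] at e1
      exact mul_inv_eq_iff_eq_mul.1 e1
    · intro _ a b ha hb hne haa hbb _ hab'
      -- lifts of order a power of two
      obtain ⟨a', haz, ha', ha2⟩ := exists_two_element_lift π (by rw [pow_two, haa]) a rfl
      obtain ⟨b', hbz, hb', hb2⟩ := exists_two_element_lift π (by rw [pow_two, hbb]) b rfl
      obtain ⟨i, rfl⟩ := mem_zpowers_iff.1 haz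
      obtain ⟨j, rfl⟩ := mem_zpowers_iff.1 hbz
      have hcomm : Commute (a ^ i) (b ^ j) := (hab'.zpow_left i).zpow_right j
      have hz : ∀ g : R, (∃ k, g ^ 2 ^ k = 1) → IsPGroup 2 (zpowers g) := by
        rintro g ⟨k, hk⟩ ⟨_, l, rfl⟩
        refine ⟨k, Subtype.ext ?_⟩
        show (g ^ l) ^ 2 ^ k = 1
        rw [← zpow_natCast, ← zpow_mul, mul_comm, zpow_mul, zpow_natCast, hk, one_zpow]
      have hsub : IsPGroup 2 (zpowers (a ^ i) ⊔ zpowers (b ^ j) : Subgroup R) := by
        refine (hz _ ha2).to_sup_of_normal_right' (hz _ hb2) ((zpowers_le).2 ?_)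
        refine centralizer_le_normalizer _ (mem_centralizer_iff.2 fun g hg => ?_)
        obtain ⟨l, rfl⟩ := hg
        exact (hcomm.zpow_right l).symm.eq
      obtain ⟨S', hS'⟩ := hsub.exists_le_sylow
      refine (nonabelian_case hR S' (not_abOn_sylow S S' hab)).2 (a ^ i)
        (hS' (mem_sup_left (mem_zpowers _))) (b ^ j) (hS' (mem_sup_right (mem_zpowers _)))
        ?_ ?_ ?_ ?_ ?_ hcomm
      · intro hc; rw [← hker, MonoidHom.mem_ker, ha'] at hc; exact ha hc
      · intro hc; rw [← hker, MonoidHom.mem_ker, hb'] at hc; exact hb hc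
      · intro hc
        rw [← hker, MonoidHom.mem_ker, map_mul, map_inv, ha', hb'] at hc
        exact hne (inv_mul_eq_one.1 hc)
      · rw [← hker, MonoidHom.mem_ker, map_pow, ha', pow_two, haa]
      · rw [← hker, MonoidHom.mem_ker, map_pow, hb', pow_two, hbb]

/-- The possible field orders. -/
theorem field_conditions {F : Type} [Field F] [Fintype F] (h5 : 5 < Fintype.card F)
    (h8 : Fintype.card F % 8 = 3 ∨ Fintype.card F % 8 = 5)
    (hprop : ∀ H : Subgroup PSL(2, F), H ≠ ⊤ → CAOn H) :
    ((Fintype.card F).Prime ∧ 5 < Fintype.card F ∧ ¬ 16 ∣ Fintype.card F ^ 2 - 1) ∨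
      ∃ p : ℕ, p.Prime ∧ p ≠ 2 ∧ (Fintype.card F = 3 ^ p ∨ Fintype.card F = 5 ^ p) := by
  classical
  obtain ⟨p, hpF⟩ := CharP.exists F
  obtain ⟨⟨f, hf⟩, hp, hq⟩ := FiniteField.card F p
  simp only [PNat.mk_coe] at hq
  by_cases hf1 : f = 1
  · left
    exact ⟨by rw [hq, hf1, pow_one]; exact hp, h5, not_sixteen_dvd h8⟩
  right
  have hodd := odd_of_mod_eight h8
  have hpo : Odd p := by rw [hq, Nat.odd_pow_iff hf.ne'] at hodd; exact hodd
  have hfo : Odd f := by
    rw [← Nat.not_even_iff_odd]
    rintro ⟨k, rfl⟩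
    obtain ⟨j, hj⟩ := hpo.pow (n := k)
    have e : Fintype.card F = 4 * (j * (j + 1)) + 1 := by rw [hq, pow_add, hj]; ring
    obtain ⟨l, hl⟩ := Nat.even_mul_succ_self j
    omega
  set r := f.minFac with hr
  have hrp : r.Prime := Nat.minFac_prime hf1
  have hr2 : r ≠ 2 := fun e => by
    have := Nat.minFac_dvd f
    rw [← hr, e] at this
    exact Nat.not_even_iff_odd.2 hfo (even_iff_two_dvd.2 this)
  obtain ⟨d, hd⟩ := Nat.minFac_dvd f
  rw [← hr] at hd
  have hd0 : d ≠ 0 := fun e => hf.ne' (by rw [hd, e, mul_zero])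
  haveI : Fact p.Prime := ⟨hp⟩
  -- the subfield with `p ^ d` elements
  haveI : Fintype (GaloisField p d) := Fintype.ofFinite _
  have hK : Fintype.card (GaloisField p d) = p ^ d := by
    rw [← Nat.card_eq_fintype_card, GaloisField.card p d hd0]
  by_cases hbig : 5 < p ^ d
  · exfalso
    obtain ⟨ι⟩ := CfsgLib.FieldEmb.exists_ringHom (F := GaloisField p d) (K := F) (n := r)
      hrp.one_le hK (by rw [hq, hd, ← pow_mul, mul_comm r d])
    have hKo : Odd (Fintype.card (GaloisField p d)) := by rw [hK]; exact hpo.pow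
    refine psl_not_ca (F := GaloisField p d) hKo (hK ▸ hbig) ?_
    refine (caOn_map_iff (psiS ι 1) (psiS_injective ι 1) ⊤).1 ?_
    rw [← MonoidHom.range_eq_map]
    refine hprop _ fun ht => ?_
    have h1 : Nat.card (psiS ι 1).range = Nat.card PSL(2, GaloisField p d) :=
      (Nat.card_congr (MonoidHom.ofInjective (psiS_injective ι 1)).toEquiv).symm
    rw [ht, card_top] at h1
    have hFc := CfsgLib.Linear.card_PSL_two_odd (F := F) hodd
    have hKc := CfsgLib.Linear.card_PSL_two_odd (F := GaloisField p d) hKo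
    rw [h1, hKc] at hFc
    have hlt : Fintype.card (GaloisField p d) < Fintype.card F := by
      rw [hK, hq, hd]
      refine Nat.pow_lt_pow_right hp.one_lt ?_
      exact lt_mul_of_one_lt_left (Nat.pos_of_ne_zero hd0) hrp.one_lt
    have hsq : Fintype.card (GaloisField p d) ^ 2 - 1 < Fintype.card F ^ 2 - 1 := by
      have h := Nat.pow_lt_pow_left hlt two_ne_zero
      have : 0 < Fintype.card (GaloisField p d) ^ 2 := pow_pos Fintype.card_pos 2
      omega
    exact (Nat.mul_lt_mul_of_lt_of_lt hlt hsq).ne hFc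
  · push Not at hbig
    have hp3 : 3 ≤ p := by obtain ⟨k, hk⟩ := hpo; have := hp.two_le; omega
    have hd1 : d = 1 := by
      by_contra hne
      have : p ^ 2 ≤ p ^ d := Nat.pow_le_pow_right hp.pos (by omega)
      nlinarith
    rw [hd1, pow_one] at hbig
    rw [hd1, mul_one] at hd
    refine ⟨r, hrp, hr2, ?_⟩
    obtain ⟨k, hk⟩ := hpo
    rcases (show p = 3 ∨ p = 5 by omega) with rfl | rfl
    · exact Or.inl (by rw [hq, hd])
    · exact Or.inr (by rw [hq, hd])

/-- The theorem. -/
theorem minimal_non_ca (hGW : ∀ m, GW.SimpleHyp.{u} m) :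
    (¬ Group.IsSolvable G ∧ ¬ (∀ x : G, x ∉ Subgroup.center G →
        IsMulCommutative (Subgroup.centralizer ({x} : Set G))) ∧
      ∀ H : Subgroup G, H ≠ ⊤ → (∀ x : H, x ∉ Subgroup.center H →
        IsMulCommutative (Subgroup.centralizer ({x} : Set H)))) ↔
      ∃ (F : Type) (_ : Field F) (_ : Fintype F),
        Nonempty (G ≃* Matrix.ProjectiveSpecialLinearGroup (Fin 2) F) ∧
        (((Fintype.card F).Prime ∧ 5 < Fintype.card F ∧ ¬ 16 ∣ Fintype.card F ^ 2 - 1) ∨
         (∃ p : ℕ, p.Prime ∧ p ≠ 2 ∧ (Fintype.card F = 3 ^ p ∨ Fintype.card F = 5 ^ p))) := by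
  constructor
  · rintro ⟨hns, hnca, hprop⟩
    have hprop' : ∀ H : Subgroup G, H ≠ ⊤ → CAOn H := fun H hH => (caOn_iff H).2 (hprop H hH)
    obtain ⟨F, iF, iT, h5, h8, ⟨e⟩⟩ :=
      forward_psl hGW hns (fun h => hnca (caOn_top_iff.1 h)) hprop'
    letI := iF
    letI := iT
    refine ⟨F, iF, iT, ⟨e⟩, field_conditions h5 h8 fun H hH => ?_⟩
    have hne : H.comap e.toMonoidHom ≠ ⊤ := fun ht => hH (by
      rw [← map_comap_eq_self_of_surjective (f := e.toMonoidHom) e.surjective H, ht,
        map_top_of_surjective _ e.surjective])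
    have := (caOn_map_iff e.toMonoidHom e.injective _).2 (hprop' _ hne)
    rwa [map_comap_eq_self_of_surjective e.surjective] at this
  · rintro ⟨F, iF, iT, ⟨e⟩, hcond⟩
    obtain ⟨h1, h2, h3⟩ := converse e hcond
    exact ⟨h1, fun h => h2 (caOn_top_iff.2 h), fun H hH => (caOn_iff H).1 (h3 H hH)⟩

end CfsgLib.MinNonCA
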