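import Cfsg.Agent.DicksonPSL2.Classification
import Cfsg.Agent.DicksonPSL2.Orders
import Cfsg.Agent.AutPSL.Structure
import Cfsg.Agent.AutPSL.AutOrder
import Cfsg.Agent.Forms.KleinPSL
import Cfsg.Agent.RegularLinear.Field

/-!
# Semilinear automorphisms of `PSL(2, F)` in coordinates

`β = toPSLAut (conjSL h * fieldSL σ)`; what it means for `β` to fix an element `u w` or a pair of
commuting involutions.
-/

set_option autoImplicit false
set_option linter.unusedSectionVars false
set_option linter.style.haveILetI false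

namespace CfsgLib.MinNonCA

open Matrix CfsgLib.SL2Trace CfsgLib.DicksonPSL2
open CfsgLib.AutPSL (conjSL fieldSL toPSLAut mapGL)
open CfsgLib.SL2Tori (tr)
open scoped MatrixGroups

variable {F : Type*} [Field F]

/-- The semilinear automorphism of `PSL(2, F)` given by `h` and `σ`. -/
def semi (h : GL (Fin 2) F) (σ : F ≃+* F) : MulAut PSL(2, F) :=
  toPSLAut (conjSL h * fieldSL σ)

theorem semi_proj (h : GL (Fin 2) F) (σ : F ≃+* F) (g : SL(2, F)) :
    semi h σ (proj g) = proj (conjSL h (fieldSL σ g)) := rfl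

theorem semi_mul (h h' : GL (Fin 2) F) (σ σ' : F ≃+* F) :
    semi h σ * semi h' σ' = semi (h * mapGL σ h') (σ * σ') := by
  rw [semi, semi, semi, ← map_mul]
  congr 1
  rw [map_mul conjSL, map_mul fieldSL, mul_assoc (conjSL h), mul_assoc (conjSL h),
    ← mul_assoc (fieldSL σ), AutPSL.fieldSL_mul_conjSL, mul_assoc (conjSL (mapGL σ h'))]

theorem exists_semilinear [Fintype F] (β : MulAut PSL(2, F)) : ∃ h σ, β = semi h σ := by
  obtain ⟨g, σ, γ, hγ, rfl⟩ := AutPSL.exists_form le_rfl β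
  rcases hγ with rfl | rfl
  · exact ⟨g, σ, by rw [mul_one]; rfl⟩
  · obtain ⟨w, hw⟩ := AutPSL.invTransSL_fin_two (F := F)
    refine ⟨g * mapGL σ w, σ, ?_⟩
    rw [semi, hw, mul_assoc, AutPSL.fieldSL_mul_conjSL, ← mul_assoc, ← map_mul]

theorem semi_scalar_mul (c : Fˣ) (h : GL (Fin 2) F) (σ : F ≃+* F) :
    semi (Matrix.GeneralLinearGroup.scalar (Fin 2) c * h) σ = semi h σ := by
  rw [semi, semi, map_mul conjSL, AutPSL.conjSL_scalar, one_mul]

theorem semi_toGL (s : SL(2, F)) (σ : F ≃+* F) :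
    semi (Matrix.SpecialLinearGroup.toGL s) σ = MulAut.conj (proj s) * semi 1 σ := by
  rw [semi, semi, AutPSL.conjSL_toGL, map_one, one_mul, map_mul, AutPSL.toPSLAut_conj]

/-- A semilinear automorphism of square determinant is inner up to a field automorphism. -/
theorem semi_eq_conj_mul {h : GL (Fin 2) F} (hsq : IsSquare h.1.det) (σ : F ≃+* F) :
    ∃ s : PSL(2, F), semi h σ = MulAut.conj s * semi 1 σ := by
  obtain ⟨c, hc⟩ := hsq
  have hc0 : c ≠ 0 := fun e => h.det.ne_zero (by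
    show h.1.det = 0
    rw [hc, e, mul_zero])
  let s : SL(2, F) := ⟨c⁻¹ • h.1, by
    rw [Matrix.det_smul, Fintype.card_fin, hc]; field_simp⟩
  have e : Matrix.GeneralLinearGroup.scalar (Fin 2) (Units.mk0 c hc0) *
      Matrix.SpecialLinearGroup.toGL s = h := by
    apply Units.ext
    show Matrix.scalar (Fin 2) c * (c⁻¹ • h.1) = h.1
    rw [Matrix.scalar_apply, ← Matrix.smul_one_eq_diagonal, smul_mul_assoc, one_mul, smul_smul,
      mul_inv_cancel₀ hc0, one_smul]
  exact ⟨proj s, by rw [← e, semi_scalar_mul, semi_toGL]⟩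

theorem semi_one_u (σ : F ≃+* F) (v : F) : semi 1 σ (u v) = u (σ v) := by
  rw [u, u, semi_proj, map_one, MulAut.one_apply]
  congr 1
  apply Subtype.ext
  ext i j
  fin_cases i <;> fin_cases j <;> simp [coe_upSL]

/-- The entries of a semilinear map sending `u w` to `u v`. -/
theorem semi_u_eq [Fintype F] {h : GL (Fin 2) F} {σ : F ≃+* F} {w v : F} (hw : w ≠ 0)
    (e : semi h σ (u w) = u v) : h.1 1 0 = 0 ∧ h.1 0 0 * σ w = v * h.1 1 1 := by
  obtain ⟨p, hp⟩ := CharP.exists F
  haveI : Fact p.Prime := ⟨CharP.char_is_prime F p⟩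
  have hpow : ∀ x : F, upSL x ^ p ^ 1 = 1 := fun x => by
    have hx : ∀ k : ℕ, upSL x ^ k = upSL ((k : F) * x) := fun k => by
      induction k with
      | zero => simp [upSL_zero]
      | succ k ih => rw [pow_succ, ih, ← upSL_add, Nat.cast_succ, add_mul, one_mul]
    rw [pow_one, hx, CharP.cast_eq_zero, zero_mul, upSL_zero]
  rw [u, u, semi_proj] at e
  have e1 := AutPSL.eq_of_mk_eq p (k := 1)
    (by rw [← map_pow, ← map_pow, hpow, map_one, map_one]) (hpow v) e
  have e2 := congrArg (fun m : SL(2, F) => m.1 * h.1) e1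
  simp only [AutPSL.conjSL_coe, mul_assoc, Units.inv_mul, mul_one, AutPSL.fieldSL_coe] at e2
  have e00 := congrFun (congrFun e2 0) 0
  have e01 := congrFun (congrFun e2 0) 1
  simp [coe_upSL, Matrix.mul_apply, Fin.sum_univ_two] at e00 e01
  have hsw : σ w ≠ 0 := fun h0 => hw (σ.map_eq_zero_iff.1 h0)
  by_cases hv : v = 0
  · subst hv
    simp at e01
    have : h.1 0 0 = 0 := e01.resolve_right hw
    exfalso
    have h11 : upSL (0 : F) = 1 := upSL_zero
    rw [h11] at e1
    have : upSL w = 1 := by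
      apply (fieldSL (ι := Fin 2) σ).injective
      apply (conjSL h).injective
      rw [map_one, map_one]; exact e1
    have := congrArg (fun m : SL(2, F) => m.1 0 1) this
    simp [coe_upSL] at this
    exact hw this
  · exact ⟨e00.resolve_left hv, by linear_combination e01⟩

theorem diag_ne_zero {h : GL (Fin 2) F} (h10 : h.1 1 0 = 0) : h.1 0 0 ≠ 0 ∧ h.1 1 1 ≠ 0 := by
  have hd : h.1.det ≠ 0 := h.det.ne_zero
  rw [Matrix.det_fin_two, h10, mul_zero, sub_zero] at hd
  exact mul_ne_zero_iff.1 hd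

/-- A triangular semilinear map on the upper unitriangular elements. -/
theorem semi_u {h : GL (Fin 2) F} (h10 : h.1 1 0 = 0) (σ : F ≃+* F) (v : F) :
    semi h σ (u v) = u (h.1 0 0 / h.1 1 1 * σ v) := by
  rw [u, u, semi_proj]
  congr 1
  apply Subtype.ext
  rw [AutPSL.conjSL_coe, AutPSL.fieldSL_coe]
  refine (Units.mul_inv_eq_iff_eq_mul _).2 ?_
  obtain ⟨-, h11⟩ := diag_ne_zero h10
  ext i j
  fin_cases i <;> fin_cases j <;> simp [coe_upSL, Matrix.mul_apply, Fin.sum_univ_two, h10]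
  field_simp
  ring

theorem semi_mem_BP {h : GL (Fin 2) F} (h10 : h.1 1 0 = 0) (σ : F ≃+* F) {x : PSL(2, F)}
    (hx : x ∈ BP) : semi h σ x ∈ BP := by
  obtain ⟨g, rfl⟩ := proj_surjective x
  rw [proj_mem_BP_iff] at hx
  rw [semi_proj, proj_mem_BP_iff]
  have e : (conjSL h (fieldSL σ g)).1 * h.1 = h.1 * g.1.map σ := by
    rw [AutPSL.conjSL_coe, AutPSL.fieldSL_coe, mul_assoc, Units.inv_mul, mul_one]
  generalize conjSL h (fieldSL σ g) = y at e ⊢
  have e10 := congrFun (congrFun e 1) 0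
  simp [Matrix.mul_apply, Fin.sum_univ_two, h10, hx] at e10
  exact e10.resolve_right (diag_ne_zero h10).1

theorem semi_eq_conj_u {h : GL (Fin 2) F} (h10 : h.1 1 0 = 0) (hd : h.1 0 0 = h.1 1 1) :
    semi h 1 = MulAut.conj (u (h.1 0 1 / h.1 0 0)) := by
  obtain ⟨h00, -⟩ := diag_ne_zero h10
  have e : h = Matrix.GeneralLinearGroup.scalar (Fin 2) (Units.mk0 _ h00) *
      Matrix.SpecialLinearGroup.toGL (upSL (h.1 0 1 / h.1 0 0)) := by
    apply Units.ext
    show h.1 = Matrix.scalar (Fin 2) (h.1 0 0) * (upSL (h.1 0 1 / h.1 0 0)).1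
    ext i j
    fin_cases i <;> fin_cases j <;> simp [coe_upSL, h10, hd]
    rw [← hd]; field_simp
  conv_lhs => rw [e]
  rw [semi_scalar_mul, semi_toGL, semi, map_one, map_one, mul_one, map_one, mul_one]
  rfl

theorem exists_chi_ne_one [Fintype F] (h : 4 ≤ Fintype.card F) :
    ∃ d ∈ (BP : Subgroup PSL(2, F)), chi d ≠ 1 := by
  obtain ⟨x, hx, hxB, -⟩ := exists_torus_minus F h
  refine ⟨x, hxB, fun h1 => ?_⟩
  obtain ⟨w, rfl⟩ := eq_u_of_chi_eq_one hxB h1
  exact not_isTor_u w hx

/-- An element commuting with everything is trivial. -/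
theorem eq_one_of_forall_commute [Fintype F] (h4 : 4 ≤ Fintype.card F) {s : PSL(2, F)}
    (hs : ∀ y, Commute s y) : s = 1 := by
  obtain ⟨v, rfl⟩ := exists_eq_u_of_comm one_ne_zero (hs (u 1)).eq
  obtain ⟨d, hd, hchi⟩ := exists_chi_ne_one h4
  have h2 := conj_u hd v
  rw [← (hs d).eq, mul_inv_cancel_right] at h2
  have h3 : (chi d - 1) * v = 0 := by linear_combination -(u_injective h2)
  rw [(mul_eq_zero.1 h3).resolve_left (sub_ne_zero.2 hchi), u_zero]

theorem eq_one_of_conj_comm [Fintype F] (h4 : 4 ≤ Fintype.card F) {β : MulAut PSL(2, F)}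
    (hβ : ∀ s, Commute β (MulAut.conj s)) : β = 1 := by
  ext s
  have h1 : MulAut.conj (β s) = MulAut.conj s := by
    have := (hβ s).eq
    ext y
    have e := congrArg (fun f : MulAut PSL(2, F) => f (β.symm y)) this
    simpa [MulAut.conj_apply] using e
  refine mul_inv_eq_one.1 (eq_one_of_forall_commute h4 (s := β s * s⁻¹) fun y => ?_)
  have h2 := congrArg (fun f : MulAut PSL(2, F) => f (s⁻¹ * y * s)) h1
  simp only [MulAut.conj_apply, mul_assoc, mul_inv_cancel_left, mul_inv_cancel, mul_one] at h2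
  show β s * s⁻¹ * y = y * (β s * s⁻¹)
  calc β s * s⁻¹ * y = β s * (s⁻¹ * (y * (s * (β s)⁻¹))) * (β s * s⁻¹) := by group
    _ = y * (β s * s⁻¹) := by rw [h2]

theorem fieldSL_neg (σ : F ≃+* F) (g : SL(2, F)) : fieldSL σ (-g) = -fieldSL σ g := by
  apply Subtype.ext
  ext i j
  simp

theorem isSquare_div_ringAut [Fintype F] (σ : F ≃+* F) (hodd : Odd (Fintype.card F)) {m : F}
    (hm : m ≠ 0) : IsSquare (m / σ m) := by
  have hchar : ringChar F ≠ 2 := fun h => SL2Tori.two_ne_zero_of_odd (F := F) hodd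
    (by rw [← ringChar.Nat.cast_ringChar (R := F)]; simp [h])
  by_cases hs : IsSquare m
  · exact hs.div (hs.map σ)
  · have hs' : ¬ IsSquare (σ m) := fun h => hs (by simpa using h.map σ.symm)
    classical
    rw [← quadraticChar_one_iff_isSquare (div_ne_zero hm (by simpa using hm)), div_eq_mul_inv,
      map_mul, quadraticChar_neg_one_iff_not_isSquare.2 hs,
      quadraticChar_neg_one_iff_not_isSquare.2
        (show ¬ IsSquare (σ m)⁻¹ from fun h => hs' (by simpa using h.inv))]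
    rfl

/-- A semilinear map fixing two commuting involutions has square determinant. -/
theorem isSquare_det_of_klein [Fintype F] (hodd : Odd (Fintype.card F)) {h : GL (Fin 2) F}
    {σ : F ≃+* F} {a b : PSL(2, F)} (ha1 : a ≠ 1) (ha : a * a = 1) (hb1 : b ≠ 1) (hb : b * b = 1)
    (hab : a ≠ b) (hc : a * b = b * a) (fa : semi h σ a = a) (fb : semi h σ b = b) :
    IsSquare h.1.det := by
  have h2 : (2 : F) ≠ 0 := SL2Tori.two_ne_zero_of_odd hodd
  obtain ⟨p, hp⟩ := CharP.exists F
  haveI : Fact p.Prime := ⟨CharP.char_is_prime F p⟩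
  obtain ⟨i, rfl, hi⟩ := Forms.KleinPSL.exists_lift_of_orderOf_two h2 ha1 ha
  obtain ⟨j, rfl, hj⟩ := Forms.KleinPSL.exists_lift_of_orderOf_two h2 hb1 hb
  have hji := Forms.KleinPSL.anticomm_of_proj_comm h2 hi hj hab hc
  have key : ∀ (x : SL(2, F)) (h : GL (Fin 2) F), semi h σ (proj x) = proj x →
      h.1 * x.1.map σ = x.1 * h.1 ∨ h.1 * x.1.map σ = -(x.1 * h.1) := by
    intro x h e
    rw [semi_proj] at e
    have e0 : (conjSL h (fieldSL σ x)).1 * h.1 = h.1 * x.1.map σ := by
      rw [AutPSL.conjSL_coe, AutPSL.fieldSL_coe, mul_assoc, Units.inv_mul, mul_one]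
    rcases DicksonPSL2.proj_eq_proj_iff.1 e with e' | e'
    · left; rw [← e0]; exact congrArg (fun m : SL(2, F) => m.1 * h.1) e'.symm
    · right; rw [← e0]
      have e'' := congrArg (fun m : SL(2, F) => m.1 * h.1) e'
      simp only [Matrix.SpecialLinearGroup.coe_neg, neg_mul] at e''
      rw [e'', neg_neg]
  set I : Matrix (Fin 2) (Fin 2) F := i.1 with hI
  set J : Matrix (Fin 2) (Fin 2) F := j.1 with hJ
  have hII : I * I = -1 := by simpa using congrArg (fun g : SL(2, F) => g.1) hi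
  have hJJ : J * J = -1 := by simpa using congrArg (fun g : SL(2, F) => g.1) hj
  have hJI : J * I = -(I * J) := by simpa using congrArg (fun g : SL(2, F) => g.1) hji
  -- fix the signs
  obtain ⟨A, hAI, hAJ, hAd⟩ : ∃ A : Matrix (Fin 2) (Fin 2) F,
      A * I.map σ = I * A ∧ A * J.map σ = J * A ∧ A.det = h.1.det := by
    rcases key i h fa with ea | ea <;> rcases key j h fb with eb | eb
    · exact ⟨h.1, ea, eb, rfl⟩
    · refine ⟨I * h.1, ?_, ?_, ?_⟩
      · rw [mul_assoc, ea]
      · rw [mul_assoc, eb, mul_neg, ← mul_assoc, ← mul_assoc, hJI, neg_mul]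
      · rw [Matrix.det_mul, hI, i.2, one_mul]
    · refine ⟨J * h.1, ?_, ?_, ?_⟩
      · rw [mul_assoc, ea, mul_neg, ← mul_assoc, ← mul_assoc, hJI, neg_mul, neg_neg]
      · rw [mul_assoc, eb]
      · rw [Matrix.det_mul, hJ, j.2, one_mul]
    · refine ⟨I * J * h.1, ?_, ?_, ?_⟩
      · rw [mul_assoc, ea, mul_neg, ← mul_assoc, mul_assoc I J I, hJI, mul_neg, neg_mul, neg_neg,
          mul_assoc I (I * J) h.1]
      · rw [mul_assoc, eb, mul_neg, ← mul_assoc, mul_assoc I J J, hJJ, ← mul_assoc J (I * J) h.1,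
          ← mul_assoc J I J, hJI, neg_mul, mul_assoc I J J, hJJ, neg_mul]
      · rw [Matrix.det_mul, Matrix.det_mul, hI, i.2, hJ, j.2, one_mul, one_mul]
  obtain ⟨α', β', hαβ⟩ := CharP.sq_add_sq F p (-1)
  set α : F := (α' : F) with hα
  set β : F := (β' : F) with hβ
  have hαβ' : α ^ 2 + β ^ 2 = -1 := by simpa using hαβ
  have hsα : σ α = α := map_natCast σ α'
  have hsβ : σ β = β := map_natCast σ β'
  -- the standard pair
  let I0 : Matrix (Fin 2) (Fin 2) F := !![0, 1; -1, 0]
  let J0 : Matrix (Fin 2) (Fin 2) F := !![α, β; β, -α]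
  have tI : I.trace = 0 := Forms.KleinPSL.tr_eq_zero h2 hi
  have tJ : J.trace = 0 := Forms.KleinPSL.tr_eq_zero h2 hj
  have hdet : (J + β • I - α • (1 : Matrix (Fin 2) (Fin 2) F)).det = 0 := by
    have q1 := congrFun (congrFun hII 0) 0
    have q2 := congrFun (congrFun hJJ 0) 0
    have q3 := congrFun (congrFun hJI 0) 0
    rw [Matrix.trace_fin_two] at tI tJ
    simp [Matrix.mul_apply, Fin.sum_univ_two] at q1 q2 q3
    rw [Matrix.det_fin_two]
    simp
    linear_combination (norm := ring_nf) -q2 - β ^ 2 * q1 + hαβ' - β * q3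
      + (J 0 0 - α) * tJ + β * (J 0 0 - α) * tI + β * I 0 0 * tJ + β ^ 2 * I 0 0 * tI
  obtain ⟨v, hv0, hv⟩ := Matrix.exists_mulVec_eq_zero_iff.2 hdet
  set M : Matrix (Fin 2) (Fin 2) F :=
    Matrix.of ![![v 0, -(I 0 0 * v 0 + I 0 1 * v 1)],
      ![v 1, -(I 1 0 * v 0 + I 1 1 * v 1)]] with hM
  have hv0' := congrFun hv 0
  have hv1' := congrFun hv 1
  simp [Matrix.mulVec, dotProduct, Fin.sum_univ_two] at hv0' hv1'
  have q00 := congrFun (congrFun hII 0) 0
  have q01 := congrFun (congrFun hII 0) 1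
  have q10 := congrFun (congrFun hII 1) 0
  have q11 := congrFun (congrFun hII 1) 1
  have r00 := congrFun (congrFun hJI 0) 0
  have r01 := congrFun (congrFun hJI 0) 1
  have r10 := congrFun (congrFun hJI 1) 0
  have r11 := congrFun (congrFun hJI 1) 1
  simp [Matrix.mul_apply, Fin.sum_univ_two] at q00 q01 q10 q11 r00 r01 r10 r11
  have hIM : I * M = M * I0 := by
    ext r s
    fin_cases r <;> fin_cases s <;>
      simp [hM, I0, Matrix.mul_apply, Fin.sum_univ_two]
    · linear_combination -(v 0) * q00 - v 1 * q01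
    · linear_combination -(v 0) * q10 - v 1 * q11
  have hJM : J * M = M * J0 := by
    ext r s
    fin_cases r <;> fin_cases s <;>
      simp [hM, J0, Matrix.mul_apply, Fin.sum_univ_two]
    · linear_combination hv0'
    · linear_combination -(v 0) * r00 - v 1 * r01 + I 0 0 * hv0' + I 0 1 * hv1'
        - β * (v 0 * q00 + v 1 * q01)
    · linear_combination hv1'
    · linear_combination -(v 0) * r10 - v 1 * r11 + I 1 0 * hv0' + I 1 1 * hv1'
        - β * (v 0 * q10 + v 1 * q11)
  have hMd : M.det ≠ 0 := by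
    intro h0
    obtain ⟨c, hc0, hc⟩ := Matrix.exists_mulVec_eq_zero_iff.2 h0
    -- the kernel would be stable under both standard matrices
    have hker : ∀ X X0 : Matrix (Fin 2) (Fin 2) F, X * M = M * X0 → M *ᵥ (X0 *ᵥ c) = 0 :=
      fun X X0 e => by rw [Matrix.mulVec_mulVec, ← e, ← Matrix.mulVec_mulVec, hc, Matrix.mulVec_zero]
    have hpar : ∀ d : Fin 2 → F, M *ᵥ d = 0 → d 0 * c 1 = d 1 * c 0 := by
      intro d hd
      by_contra hne
      apply hv0
      have e1 := congrFun hd 0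
      have e2 := congrFun hd 1
      have f1 := congrFun hc 0
      have f2 := congrFun hc 1
      simp [hM, Matrix.mulVec, dotProduct, Fin.sum_univ_two] at e1 e2 f1 f2
      ext r
      fin_cases r <;> apply mul_left_cancel₀ (sub_ne_zero.2 hne)
      · show (d 0 * c 1 - d 1 * c 0) * v 0 = (d 0 * c 1 - d 1 * c 0) * 0
        linear_combination c 1 * e1 - d 1 * f1
      · show (d 0 * c 1 - d 1 * c 0) * v 1 = (d 0 * c 1 - d 1 * c 0) * 0
        linear_combination c 1 * e2 - d 1 * f2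
    have e1 := hpar _ (hker I I0 hIM)
    have e2 := hpar _ (hker J J0 hJM)
    simp [I0, J0, Matrix.mulVec, dotProduct, Fin.sum_univ_two] at e1 e2
    have e1' : c 1 ^ 2 + c 0 ^ 2 = 0 := by linear_combination e1
    have e2' : 2 * α * (c 0 * c 1) + β * (c 1 ^ 2 - c 0 ^ 2) = 0 := by linear_combination e2
    have hprod : (c 0 * c 1) ^ 2 * (α ^ 2 + β ^ 2) * 4 = 0 := by
      linear_combination (2 * α * (c 0 * c 1) - β * (c 1 ^ 2 - c 0 ^ 2)) * e2'
        + β ^ 2 * (c 1 ^ 2 + c 0 ^ 2) * e1'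
    rw [hαβ'] at hprod
    have h4 : (4 : F) ≠ 0 := Forms.KleinPSL.four_ne_zero' h2
    have : c 0 * c 1 = 0 := by simpa [h4] using hprod
    apply hc0
    rcases mul_eq_zero.1 this with h0' | h1'
    · have : c 1 = 0 := by rw [h0'] at e1'; simpa using e1'
      ext r; fin_cases r <;> assumption
    · have : c 0 = 0 := by rw [h1'] at e1'; simpa using e1'
      ext r; fin_cases r <;> assumption
  have hI0 : I0.map σ = I0 := by
    ext r s; fin_cases r <;> fin_cases s <;> simp [I0]
  have hJ0 : J0.map σ = J0 := by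
    ext r s; fin_cases r <;> fin_cases s <;> simp [J0, hsα, hsβ]
  set B : Matrix (Fin 2) (Fin 2) F := M⁻¹ * A * M.map σ with hB
  have hcomm : ∀ X X0 : Matrix (Fin 2) (Fin 2) F, X * M = M * X0 → X0.map σ = X0 →
      A * X.map σ = X * A → B * X0 = X0 * B := by
    intro X X0 e e0 ea
    have es : X.map σ * M.map σ = M.map σ * X0 := by
      have := congrArg (fun Y : Matrix (Fin 2) (Fin 2) F => σ.toRingHom.mapMatrix Y) e
      simp only [map_mul] at this
      calc X.map σ * M.map σ = M.map σ * X0.map σ := this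
        _ = M.map σ * X0 := by rw [e0]
    have hMi : M⁻¹ * X = X0 * M⁻¹ := by
      calc M⁻¹ * X = M⁻¹ * (X * M) * M⁻¹ := by
            rw [mul_assoc, mul_assoc, Matrix.mul_nonsing_inv _ (isUnit_iff_ne_zero.2 hMd), mul_one]
        _ = X0 * M⁻¹ := by
            rw [e, ← mul_assoc, Matrix.nonsing_inv_mul _ (isUnit_iff_ne_zero.2 hMd), one_mul]
    calc B * X0 = M⁻¹ * A * (X.map σ * M.map σ) := by rw [hB, es, mul_assoc]
      _ = M⁻¹ * (X * A) * M.map σ := by rw [← ea]; simp only [mul_assoc]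
      _ = X0 * B := by rw [← mul_assoc, hMi, hB]; simp only [mul_assoc]
  have c1 := hcomm I I0 hIM hI0 hAI
  have c2 := hcomm J J0 hJM hJ0 hAJ
  have a1 := congrFun (congrFun c1 0) 0
  have a2 := congrFun (congrFun c1 0) 1
  have b1 := congrFun (congrFun c2 0) 0
  have b2 := congrFun (congrFun c2 0) 1
  simp [I0, J0, Matrix.mul_apply, Fin.sum_univ_two] at a1 a2 b1 b2
  have hb01 : B 0 1 = 0 := by
    have k1 : 2 * β * B 0 1 = 0 := by linear_combination b1 - β * a1
    have k2 : 2 * α * B 0 1 = 0 := by linear_combination -b2 + β * a2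
    have k3 : (2 : F) * B 0 1 * (α ^ 2 + β ^ 2) = 0 := by linear_combination α * k2 + β * k1
    rw [hαβ'] at k3
    simpa [h2] using k3
  have hdB : B.det = B 0 0 ^ 2 := by
    rw [Matrix.det_fin_two]
    linear_combination -B 0 0 * a2 - B 1 0 * hb01
  have hσd : (M.map σ).det = σ M.det := (RingEquiv.map_det σ M).symm
  have hdetB : B.det = M.det⁻¹ * h.1.det * σ M.det := by
    rw [hB, Matrix.det_mul, Matrix.det_mul, Matrix.det_nonsing_inv, Ring.inverse_eq_inv', hAd, hσd]
  have hfin : h.1.det = B 0 0 ^ 2 * (M.det / σ M.det) := by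
    rw [← hdB, hdetB]
    have : σ M.det ≠ 0 := by simpa using hMd
    field_simp
  rw [hfin]
  exact (IsSquare.sq _).mul (isSquare_div_ringAut σ hodd hMd)

theorem sq_ringAut_of_nine [Fintype F] [CharP F 3] (h9 : Fintype.card F = 9) (σ : F ≃+* F) :
    σ * σ = 1 := by
  haveI : Fact (Nat.Prime 3) := ⟨Nat.prime_three⟩
  have hc : Nat.card (F ≃+* F) = 2 :=
    RegLinear.card_ringAut (q := 3) (by rw [Nat.card_eq_fintype_card, h9]; norm_num)
  rw [← pow_two, ← hc]
  exact pow_card_eq_one'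

end CfsgLib.MinNonCA
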