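import Cfsg.Agent.MinNonCA.Basic
import Cfsg.Agent.Transfer.Fusion
import Cfsg.Agent.Small.NormalFour
import Cfsg.Agent.Inv54.CentralizerFour

/-!
# Perfect groups all of whose solvable subgroups are CA

The solvable normal subgroups of such a group are central.
-/

set_option autoImplicit false
set_option linter.style.haveILetI false

namespace CfsgLib.MinNonCA

open Subgroup

universe u

variable {G : Type u} [Group G]

theorem isSolvable_comap {D : Subgroup G} [D.Normal] [Group.IsSolvable D] (H : Subgroup (G ⧸ D))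
    [Group.IsSolvable H] : Group.IsSolvable (H.comap (QuotientGroup.mk' D)) := by
  let f := (QuotientGroup.mk' D).subgroupComap H
  refine Group.isSolvable_of_ker_le_range (inclusion (H := D) (K := H.comap (QuotientGroup.mk' D))
    fun x hx => by
      show QuotientGroup.mk' D x ∈ H
      rw [show QuotientGroup.mk' D x = 1 from (QuotientGroup.eq_one_iff x).2 hx]
      exact one_mem H) f ?_
  intro x hx
  have hxD : (x : G) ∈ D := (QuotientGroup.eq_one_iff _).1 (congrArg Subtype.val hx)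
  exact ⟨⟨x, hxD⟩, rfl⟩

theorem isSolvable_comap_pair {D : Subgroup G} [D.Normal] [Group.IsSolvable D] {x y : G}
    (hx : x ^ 2 ∈ D) (hy : y ^ 2 ∈ D) :
    Group.IsSolvable (closure ({x, y} : Set G) ⊔ D : Subgroup G) := by
  set π := QuotientGroup.mk' D
  have hx1 : π x * π x = 1 := by rw [← map_mul, ← sq]; exact (QuotientGroup.eq_one_iff _).2 hx
  have hy1 : π y * π y = 1 := by rw [← map_mul, ← sq]; exact (QuotientGroup.eq_one_iff _).2 hy
  have hxi : (π x)⁻¹ = π x := inv_eq_of_mul_eq_one_left hx1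
  have hnorm : π x ∈ normalizer (zpowers (π x * π y) : Set (G ⧸ D)) := by
    have key : π x * (π x * π y) * (π x)⁻¹ = (π x * π y)⁻¹ := by
      rw [mul_inv_rev, inv_eq_of_mul_eq_one_left hy1, ← mul_assoc (π x), hx1, one_mul]
    refine mem_normalizer_iff.2 fun z => ⟨?_, fun hz => ?_⟩
    · rintro ⟨i, rfl⟩
      rw [← conj_zpow, key]
      exact zpow_mem (inv_mem (mem_zpowers _)) i
    · obtain ⟨i, hi⟩ := hz
      have hi' : (π x * π y) ^ i = π x * z * (π x)⁻¹ := hi
      have h2 : π x * (π x * π y) ^ i * (π x)⁻¹ = z := by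
        rw [hi', hxi, ← mul_assoc, ← mul_assoc, hx1, one_mul, mul_assoc, hx1, mul_one]
      rw [← h2, ← conj_zpow, key]
      exact zpow_mem (inv_mem (mem_zpowers _)) i
  haveI : Group.IsSolvable (zpowers (π x * π y)) :=
    isSolvable_of_abOn fun a ha b hb => by
      obtain ⟨i, rfl⟩ := ha; obtain ⟨j, rfl⟩ := hb; exact Commute.zpow_zpow_self _ i j
  haveI := isSolvable_sup_zpowers hnorm
  haveI := isSolvable_comap (D := D) (zpowers (π x) ⊔ zpowers (π x * π y))
  refine isSolvable_of_le (K := (zpowers (π x) ⊔ zpowers (π x * π y)).comap π) (sup_le ?_ ?_)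
  · rw [closure_le]
    rintro g (rfl | rfl)
    · exact mem_comap.2 (mem_sup_left (mem_zpowers _))
    · refine mem_comap.2 ?_
      have h := mul_mem (inv_mem (mem_sup_left (mem_zpowers (π x))
          : π x ∈ zpowers (π x) ⊔ zpowers (π x * π g)))
        (mem_sup_right (mem_zpowers (π x * π g)))
      rwa [inv_mul_cancel_left] at h
  · intro d hd
    refine mem_comap.2 ?_
    rw [show π d = 1 from (QuotientGroup.eq_one_iff d).2 hd]
    exact one_mem _

theorem two_element_pow {y : G} (hy : ∃ k, y ^ 2 ^ k = 1) (n : ℕ) : ∃ k, (y ^ n) ^ 2 ^ k = 1 := by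
  obtain ⟨k, hk⟩ := hy
  exact ⟨k, by rw [← pow_mul, mul_comm, pow_mul, hk, one_pow]⟩

/-- A 2-element outside `D` has a power outside `D` whose square lies in `D`. -/
theorem exists_pow_sq_mem {D : Subgroup G} {y : G} (hy : ∃ k, y ^ 2 ^ k = 1) (hyD : y ∉ D) :
    ∃ m : ℕ, y ^ 2 ^ m ∉ D ∧ (y ^ 2 ^ m) ^ 2 ∈ D := by
  classical
  obtain ⟨k, hk⟩ := hy
  have hex : ∃ i, y ^ 2 ^ i ∈ D := ⟨k, hk ▸ one_mem D⟩
  obtain ⟨m, hm⟩ : ∃ m, Nat.find hex = m + 1 := by
    refine ⟨Nat.find hex - 1, ?_⟩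
    have : Nat.find hex ≠ 0 := fun h => hyD (by simpa [h] using Nat.find_spec hex)
    omega
  refine ⟨m, Nat.find_min hex (by omega), ?_⟩
  have h := Nat.find_spec hex
  rw [hm, pow_succ, pow_mul] at h
  exact h

theorem exists_two_not_mem [Finite G] [Group.IsPerfect G] {D : Subgroup G} (hne : D ≠ ⊤) :
    ∃ x : G, (∃ k, x ^ 2 ^ k = 1) ∧ x ∉ D ∧ x ^ 2 ∈ D := by
  by_contra hcon
  push Not at hcon
  refine hne (eq_top_iff.2 fun g _ => ?_)
  set K : Subgroup G := closure {y | ∃ k, y ^ 2 ^ k = 1}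
  haveI : K.Normal := by
    refine ⟨fun n hn g => ?_⟩
    have : K.map (MulAut.conj g).toMonoidHom ≤ K := by
      rw [MonoidHom.map_closure, closure_le]
      rintro _ ⟨y, ⟨k, hk⟩, rfl⟩
      refine subset_closure ⟨k, ?_⟩
      rw [← map_pow, hk, map_one]
    exact this ⟨n, hn, rfl⟩
  have hK : K = ⊤ := eq_top_of_two_elements K fun y hy => subset_closure hy
  have hle : K ≤ D := by
    rw [closure_le]
    intro y hy
    by_contra hyD
    obtain ⟨m, h1, h2⟩ := exists_pow_sq_mem hy hyD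
    exact hcon _ (two_element_pow hy _) h1 h2
  exact hle (hK ▸ mem_top g)

/-- A subgroup containing all 2-elements of a perfect group is the whole group. -/
theorem mem_of_two_elements [Finite G] [Group.IsPerfect G] {D : Subgroup G}
    (h : ∀ y : G, (∃ k, y ^ 2 ^ k = 1) → y ∈ D) (g : G) : g ∈ D := by
  by_contra hg
  obtain ⟨x, hx, hxD, -⟩ := exists_two_not_mem (D := D) fun ht => hg (ht ▸ mem_top g)
  exact hxD (h x hx)

/-- In a perfect group an element with all commutators central is central. -/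
theorem mem_center_of_commutators [Group.IsPerfect G] {a : G}
    (h : ∀ g : G, g * a * g⁻¹ * a⁻¹ ∈ center G) : a ∈ center G := by
  have hmul : ∀ g k : G, g * k * a * (g * k)⁻¹ * a⁻¹ = (k * a * k⁻¹ * a⁻¹) * (g * a * g⁻¹ * a⁻¹) := by
    intro g k
    have hc := mem_center_iff.1 (h k) g
    calc g * k * a * (g * k)⁻¹ * a⁻¹ = g * (k * a * k⁻¹ * a⁻¹) * a * g⁻¹ * a⁻¹ := by group
      _ = (k * a * k⁻¹ * a⁻¹) * g * a * g⁻¹ * a⁻¹ := by rw [hc]
      _ = (k * a * k⁻¹ * a⁻¹) * (g * a * g⁻¹ * a⁻¹) := by group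
  let f : G →* center G :=
    { toFun := fun g => ⟨g * a * g⁻¹ * a⁻¹, h g⟩
      map_one' := Subtype.ext (by simp)
      map_mul' := fun g k => by
        apply Subtype.ext
        rw [coe_mul]
        exact (hmul g k).trans (mem_center_iff.1 (h g) _) }
  refine mem_center_iff.2 fun g => ?_
  have hg : g ∈ f.ker := by
    have hle : commutator G ≤ f.ker := by
      refine Subgroup.commutator_le.2 fun g _ k _ => MonoidHom.mem_ker.2 ?_
      rw [map_commutatorElement, commutatorElement_eq_one_iff_mul_comm]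
      exact Subtype.ext (mem_center_iff.1 (f k).2 _)
    exact hle (Group.IsPerfect.commutator_eq_top (G := G) ▸ mem_top g)
  have h1 : g * a * g⁻¹ * a⁻¹ = 1 := congrArg Subtype.val (MonoidHom.mem_ker.1 hg)
  exact mul_inv_eq_iff_eq_mul.1 (mul_inv_eq_one.1 h1)

/-- Endgame: a solvable normal self-centralising subgroup modulo which there is only one
involution in each Sylow 2-subgroup. -/
theorem false_of_unique_involution [Finite G] [Group.IsPerfect G] (h : SolvCA G) (D : Subgroup G)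
    [D.Normal] [Group.IsSolvable D] (hne : D ≠ ⊤)
    (hD2 : ∀ s ∈ D, (∃ k, s ^ 2 ^ k = 1) → s ∈ center G)
    (hC : ∀ x, x ∉ D → ∃ w ∈ D, ¬ Commute x w)
    (huniq : ∀ x y : G, (∃ k, x ^ 2 ^ k = 1) → (∃ k, y ^ 2 ^ k = 1) → (∃ k, (x * y) ^ 2 ^ k = 1) →
      x ∉ D → y ∉ D → x ^ 2 ∈ D → y ^ 2 ∈ D → (x * y) ^ 2 ∈ D → x * y ∈ D) : False := by
  classical
  haveI : Fact (Nat.Prime 2) := ⟨Nat.prime_two⟩
  set π := QuotientGroup.mk' D
  have hπ : Function.Surjective π := QuotientGroup.mk'_surjective D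
  obtain ⟨S⟩ : Nonempty (Sylow 2 G) := inferInstance
  have hS2 : ∀ s ∈ (S : Subgroup G), ∃ k, s ^ 2 ^ k = 1 := fun s hs => by
    obtain ⟨k, hk⟩ := S.isPGroup' ⟨s, hs⟩
    exact ⟨k, by simpa using congrArg Subtype.val hk⟩
  set P : Sylow 2 (G ⧸ D) := S.mapSurjective hπ
  have hPmem : ∀ q ∈ (P : Subgroup (G ⧸ D)), ∃ s ∈ (S : Subgroup G), π s = q := fun q hq => by
    rwa [Sylow.coe_mapSurjective, mem_map] at hq
  have h2 : 2 ∣ Nat.card (G ⧸ D) := by
    obtain ⟨x, -, hx, hx2⟩ := exists_two_not_mem (D := D) hne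
    have ho : orderOf (π x) = 2 := orderOf_eq_prime
      (by rw [← map_pow]; exact (QuotientGroup.eq_one_iff _).2 hx2)
      fun h1 => hx ((QuotientGroup.eq_one_iff x).1 h1)
    exact ho ▸ orderOf_dvd_natCard (π x)
  haveI : Nontrivial (P : Subgroup (G ⧸ D)) :=
    (nontrivial_iff_ne_bot _).2 (P.ne_bot_of_dvd_card h2)
  haveI := P.isPGroup'.center_nontrivial
  obtain ⟨zc, hzc⟩ := exists_prime_orderOf_dvd_card' (G := center (P : Subgroup (G ⧸ D))) 2 (by
    obtain ⟨n, hn, hcard⟩ := (P.isPGroup'.to_subgroup (center _)).nontrivial_iff_card.1 inferInstance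
    exact hcard ▸ dvd_pow_self 2 hn.ne')
  obtain ⟨z, hzS, hzπ⟩ := hPmem _ (zc : (P : Subgroup (G ⧸ D))).2
  have hzord : orderOf (π z) = 2 := by rw [hzπ, orderOf_coe, orderOf_coe]; exact hzc
  have hzD : z ∉ D := fun hz => by
    rw [show π z = 1 from (QuotientGroup.eq_one_iff z).2 hz, orderOf_one] at hzord; omega
  have hz2 : z ^ 2 ∈ D := (QuotientGroup.eq_one_iff _).1 (by
    show π (z ^ 2) = 1
    rw [map_pow, ← hzord, pow_orderOf_eq_one])
  -- every involution modulo `D` in `S` is congruent to `z`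
  have hcong : ∀ x ∈ (S : Subgroup G), x ∉ D → x ^ 2 ∈ D → π x = π z := by
    intro x hxS hxD hx2
    have hcomm : π x * π z = π z * π x := by
      rw [hzπ]
      exact congrArg Subtype.val (mem_center_iff.1 zc.2
        ⟨π x, by rw [Sylow.coe_mapSurjective]; exact mem_map_of_mem π hxS⟩)
    have hx1 : π x * π x = 1 := by rw [← map_mul, ← sq]; exact (QuotientGroup.eq_one_iff _).2 hx2
    have hz1 : π z * π z = 1 := by rw [← map_mul, ← sq]; exact (QuotientGroup.eq_one_iff _).2 hz2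
    have hxz2 : (x * z) ^ 2 ∈ D := (QuotientGroup.eq_one_iff _).1 (by
      show π ((x * z) ^ 2) = 1
      rw [sq, map_mul, map_mul, mul_assoc, ← mul_assoc (π z), ← hcomm, mul_assoc (π x) (π z),
        hz1, mul_one, hx1])
    have := huniq x z (hS2 x hxS) (hS2 z hzS) (hS2 _ (mul_mem hxS hzS)) hxD hzD hx2 hz2 hxz2
    have h1 : π x * π z = 1 := by rw [← map_mul]; exact (QuotientGroup.eq_one_iff _).2 this
    rw [eq_inv_of_mul_eq_one_left h1, inv_eq_of_mul_eq_one_left hz1]
  -- hence `S` centralises `z`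
  have hcz : ∀ s ∈ (S : Subgroup G), Commute z s := by
    intro s hs
    by_cases hsD : s ∈ D
    · exact mem_center_iff.1 (hD2 s hsD (hS2 s hs)) z
    obtain ⟨m, h1, h2⟩ := exists_pow_sq_mem (hS2 s hs) hsD
    have hpS : s ^ 2 ^ m ∈ (S : Subgroup G) := pow_mem hs _
    have hd : (s ^ 2 ^ m)⁻¹ * z ∈ D := QuotientGroup.eq.1 (hcong _ hpS h1 h2)
    have hdc := hD2 _ hd (hS2 _ (mul_mem (inv_mem hpS) hzS))
    have hz' : z = s ^ 2 ^ m * ((s ^ 2 ^ m)⁻¹ * z) := by group
    rw [hz']
    exact Commute.mul_left ((Commute.refl s).pow_left _) (mem_center_iff.1 hdc s).symm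
  -- so `S` is abelian
  obtain ⟨w, hw, hzw⟩ := hC z hzD
  haveI : Group.IsSolvable (S : Subgroup G) := by
    haveI := S.isPGroup'.isNilpotent
    infer_instance
  haveI : Group.IsSolvable ((S : Subgroup G) ⊔ D : Subgroup G) := isSolvable_sup_normal
  have hSab : AbOn (S : Subgroup G) := fun a ha b hb =>
    h _ ‹_› z (mem_sup_left hzS) w (mem_sup_right hw) hzw a (mem_sup_left ha) b (mem_sup_left hb)
      (hcz a ha) (hcz b hb)
  -- so the Sylow 2-subgroups modulo `D` are cyclic
  haveI : IsCyclic (P : Subgroup (G ⧸ D)) := by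
    refine CfsgLib.Small.isCyclic_of_unique_invol P.isPGroup' (fun a b => ?_) fun a b ha hb => ?_
    · obtain ⟨s, hs, hsq⟩ := hPmem _ a.2
      obtain ⟨t, ht, htq⟩ := hPmem _ b.2
      apply Subtype.ext
      rw [coe_mul, coe_mul, ← hsq, ← htq, ← map_mul, ← map_mul, (hSab s hs t ht).eq]
    · have key : ∀ q : (P : Subgroup (G ⧸ D)), orderOf q = 2 → (q : G ⧸ D) = π z := by
        intro q hq
        obtain ⟨s, hs, hsq⟩ := hPmem _ q.2
        have hq' : orderOf (π s) = 2 := by rw [hsq, orderOf_coe]; exact hq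
        rw [← hsq]
        refine hcong s hs (fun hd => ?_) ((QuotientGroup.eq_one_iff _).1 ?_)
        · rw [show π s = 1 from (QuotientGroup.eq_one_iff s).2 hd, orderOf_one] at hq'; omega
        · show π (s ^ 2) = 1
          rw [map_pow, ← hq', pow_orderOf_eq_one]
      exact Subtype.ext ((key a ha).trans (key b hb).symm)
  -- contradiction with perfectness
  have hmin : (Nat.card (G ⧸ D)).minFac = 2 := (Nat.minFac_eq_two_iff _).2 h2
  haveI hcyc : IsCyclic (P : Subgroup (G ⧸ D)) := inferInstance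
  have hc := MonoidHom.ker_transferSylow_isComplement' P (hcyc.normalizer_le_centralizer hmin)
  haveI : Group.IsPerfect (G ⧸ D) := inferInstance
  have hK : (MonoidHom.transferSylow P (hcyc.normalizer_le_centralizer hmin)).ker = ⊤ := by
    refine eq_top_iff.2 ?_
    rw [← Group.IsPerfect.commutator_eq_top (G := G ⧸ D)]
    refine Subgroup.commutator_le.2 fun g _ k _ => MonoidHom.mem_ker.2 ?_
    rw [map_commutatorElement, commutatorElement_eq_one_iff_mul_comm]
    exact (IsCyclic.isMulCommutative (α := (P : Subgroup (G ⧸ D)))).is_comm.comm _ _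
  rw [hK, isComplement'_top_left] at hc
  exact P.ne_bot_of_dvd_card h2 hc

theorem exists_min_not_le [Finite G] (p : Subgroup G → Prop) {A : Subgroup G} (hA : p A) :
    ∃ W : Subgroup G, p W ∧ ∀ V, p V → ¬ V < W := by
  obtain ⟨W, hW, hmin⟩ := (wellFounded_lt (α := Subgroup G)).has_min {W | p W} ⟨A, hA⟩
  exact ⟨W, hW, fun V hV => hmin V hV⟩

/-- Abelian normal subgroups are central. -/
theorem abelian_normal_le_center [Finite G] [Group.IsPerfect G] (h : SolvCA G) (W : Subgroup G)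
    [W.Normal] (hW : AbOn W) : W ≤ center G := by
  classical
  by_contra hWZ
  haveI := isSolvable_of_abOn hW
  set D : Subgroup G := centralizer (W : Set G) with hDdef
  have hWD : W ≤ D := fun w hw => mem_centralizer_iff.2 fun v hv => (hW v hv w hw).eq
  have hmove : ∀ x, x ∉ D → ∃ w ∈ W, ¬ Commute x w := by
    intro x hx
    by_contra hcon
    push Not at hcon
    exact hx (mem_centralizer_iff.2 fun w hw => (hcon w hw).symm.eq)
  have hne : D ≠ ⊤ := fun ht => hWZ fun w hw => mem_center_iff.2 fun g =>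
    (mem_centralizer_iff.1 (ht ▸ mem_top g : g ∈ D) w hw).symm
  haveI hDsol : Group.IsSolvable D := by
    by_contra hns
    obtain ⟨Y, hYD, hYs, hYna, hYt⟩ := exists_solvable_nonabelian hns
    have hle : normalizer (Y : Set G) ≤ D := by
      intro n hn
      by_contra hnD
      obtain ⟨w, hw, hnw⟩ := hmove n hnD
      haveI := hYs
      haveI : Group.IsSolvable (Y ⊔ W : Subgroup G) := isSolvable_sup_normal
      have hnn : n ∈ normalizer ((Y ⊔ W : Subgroup G) : Set G) := by
        refine CfsgLib.Transfer.mem_normalizer_of_map_conj_eq ?_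
        rw [Subgroup.map_sup]
        congr 1
        · exact CfsgLib.Transfer.map_conj_eq_of_mem_normalizer hn
        · exact Subgroup.Normal.map_conj_eq (H := W) n
      haveI := isSolvable_sup_zpowers hnn
      refine hYna fun a ha b hb => h _ ‹_› w (mem_sup_right (mem_sup_right hw)) n
        (mem_sup_left (mem_zpowers n)) (fun hc => hnw hc.symm) a (mem_sup_right (mem_sup_left ha))
        b (mem_sup_right (mem_sup_left hb)) ?_ ?_
      · exact mem_centralizer_iff.1 (hYD ha) w hw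
      · exact mem_centralizer_iff.1 (hYD hb) w hw
    exact hne (top_le_iff.1 ((hYt inferInstance).ge.trans (sup_le hle le_rfl)))
  have hDab : AbOn D := by
    obtain ⟨y, hy⟩ : ∃ y, y ∉ D := by
      by_contra hcon; push Not at hcon; exact hne (eq_top_iff.2 fun g _ => hcon g)
    obtain ⟨w, hw, hyw⟩ := hmove y hy
    haveI := isSolvable_sup_zpowers (K := D) (x := y) (by rw [normalizer_eq_top]; exact mem_top y)
    exact fun a ha b hb => h _ ‹_› w (mem_sup_right (hWD hw)) y (mem_sup_left (mem_zpowers y))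
      (fun hc => hyw hc.symm) a (mem_sup_right ha) b (mem_sup_right hb)
      (mem_centralizer_iff.1 ha w hw) (mem_centralizer_iff.1 hb w hw)
  have hconj : ∀ g a : G, a ∈ D → g * a * g⁻¹ ∈ D := fun g a ha =>
    Normal.conj_mem inferInstance a ha g
  -- fixed points propagate along solvable overgroups
  have rule : ∀ a ∈ D, ∀ x y : G, Group.IsSolvable (closure ({x, y} : Set G) ⊔ D : Subgroup G) →
      x ∉ D → Commute a x → Commute a y := by
    intro a ha x y hsol hx hax
    by_contra hay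
    refine hx (mem_centralizer_iff.2 fun w hw => ?_)
    exact (h _ hsol a (mem_sup_right ha) y (mem_sup_left (subset_closure (Set.mem_insert_of_mem _ rfl)))
      hay w (mem_sup_right (hWD hw)) x (mem_sup_left (subset_closure (Set.mem_insert _ _)))
      (hDab a ha w (hWD hw)) hax).eq
  have rule' : ∀ a ∈ D, ∀ (y : G) (n : ℕ), y ∉ D → (Commute a y → Commute a (y ^ n)) ∧
      (y ^ n ∉ D → Commute a (y ^ n) → Commute a y) := by
    intro a ha y n _
    refine ⟨fun hc => hc.pow_right n, fun hn hc => rule a ha (y ^ n) y ?_ hn hc⟩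
    haveI := isSolvable_sup_zpowers (K := D) (x := y) (by rw [normalizer_eq_top]; exact mem_top y)
    refine isSolvable_of_le (K := zpowers y ⊔ D) (sup_le ?_ le_sup_right)
    rw [closure_le]
    rintro g (rfl | rfl)
    · exact mem_sup_left (pow_mem (mem_zpowers y) n)
    · exact mem_sup_left (mem_zpowers g)
  -- an element of `D` fixed by one involution modulo `D` is central
  have hfix : ∀ a ∈ D, ∀ x, (∃ k, x ^ 2 ^ k = 1) → x ∉ D → x ^ 2 ∈ D → Commute a x →
      a ∈ center G := by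
    intro a ha x _ hx hx2 hax
    refine mem_center_iff.2 fun g => ?_
    have : g ∈ centralizer ({a} : Set G) := by
      refine mem_of_two_elements (fun y hy => mem_centralizer_singleton_iff.2 ?_) g
      by_cases hyD : y ∈ D
      · exact (hDab a ha y hyD).symm.eq
      obtain ⟨m, h1, h2⟩ := exists_pow_sq_mem hy hyD
      exact ((rule' a ha y _ hyD).2 h1
        (rule a ha x _ (isSolvable_comap_pair hx2 h2) hx hax)).symm.eq
    exact mem_centralizer_singleton_iff.1 this
  -- commutators of involutions modulo `D` with elements of small order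
  have hc2 : ∀ a ∈ D, a ^ 2 ∈ center G → ∀ x, (∃ k, x ^ 2 ^ k = 1) → x ∉ D → x ^ 2 ∈ D →
      x * a * x⁻¹ * a⁻¹ ∈ center G := by
    intro a ha ha2 x hxk hx hx2
    set c := x * a * x⁻¹ * a⁻¹ with hcdef
    have hcD : c ∈ D := mul_mem (hconj x a ha) (inv_mem ha)
    have hxx : x ^ 2 * a * (x ^ 2)⁻¹ = a := by
      rw [(hDab a ha _ hx2).symm.eq, mul_inv_cancel_right]
    have hxc : x * c * x⁻¹ = c⁻¹ := by
      calc x * c * x⁻¹ = (x ^ 2 * a * (x ^ 2)⁻¹) * (x * a⁻¹ * x⁻¹) := by rw [hcdef, sq]; group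
        _ = c⁻¹ := by rw [hxx, hcdef]; group
    have hcc : c * c = 1 := by
      have h1 : c * c = (x * a * x⁻¹) ^ 2 * (a ^ 2)⁻¹ := by
        have hcomm := hDab _ (hconj x a ha) _ (inv_mem ha)
        calc c * c = x * a * x⁻¹ * (a⁻¹ * (x * a * x⁻¹)) * a⁻¹ := by rw [hcdef]; group
          _ = x * a * x⁻¹ * (x * a * x⁻¹ * a⁻¹) * a⁻¹ := by rw [hcomm.symm.eq]
          _ = (x * a * x⁻¹) ^ 2 * (a ^ 2)⁻¹ := by rw [sq, sq]; group
      rw [h1, conj_pow, (mem_center_iff.1 ha2 x), mul_inv_cancel_right, mul_inv_cancel]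
    refine hfix c hcD x hxk hx hx2 ?_
    have : x * c * x⁻¹ = c := by rw [hxc]; exact inv_eq_of_mul_eq_one_left hcc
    exact (mul_inv_eq_iff_eq_mul.1 this).symm
  -- elements of `D` with central square are central
  have hU : ∀ a ∈ D, a ^ 2 ∈ center G → a ∈ center G := by
    intro a ha ha2
    by_contra haZ
    have hno4 : ∀ y, (∃ k, y ^ 2 ^ k = 1) → y ^ 4 ∈ D → y ^ 2 ∈ D := by
      intro y hy h4
      by_contra hy2
      set x := y ^ 2 with hxdef
      have hyD : y ∉ D := fun hh => hy2 (pow_mem hh 2)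
      have hxk := two_element_pow hy 2
      have hxx : x ^ 2 ∈ D := by rw [hxdef, ← pow_mul]; exact h4
      -- the main step
      have key : ∀ b ∈ D, b ^ 2 ∈ center G → y * b * y⁻¹ * b⁻¹ ∈ center G → b ∈ center G := by
        intro b hb hb2 hd
        refine hfix b hb x hxk hy2 hxx ?_
        set d := y * b * y⁻¹ * b⁻¹ with hddef
        have hdd : d * d = 1 := by
          have h1 : (y * b * y⁻¹) ^ 2 = b ^ 2 := by
            rw [conj_pow, mem_center_iff.1 hb2 y, mul_inv_cancel_right]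
          have hyb : y * b * y⁻¹ = d * b := by rw [hddef]; group
          rw [hyb] at h1
          have hdb := mem_center_iff.1 hd b
          calc d * d = (d * b) ^ 2 * (b ^ 2)⁻¹ := by
                rw [sq (d * b), show d * b * (d * b) = d * (b * d) * b by group, hdb]; group
            _ = 1 := by rw [h1, mul_inv_cancel]
        have hdy : y * d * y⁻¹ = d := by rw [mem_center_iff.1 hd y, mul_inv_cancel_right]
        have h2 : x * b * x⁻¹ = b := by
          calc x * b * x⁻¹ = (y * d * y⁻¹) * d * b := by rw [hxdef, hddef, sq]; group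
            _ = b := by rw [hdy, hdd, one_mul]
        exact (mul_inv_eq_iff_eq_mul.1 h2).symm
      set d := y * a * y⁻¹ * a⁻¹ with hddef
      have hdD : d ∈ D := mul_mem (hconj y a ha) (inv_mem ha)
      have hd2 : d ^ 2 ∈ center G := by
        have hcomm := hDab _ (hconj y a ha) _ (inv_mem ha)
        have : d ^ 2 = (y * a * y⁻¹) ^ 2 * (a ^ 2)⁻¹ := by
          rw [hddef, hcomm.mul_pow, inv_pow]
        rw [this, conj_pow, mem_center_iff.1 ha2 y, mul_inv_cancel_right]
        exact one_mem _ |> fun h1 => by rw [mul_inv_cancel]; exact h1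
      have hcx := hc2 a ha ha2 x hxk hy2 hxx
      have hyd : y * d * y⁻¹ * d⁻¹ ∈ center G := by
        have e : y * d * y⁻¹ * d⁻¹ = (x * a * x⁻¹ * a⁻¹) * (d⁻¹ * d⁻¹) := by
          have hcomm := hDab _ (hconj y d hdD) _ hdD
          have h1 : y * d * y⁻¹ * d = x * a * x⁻¹ * a⁻¹ := by rw [hxdef, hddef, sq]; group
          rw [← h1]; group
        rw [e]
        refine mul_mem hcx ?_
        rw [← mul_inv_rev, ← sq]
        exact inv_mem hd2
      have hdZ := key d hdD hd2 hyd
      exact haZ (key a ha ha2 hdZ)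
    refine haZ (mem_center_of_commutators fun g => ?_)
    let K : Subgroup G :=
      { carrier := {g | g * a * g⁻¹ * a⁻¹ ∈ center G}
        one_mem' := by simp
        mul_mem' := fun {g k} hg hk => by
          show g * k * a * (g * k)⁻¹ * a⁻¹ ∈ center G
          have e : g * k * a * (g * k)⁻¹ * a⁻¹ = (k * a * k⁻¹ * a⁻¹) * (g * a * g⁻¹ * a⁻¹) := by
            have hc := mem_center_iff.1 (hk : k * a * k⁻¹ * a⁻¹ ∈ center G) g
            calc g * k * a * (g * k)⁻¹ * a⁻¹ = g * (k * a * k⁻¹ * a⁻¹) * a * g⁻¹ * a⁻¹ := by group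
              _ = (k * a * k⁻¹ * a⁻¹) * g * a * g⁻¹ * a⁻¹ := by rw [hc]
              _ = (k * a * k⁻¹ * a⁻¹) * (g * a * g⁻¹ * a⁻¹) := by group
          rw [e]; exact mul_mem hk hg
        inv_mem' := fun {g} hg => by
          show g⁻¹ * a * g⁻¹⁻¹ * a⁻¹ ∈ center G
          have hc := mem_center_iff.1 (hg : g * a * g⁻¹ * a⁻¹ ∈ center G) g⁻¹
          have e : g⁻¹ * a * g⁻¹⁻¹ * a⁻¹ = (g * a * g⁻¹ * a⁻¹)⁻¹ := by
            calc g⁻¹ * a * g⁻¹⁻¹ * a⁻¹ = g⁻¹ * (g * a * g⁻¹ * a⁻¹)⁻¹ * g := by group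
              _ = (g * a * g⁻¹ * a⁻¹)⁻¹ := by
                rw [mem_center_iff.1 (inv_mem (hg : g * a * g⁻¹ * a⁻¹ ∈ center G)) g⁻¹,
                  inv_mul_cancel_right]
          rw [e]; exact inv_mem hg }
    refine mem_of_two_elements (D := K) (fun y hy => ?_) g
    show y * a * y⁻¹ * a⁻¹ ∈ center G
    by_cases hyD : y ∈ D
    · rw [(hDab y hyD a ha).eq, mul_inv_cancel_right, mul_inv_cancel]; exact one_mem _
    by_cases hy2 : y ^ 2 ∈ D
    · exact hc2 a ha ha2 y hy hyD hy2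
    · exfalso
      obtain ⟨m, h1, h2⟩ := exists_pow_sq_mem hy hyD
      obtain ⟨m', rfl⟩ : ∃ m', m = m' + 1 := ⟨m - 1, by
        rcases Nat.eq_zero_or_pos m with rfl | hm
        · simp at h2; exact absurd h2 hy2
        · omega⟩
      refine h1 ?_
      rw [pow_succ, pow_mul]
      refine hno4 _ (two_element_pow hy _) ?_
      rw [← pow_mul, show 2 ^ m' * 4 = 2 ^ (m' + 1) * 2 by rw [pow_succ]; ring, pow_mul]
      exact h2
  have hD2 : ∀ s ∈ D, (∃ k, s ^ 2 ^ k = 1) → s ∈ center G := by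
    rintro s hs ⟨k, hk⟩
    induction k generalizing s with
    | zero => simp only [pow_zero, pow_one] at hk; exact hk ▸ one_mem _
    | succ k ih => exact hU s hs (ih (s ^ 2) (pow_mem hs 2) (by rw [← pow_mul, ← pow_succ']; exact hk))
  -- involutions modulo `D` invert `D` modulo the centre
  have hinv : ∀ x, (∃ k, x ^ 2 ^ k = 1) → x ∉ D → x ^ 2 ∈ D → ∀ a ∈ D,
      a * (x * a * x⁻¹) ∈ center G := by
    intro x hxk hx hx2 a ha
    refine hfix _ (mul_mem ha (hconj x a ha)) x hxk hx hx2 ?_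
    have hxx : x ^ 2 * a * (x ^ 2)⁻¹ = a := by
      rw [(hDab a ha _ hx2).symm.eq, mul_inv_cancel_right]
    have h1 : x * (a * (x * a * x⁻¹)) * x⁻¹ = a * (x * a * x⁻¹) := by
      calc x * (a * (x * a * x⁻¹)) * x⁻¹ = (x * a * x⁻¹) * (x ^ 2 * a * (x ^ 2)⁻¹) := by group
        _ = (x * a * x⁻¹) * a := by rw [hxx]
        _ = a * (x * a * x⁻¹) := (hDab _ (hconj x a ha) a ha).eq
    exact (mul_inv_eq_iff_eq_mul.1 h1).symm
  refine false_of_unique_involution h D hne hD2 (fun x hx => ?_) ?_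
  · obtain ⟨w, hw, hxw⟩ := hmove x hx
    exact ⟨w, hWD hw, hxw⟩
  intro x y hxk hyk hxyk hxD hyD hx2 hy2 hxy2
  by_contra hxy
  refine hWZ fun a ha => hU a (hWD ha) ?_
  have ha' := hWD ha
  set ζ := a * (y * a * y⁻¹) with hζ
  have hζc : ζ ∈ center G := hinv y hyk hyD hy2 a ha'
  have hη := hinv x hxk hxD hx2 a ha'
  have hθ := hinv (x * y) hxyk hxy hxy2 a ha'
  have key : a ^ 2 = (a * (x * y * a * (x * y)⁻¹)) * (a * (x * a * x⁻¹)) * ζ⁻¹ := by
    have hyay : y * a * y⁻¹ = a⁻¹ * ζ := by rw [hζ]; group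
    have e : x * y * a * (x * y)⁻¹ = (x * a * x⁻¹)⁻¹ * ζ := by
      calc x * y * a * (x * y)⁻¹ = x * (y * a * y⁻¹) * x⁻¹ := by group
        _ = x * (a⁻¹ * ζ) * x⁻¹ := by rw [hyay]
        _ = x * a⁻¹ * (ζ * x⁻¹) := by group
        _ = x * a⁻¹ * (x⁻¹ * ζ) := by rw [(mem_center_iff.1 hζc x⁻¹).symm]
        _ = (x * a * x⁻¹)⁻¹ * ζ := by group
    rw [e]
    have hcomm := hDab _ ha' _ (hconj x a ha')
    calc a ^ 2 = a * (x * a * x⁻¹)⁻¹ * (a * (x * a * x⁻¹)) := by
          rw [hcomm.eq, sq]; group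
      _ = a * (x * a * x⁻¹)⁻¹ * ζ * ζ⁻¹ * (a * (x * a * x⁻¹)) := by group
      _ = a * ((x * a * x⁻¹)⁻¹ * ζ) * (ζ⁻¹ * (a * (x * a * x⁻¹))) := by group
      _ = _ := by rw [← mem_center_iff.1 (inv_mem hζc) (a * (x * a * x⁻¹))]; group
  rw [key]
  exact mul_mem (mul_mem hθ hη) (inv_mem hζc)

end CfsgLib.MinNonCA
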