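import Cfsg.Agent.MinNonCA.Radical

/-!
# Solvable normal subgroups of perfect groups with CA solvable subgroups are central
-/

set_option autoImplicit false
set_option linter.style.haveILetI false

namespace CfsgLib.MinNonCA

open Subgroup

universe u

variable {G : Type u} [Group G]

/-- Solvable normal subgroups are central. -/
theorem solvable_normal_le_center [Finite G] [Group.IsPerfect G] (h : SolvCA G) (N : Subgroup G)
    [N.Normal] [Group.IsSolvable N] : N ≤ center G := by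
  classical
  by_contra hNZ
  obtain ⟨W, ⟨hWn, hWs, hWZ⟩, hmin⟩ := exists_min_not_le
    (fun V => V.Normal ∧ Group.IsSolvable V ∧ ¬ V ≤ center G) (A := N) ⟨‹_›, ‹_›, hNZ⟩
  haveI := hWn
  haveI := hWs
  set Z := center G with hZ
  have hsub : ∀ V : Subgroup G, V.Normal → V ≤ W → V ≠ W → V ≤ Z := fun V hV hVW hne => by
    by_contra hc
    exact hmin V ⟨hV, isSolvable_of_le hVW, hc⟩ (lt_of_le_of_ne hVW hne)
  have hconj : ∀ g w : G, w ∈ W → g * w * g⁻¹ ∈ W := fun g w hw => hWn.conj_mem w hw g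
  have hWne : W ≠ ⊥ := fun h0 => hWZ (h0 ▸ bot_le)
  have hWlt : ⁅W, W⁆ ≠ W := fun he => by
    haveI : Nontrivial W := (nontrivial_iff_ne_bot W).2 hWne
    refine (Group.IsSolvable.commutator_lt_top_of_nontrivial W).ne
      (map_injective W.subtype_injective ?_)
    rw [map_subtype_commutator, he, ← MonoidHom.range_eq_map, range_subtype]
  have hWW : ⁅W, W⁆ ≤ Z := hsub _ inferInstance (commutator_le_self W) hWlt
  have hcc : ∀ v ∈ W, ∀ w ∈ W, v * w * v⁻¹ * w⁻¹ ∈ Z := fun v hv w hw =>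
    hWW (commutator_mem_commutator hv hw)
  have hbil : ∀ v w u : G, v ∈ W → w ∈ W → u ∈ W →
      v * (w * u) * v⁻¹ * (w * u)⁻¹ = (v * w * v⁻¹ * w⁻¹) * (v * u * v⁻¹ * u⁻¹) := by
    intro v w u hv hw hu
    have hc := mem_center_iff.1 (hcc v hv u hu) w
    calc v * (w * u) * v⁻¹ * (w * u)⁻¹ = v * w * v⁻¹ * ((v * u * v⁻¹ * u⁻¹)) * w⁻¹ := by group
      _ = v * w * v⁻¹ * (w⁻¹ * (w * (v * u * v⁻¹ * u⁻¹)) * w⁻¹) := by group
      _ = v * w * v⁻¹ * (w⁻¹ * ((v * u * v⁻¹ * u⁻¹) * w) * w⁻¹) := by rw [hc]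
      _ = _ := by group
  have hZW : ∀ w ∈ W, (∀ u ∈ W, Commute w u) → w ∈ Z := by
    intro w hw hwc
    haveI : (W ⊓ centralizer (W : Set G)).Normal := inferInstance
    refine abelian_normal_le_center h (W ⊓ centralizer (W : Set G))
      (fun a ha b hb => mem_centralizer_iff.1 hb.2 a ha.1)
      ⟨hw, mem_centralizer_iff.2 fun u hu => (hwc u hu).symm.eq⟩
  have hnc : ∀ w ∈ W, w ∉ Z → ∃ u ∈ W, ¬ Commute w u := fun w hw hwZ => by
    by_contra hcon; push Not at hcon; exact hwZ (hZW w hw hcon)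
  -- `W` is CA
  have hCAW : CAOn W := h W hWs
  -- the centraliser of `W` is central
  have hCW : centralizer (W : Set G) ≤ Z := by
    refine abelian_normal_le_center h _ ?_
    by_contra hna
    obtain ⟨Y, hY, hYs, hYna⟩ := exists_solvable_nonabelian' hna
    obtain ⟨w, hw, hwZ⟩ := SetLike.not_le_iff_exists.1 hWZ
    obtain ⟨u, hu, hwu⟩ := hnc w hw hwZ
    haveI := hYs
    haveI : Group.IsSolvable (Y ⊔ W : Subgroup G) := isSolvable_sup_normal
    exact hYna fun a ha b hb => h _ ‹_› w (mem_sup_right hw) u (mem_sup_right hu) hwu a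
      (mem_sup_left ha) b (mem_sup_left hb) (mem_centralizer_iff.1 (hY ha) w hw)
      (mem_centralizer_iff.1 (hY hb) w hw)
  -- the prime
  obtain ⟨p, hp, hpw⟩ : ∃ p, p.Prime ∧ ∀ w ∈ W, w ^ p ∈ Z := by
    obtain ⟨w, hw, hwZ⟩ := SetLike.not_le_iff_exists.1 hWZ
    set n := orderOf (QuotientGroup.mk' Z w)
    have hn1 : n ≠ 1 := fun hn =>
      hwZ ((QuotientGroup.eq_one_iff w).1 (orderOf_eq_one_iff.1 hn))
    obtain ⟨p, hp, hpn⟩ := Nat.exists_prime_and_dvd hn1
    refine ⟨p, hp, ?_⟩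
    have hcomm : ∀ a ∈ W, ∀ b ∈ W, Commute (QuotientGroup.mk' Z a) (QuotientGroup.mk' Z b) := by
      intro a ha b hb
      have h1 : QuotientGroup.mk' Z (a * b * a⁻¹ * b⁻¹) = 1 :=
        (QuotientGroup.eq_one_iff _).2 (hcc a ha b hb)
      rw [map_mul, map_mul, map_mul, map_inv, map_inv, mul_inv_eq_one, mul_inv_eq_iff_eq_mul] at h1
      exact h1
    let K : Subgroup G :=
      { carrier := {v | v ∈ W ∧ v ^ p ∈ Z}
        one_mem' := ⟨one_mem _, by rw [one_pow]; exact one_mem _⟩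
        mul_mem' := fun {a b} ha hb => ⟨mul_mem ha.1 hb.1, by
          refine (QuotientGroup.eq_one_iff _).1 ?_
          show QuotientGroup.mk' Z ((a * b) ^ p) = 1
          rw [map_pow, map_mul, (hcomm a ha.1 b hb.1).mul_pow, ← map_pow, ← map_pow,
            show QuotientGroup.mk' Z (a ^ p) = 1 from (QuotientGroup.eq_one_iff _).2 ha.2,
            show QuotientGroup.mk' Z (b ^ p) = 1 from (QuotientGroup.eq_one_iff _).2 hb.2, one_mul]⟩
        inv_mem' := fun {a} ha => ⟨inv_mem ha.1, by rw [inv_pow]; exact inv_mem ha.2⟩ }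
    have hKn : K.Normal := ⟨fun a ha g => ⟨hconj g a ha.1, by
      rw [conj_pow, mem_center_iff.1 ha.2 g, mul_inv_cancel_right]; exact ha.2⟩⟩
    have hKW : K = W := by
      by_contra hne
      have hmem : w ^ (n / p) ∈ K := ⟨pow_mem hw _, by
        rw [← pow_mul, Nat.div_mul_cancel hpn]
        refine (QuotientGroup.eq_one_iff _).1 ?_
        show QuotientGroup.mk' Z (w ^ n) = 1
        rw [map_pow, pow_orderOf_eq_one]⟩
      have := hsub K hKn (fun a ha => ha.1) hne hmem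
      have h1 : QuotientGroup.mk' Z w ^ (n / p) = 1 := by
        rw [← map_pow]; exact (QuotientGroup.eq_one_iff _).2 this
      have hd := orderOf_dvd_of_pow_eq_one h1
      have hpos : 0 < n := orderOf_pos _
      have hlt : n / p < n := Nat.div_lt_self hpos hp.one_lt
      have h0 : 0 < n / p := Nat.div_pos (Nat.le_of_dvd hpos hpn) hp.pos
      exact absurd (Nat.le_of_dvd h0 hd) (by omega)
    intro v hv
    exact (hKW.symm ▸ hv : v ∈ K).2
  have hbp : ∀ v ∈ W, ∀ w ∈ W, (v * w * v⁻¹ * w⁻¹) ^ p = 1 := by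
    intro v hv w hw
    have key : ∀ k : ℕ, (v * w * v⁻¹ * w⁻¹) ^ k = v * w ^ k * v⁻¹ * (w ^ k)⁻¹ := by
      intro k
      induction k with
      | zero => simp
      | succ k ih => rw [pow_succ, ih, pow_succ, hbil v _ w hv (pow_mem hw k) hw]
    rw [key p, mem_center_iff.1 (hpw w hw) v, mul_inv_cancel_right, mul_inv_cancel]
  -- the kernel on `W` modulo the centre
  let D : Subgroup G :=
    { carrier := {x | ∀ w ∈ W, x * w * x⁻¹ * w⁻¹ ∈ Z}
      one_mem' := fun w _ => by simp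
      mul_mem' := fun {x y} hx hy w hw => by
        have e : x * y * w * (x * y)⁻¹ * w⁻¹ = (y * w * y⁻¹ * w⁻¹) * (x * w * x⁻¹ * w⁻¹) := by
          have hc := mem_center_iff.1 (hy w hw) x
          calc x * y * w * (x * y)⁻¹ * w⁻¹ = x * (y * w * y⁻¹ * w⁻¹) * w * x⁻¹ * w⁻¹ := by group
            _ = (y * w * y⁻¹ * w⁻¹) * x * w * x⁻¹ * w⁻¹ := by rw [hc]
            _ = (y * w * y⁻¹ * w⁻¹) * (x * w * x⁻¹ * w⁻¹) := by group
        rw [e]; exact mul_mem (hy w hw) (hx w hw)
      inv_mem' := fun {x} hx w hw => by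
        have hc := mem_center_iff.1 (inv_mem (hx w hw)) x⁻¹
        have e : x⁻¹ * w * x⁻¹⁻¹ * w⁻¹ = (x * w * x⁻¹ * w⁻¹)⁻¹ := by
          calc x⁻¹ * w * x⁻¹⁻¹ * w⁻¹ = x⁻¹ * (x * w * x⁻¹ * w⁻¹)⁻¹ * x := by group
            _ = (x * w * x⁻¹ * w⁻¹)⁻¹ := by rw [hc, inv_mul_cancel_right]
        rw [e]; exact inv_mem (hx w hw) }
  haveI hDn : D.Normal := ⟨fun x hx g w hw => by
    have e : g * x * g⁻¹ * w * (g * x * g⁻¹)⁻¹ * w⁻¹ =
        g * (x * (g⁻¹ * w * g⁻¹⁻¹) * x⁻¹ * (g⁻¹ * w * g⁻¹⁻¹)⁻¹) * g⁻¹ := by group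
    rw [e, mem_center_iff.1 (hx _ (hconj g⁻¹ w hw)) g, mul_inv_cancel_right]
    exact hx _ (hconj g⁻¹ w hw)⟩
  have hWD : W ≤ D := fun v hv w hw => hcc v hv w hw
  have hDD : ∀ x ∈ D, ∀ y ∈ D, x * y * x⁻¹ * y⁻¹ ∈ Z := by
    intro x hx y hy
    refine hCW (mem_centralizer_iff.2 fun w hw => ?_)
    set α := x * w * x⁻¹ * w⁻¹ with hα
    set β := y * w * y⁻¹ * w⁻¹ with hβ
    have hx' : ∀ ζ ∈ Z, x * ζ * x⁻¹ = ζ := fun ζ hζ => by
      rw [mem_center_iff.1 hζ x, mul_inv_cancel_right]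
    have hy' : ∀ ζ ∈ Z, y * ζ * y⁻¹ = ζ := fun ζ hζ => by
      rw [mem_center_iff.1 hζ y, mul_inv_cancel_right]
    have exw : x * w * x⁻¹ = α * w := by rw [hα]; group
    have eyw : y * w * y⁻¹ = β * w := by rw [hβ]; group
    have exy : x * y * w * (x * y)⁻¹ = β * α * w := by
      calc x * y * w * (x * y)⁻¹ = x * (y * w * y⁻¹) * x⁻¹ := by group
        _ = (x * β * x⁻¹) * (x * w * x⁻¹) := by rw [eyw]; group
        _ = β * α * w := by rw [hx' β (hy w hw), exw, ← mul_assoc]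
    have eyx : y * x * w * (y * x)⁻¹ = β * α * w := by
      calc y * x * w * (y * x)⁻¹ = y * (x * w * x⁻¹) * y⁻¹ := by group
        _ = (y * α * y⁻¹) * (y * w * y⁻¹) := by rw [exw]; group
        _ = α * β * w := by rw [hy' α (hx w hw), eyw, ← mul_assoc]
        _ = β * α * w := by rw [mem_center_iff.1 (hy w hw) α]
    have e : x * y * x⁻¹ * y⁻¹ * w * (x * y * x⁻¹ * y⁻¹)⁻¹ = w := by
      have h1 : x * y * w * (x * y)⁻¹ = y * x * w * (y * x)⁻¹ := exy.trans eyx.symm
      have hw' : ∃ w' ∈ W, w = y * x * w' * (y * x)⁻¹ := ⟨(y * x)⁻¹ * w * (y * x)⁻¹⁻¹,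
        hconj _ w hw, by group⟩
      obtain ⟨w', hw'W, hwe⟩ := hw'
      have h1' : x * y * w' * (x * y)⁻¹ = y * x * w' * (y * x)⁻¹ := by
        have a1 : x * y * w' * (x * y)⁻¹ =
            (y * w' * y⁻¹ * w'⁻¹) * (x * w' * x⁻¹ * w'⁻¹) * w' := by
          have hc := mem_center_iff.1 (hy w' hw'W) x
          calc x * y * w' * (x * y)⁻¹ = x * (y * w' * y⁻¹ * w'⁻¹) * w' * x⁻¹ := by group
            _ = (y * w' * y⁻¹ * w'⁻¹) * x * w' * x⁻¹ := by rw [hc]
            _ = _ := by group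
        have a2 : y * x * w' * (y * x)⁻¹ =
            (x * w' * x⁻¹ * w'⁻¹) * (y * w' * y⁻¹ * w'⁻¹) * w' := by
          have hc := mem_center_iff.1 (hx w' hw'W) y
          calc y * x * w' * (y * x)⁻¹ = y * (x * w' * x⁻¹ * w'⁻¹) * w' * y⁻¹ := by group
            _ = (x * w' * x⁻¹ * w'⁻¹) * y * w' * y⁻¹ := by rw [hc]
            _ = _ := by group
        rw [a1, a2, mem_center_iff.1 (hy w' hw'W) (x * w' * x⁻¹ * w'⁻¹)]
      calc x * y * x⁻¹ * y⁻¹ * w * (x * y * x⁻¹ * y⁻¹)⁻¹ = x * y * w' * (x * y)⁻¹ := by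
            rw [hwe]; group
        _ = w := by rw [h1', hwe]
    exact (mul_inv_eq_iff_eq_mul.1 e).symm
  haveI hDs : Group.IsSolvable D := by
    haveI : Group.IsSolvable (Z.subgroupOf D) := isSolvable_of_abOn fun a ha b _ =>
      Subtype.ext (mem_center_iff.1 (mem_subgroupOf.1 ha) b).symm
    haveI : Group.IsSolvable (D ⧸ Z.subgroupOf D) := by
      refine Group.isSolvable_of_comm fun a b => ?_
      obtain ⟨a, rfl⟩ := QuotientGroup.mk'_surjective _ a
      obtain ⟨b, rfl⟩ := QuotientGroup.mk'_surjective _ b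
      have h1 : QuotientGroup.mk' (Z.subgroupOf D) (a * b * a⁻¹ * b⁻¹) = 1 :=
        (QuotientGroup.eq_one_iff _).2 (mem_subgroupOf.2 (hDD a a.2 b b.2))
      rw [map_mul, map_mul, map_mul, map_inv, map_inv, mul_inv_eq_one, mul_inv_eq_iff_eq_mul] at h1
      exact h1
    exact (Group.isSolvable_iff_subgroup_quotient (Z.subgroupOf D)).2 ⟨‹_›, ‹_›⟩
  have hDne : D ≠ ⊤ := by
    intro ht
    exact hWZ fun w hw => mem_center_of_commutators fun g => (ht ▸ mem_top g : g ∈ D) w hw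
  have hC : ∀ x, x ∉ D → ∃ w ∈ D, ¬ Commute x w := by
    intro x hx
    by_contra hcon
    push Not at hcon
    exact hx fun w hw => by
      rw [(hcon w (hWD hw)).eq, mul_inv_cancel_right, mul_inv_cancel]; exact one_mem _
  have hsq : ∀ v ∈ W, ∀ w ∈ W, v * (w * w) * v⁻¹ * (w * w)⁻¹ = (v * w * v⁻¹ * w⁻¹) ^ 2 :=
    fun v hv w hw => by rw [hbil v w w hv hw hw, sq]
  rcases hp.eq_two_or_odd' with rfl | hodd
  · -- the prime 2
    obtain ⟨x, -, hxD, hx2⟩ := exists_two_not_mem (D := D) hDne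
    set u : G → G := fun w => x * w * x⁻¹ * w⁻¹ with hu
    have huW : ∀ w ∈ W, u w ∈ W := fun w hw => mul_mem (hconj x w hw) (inv_mem hw)
    let F : Subgroup G :=
      { carrier := {f | f ∈ W ∧ u f ∈ Z}
        one_mem' := ⟨one_mem _, by simp [hu]⟩
        mul_mem' := fun {a b} ha hb => ⟨mul_mem ha.1 hb.1, by
          have e : u (a * b) = (x * a * x⁻¹ * a⁻¹) * (a * (x * b * x⁻¹ * b⁻¹) * a⁻¹) := by
            simp only [hu]; group
          rw [e]
          refine mul_mem ha.2 ?_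
          rw [mem_center_iff.1 hb.2 a, mul_inv_cancel_right]; exact hb.2⟩
        inv_mem' := fun {a} ha => ⟨inv_mem ha.1, by
          have hc := mem_center_iff.1 (inv_mem ha.2) a⁻¹
          have e : u a⁻¹ = a⁻¹ * (u a)⁻¹ * a := by simp only [hu]; group
          rw [e, hc, inv_mul_cancel_right]; exact inv_mem ha.2⟩ }
    have hFmem : ∀ f, f ∈ F ↔ f ∈ W ∧ u f ∈ Z := fun f => Iff.rfl
    have huF : ∀ w ∈ W, u w ∈ F := by
      intro w hw
      refine ⟨huW w hw, ?_⟩
      have e : u (u w) = (x ^ 2 * w * (x ^ 2)⁻¹ * w⁻¹) * (w * (x * w * x⁻¹)⁻¹) ^ 2 := by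
        simp only [hu, sq]; group
      rw [e]
      exact mul_mem (hx2 w hw) (hpw _ (mul_mem hw (inv_mem (hconj x w hw))))
    have hFu : ∀ f ∈ F, ∀ w ∈ W, Commute f (u w) := by
      intro f hf w hw
      set c := f * w * f⁻¹ * w⁻¹ with hc
      have hcZ : c ∈ Z := hcc f hf.1 w hw
      have hxf : x * f * x⁻¹ = u f * f := by simp only [hu]; group
      have h1 : f * (x * w * x⁻¹) * f⁻¹ * (x * w * x⁻¹)⁻¹ = c := by
        have h2 : x * c * x⁻¹ = c := by rw [mem_center_iff.1 hcZ x, mul_inv_cancel_right]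
        have h3 : (u f) * f * (x * w * x⁻¹) * ((u f) * f)⁻¹ * (x * w * x⁻¹)⁻¹ =
            f * (x * w * x⁻¹) * f⁻¹ * (x * w * x⁻¹)⁻¹ := by
          have := mem_center_iff.1 hf.2 (f * (x * w * x⁻¹) * f⁻¹)
          calc (u f) * f * (x * w * x⁻¹) * ((u f) * f)⁻¹ * (x * w * x⁻¹)⁻¹
              = (u f) * (f * (x * w * x⁻¹) * f⁻¹) * (u f)⁻¹ * (x * w * x⁻¹)⁻¹ := by group
            _ = _ := by rw [← this, mul_inv_cancel_right]
        rw [← h3, ← hxf, ← h2, hc]
        group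
      have h4 := hbil f (u w) w hf.1 (huW w hw) hw
      rw [show u w * w = x * w * x⁻¹ by simp only [hu]; group, h1] at h4
      have h5 : f * u w * f⁻¹ * (u w)⁻¹ = 1 := by
        rw [← hc] at h4
        exact mul_right_cancel (h4.symm.trans (one_mul c).symm)
      exact mul_inv_eq_iff_eq_mul.1 (mul_inv_eq_one.1 h5)
    obtain ⟨w0, hw0, hu0⟩ : ∃ w ∈ W, u w ∉ Z := by
      by_contra hcon; push Not at hcon; exact hxD fun w hw => hcon w hw
    set u0 := u w0
    set B : Subgroup G := W ⊓ centralizer {u0} with hB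
    have hBmem : ∀ b, b ∈ B ↔ b ∈ W ∧ Commute u0 b := fun b => by
      simp only [hB, mem_inf, mem_centralizer_singleton_iff]
      exact and_congr_right fun _ => ⟨fun e => e.symm, fun e => e.symm⟩
    obtain ⟨t0, ht0, ht0'⟩ := hnc u0 (huW w0 hw0) hu0
    have hFB : F ≤ B := fun f hf => (hBmem f).2 ⟨hf.1, (hFu f hf w0 hw0).symm⟩
    have hBab : AbOn B := fun a ha b hb => hCAW u0 (huW w0 hw0) t0 ht0 ht0' a ha.1 b hb.1
      ((hBmem a).1 ha).2 ((hBmem b).1 hb).2
    have hBW : ∃ t ∈ W, t ∉ B := ⟨t0, ht0, fun hh => ht0' ((hBmem t0).1 hh).2⟩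
    have hCF : ∀ b ∈ W, (∀ f ∈ F, Commute b f) → b ∈ B := fun b hb hbf =>
      (hBmem b).2 ⟨hb, (hbf u0 (huF w0 hw0)).symm⟩
    have hsame : ∀ f ∈ F, f ∉ Z → ∀ v ∈ W, Commute f v → v ∈ B := by
      intro f hf hfZ v hv hfv
      obtain ⟨t, ht, hft⟩ := hnc f hf.1 hfZ
      exact (hBmem v).2 ⟨hv, (hCAW f hf.1 t ht hft u0 (huW w0 hw0) v hv (hFu f hf w0 hw0) hfv)⟩
    -- the dichotomy
    have hdich : ∀ w ∈ W, (∀ f ∈ F, Commute (w * x) f) ∨ u w * x ^ 2 ∈ Z := by
      intro w hw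
      set g := w * x with hg
      haveI := isSolvable_sup_zpowers (K := W) (x := g) (by rw [normalizer_eq_top]; exact mem_top g)
      have hg2 : g ^ 2 = w * u w * w * x ^ 2 := by simp only [hg, hu, sq]; group
      have hgf : ∀ f ∈ F, Commute (g ^ 2) f := by
        intro f hf
        set c := g * f * g⁻¹ * f⁻¹ with hc
        have hcZ : c ∈ Z := by
          have e : c = w * (u f) * w⁻¹ * (w * f * w⁻¹ * f⁻¹) := by
            simp only [hc, hg, hu]; group
          rw [e, mem_center_iff.1 hf.2 w, mul_inv_cancel_right]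
          exact mul_mem hf.2 (hcc w hw f hf.1)
        have hcc' : c * c = 1 := by
          have h1 : g * (f * f) * g⁻¹ = f * f := by
            have := hpw f hf.1; rw [sq] at this
            rw [mem_center_iff.1 this g, mul_inv_cancel_right]
          have h2 : g * (f * f) * g⁻¹ = c * c * (f * f) := by
            have hgf : g * f * g⁻¹ = c * f := by rw [hc]; group
            calc g * (f * f) * g⁻¹ = (g * f * g⁻¹) * (g * f * g⁻¹) := by group
              _ = c * f * (c * f) := by rw [hgf]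
              _ = c * (f * c) * f := by group
              _ = c * c * (f * f) := by rw [mem_center_iff.1 hcZ f]; group
          exact mul_right_cancel (h2.symm.trans h1 |>.trans (one_mul _).symm)
        have h3 : g ^ 2 * f * (g ^ 2)⁻¹ = f := by
          have hgc : g * c * g⁻¹ = c := by rw [mem_center_iff.1 hcZ g, mul_inv_cancel_right]
          calc g ^ 2 * f * (g ^ 2)⁻¹ = (g * c * g⁻¹) * c * f := by rw [hc, sq]; group
            _ = f := by rw [hgc, hcc', one_mul]
        exact mul_inv_eq_iff_eq_mul.1 h3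
      by_cases hcen : ∀ v ∈ W, Commute (g ^ 2) v
      · right
        have hgZ : g ^ 2 ∈ Z := hCW (mem_centralizer_iff.2 fun v hv => (hcen v hv).symm.eq)
        rw [hg2] at hgZ
        have e' : w * u w * w * x ^ 2 =
            (w * (u w) * w⁻¹ * (u w)⁻¹) * (u w * (w * w) * x ^ 2) := by group
        rw [e'] at hgZ
        have h5 : u w * (w * w) * x ^ 2 ∈ Z := by
          have := mul_mem (inv_mem (hcc w hw (u w) (huW w hw))) hgZ
          rwa [inv_mul_cancel_left] at this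
        have hww : w * w ∈ Z := sq w ▸ hpw w hw
        rw [show u w * (w * w) = (w * w) * u w from mem_center_iff.1 hww (u w), mul_assoc] at h5
        have := mul_mem (inv_mem hww) h5
        rwa [inv_mul_cancel_left] at this
      · left
        push Not at hcen
        obtain ⟨v, hv, hgv⟩ := hcen
        exact fun f hf => h _ ‹_› (g ^ 2) (mem_sup_left (pow_mem (mem_zpowers g) 2)) v
          (mem_sup_right hv) hgv g (mem_sup_left (mem_zpowers g)) f (mem_sup_right hf.1)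
          ((Commute.refl g).pow_left 2) (hgf f hf)
    have hE : ∀ w1 ∈ W, ∀ w2 ∈ W, (∀ f ∈ F, Commute (w1 * x) f) → (∀ f ∈ F, Commute (w2 * x) f) →
        w1 * w2⁻¹ ∈ B := by
      intro w1 h1 w2 h2 e1 e2
      refine hCF _ (mul_mem h1 (inv_mem h2)) fun f hf => ?_
      have := (e1 f hf).mul_left (e2 f hf).inv_left
      rwa [show w1 * x * (w2 * x)⁻¹ = w1 * w2⁻¹ by group] at this
    have hE' : ∀ w1 ∈ W, ∀ w2 ∈ W, u w1 * x ^ 2 ∈ Z → u w2 * x ^ 2 ∈ Z → w1 * w2⁻¹ ∈ F := by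
      intro w1 h1 w2 h2 e1 e2
      refine ⟨mul_mem h1 (inv_mem h2), ?_⟩
      have h3 : u w1 * (u w2)⁻¹ ∈ Z := by
        have := mul_mem e1 (inv_mem e2)
        rwa [show u w1 * x ^ 2 * (u w2 * x ^ 2)⁻¹ = u w1 * (u w2)⁻¹ by group] at this
      have e : u (w1 * w2⁻¹) = u w1 * (w1 * w2⁻¹ * (u w2)⁻¹ * (w1 * w2⁻¹)⁻¹) := by
        simp only [hu]; group
      rw [e]
      have h4 := hcc _ (mul_mem h1 (inv_mem h2)) _ (inv_mem (huW w2 h2))
      have e2' : u w1 * (w1 * w2⁻¹ * (u w2)⁻¹ * (w1 * w2⁻¹)⁻¹) =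
          u w1 * ((w1 * w2⁻¹ * (u w2)⁻¹ * (w1 * w2⁻¹)⁻¹ * ((u w2)⁻¹)⁻¹) * (u w2)⁻¹) := by group
      rw [e2', ← mem_center_iff.1 h4 (u w2)⁻¹, ← mul_assoc]
      exact mul_mem h3 h4
    -- index two
    obtain ⟨t, ht, htB⟩ := hBW
    have htwo : ∀ a ∈ W, ∀ b ∈ W, a * b⁻¹ ∉ B → ((∀ f ∈ F, Commute (a * x) f) ∧ u b * x ^ 2 ∈ Z) ∨
        ((∀ f ∈ F, Commute (b * x) f) ∧ u a * x ^ 2 ∈ Z) := by
      intro a ha b hb hab
      rcases hdich a ha with h1 | h1 <;> rcases hdich b hb with h2 | h2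
      · exact absurd (hE a ha b hb h1 h2) hab
      · exact Or.inl ⟨h1, h2⟩
      · exact Or.inr ⟨h2, h1⟩
      · exact absurd (hFB (hE' a ha b hb h1 h2)) hab
    have hBF : B ≤ F := by
      intro b hb
      have hbW := ((hBmem b).1 hb).1
      have d1 : t * (1 : G)⁻¹ ∉ B := by simpa using htB
      have d2 : t * b⁻¹ ∉ B := fun hh => htB (by simpa using mul_mem hh hb)
      have d3 : b * t * (1 : G)⁻¹ ∉ B := fun hh => htB (by
        have := mul_mem (inv_mem hb) hh; simpa using this)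
      rcases htwo t ht 1 (one_mem _) d1 with ⟨e1, z1⟩ | ⟨e1, z1⟩
      · rcases htwo t ht b hbW d2 with ⟨-, z2⟩ | ⟨e2, z2⟩
        · have := hE' b hbW 1 (one_mem _) z2 z1; simpa using this
        · exact absurd (hFB (by simpa using hE' t ht 1 (one_mem _) z2 z1)) htB
      · rcases htwo (b * t) (mul_mem hbW ht) 1 (one_mem _) d3 with ⟨e2, z2⟩ | ⟨e2, z2⟩
        · exact absurd (hFB (by simpa using hE' t ht 1 (one_mem _) z1 z2)) htB
        · have := hE' (b * t) (mul_mem hbW ht) t ht z2 z1; simpa using this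
    have hidx : ∀ a ∈ W, ∀ b ∈ W, a ∉ F → b ∉ F → a * b⁻¹ ∈ F := by
      intro a ha b hb haF hbF
      refine hBF ?_
      by_contra hab
      have a1 : a * (1 : G)⁻¹ ∉ B := fun hh => haF (hBF (by simpa using hh))
      have b1 : b * (1 : G)⁻¹ ∉ B := fun hh => hbF (hBF (by simpa using hh))
      rcases htwo a ha 1 (one_mem _) a1 with ⟨ea, za⟩ | ⟨ea, za⟩ <;>
        rcases htwo b hb 1 (one_mem _) b1 with ⟨eb, zb⟩ | ⟨eb, zb⟩
      · exact hab (hE a ha b hb ea eb)
      · exact hbF (by simpa using hE' b hb 1 (one_mem _) zb za)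
      · exact haF (by simpa using hE' a ha 1 (one_mem _) za zb)
      · exact hab (hFB (hE' a ha b hb za zb))
    have hFne : F ≠ W := fun hh => htB (hFB (hh ▸ ht))
    obtain ⟨g, hgF⟩ : ∃ g : G, ∃ f ∈ F, g * f * g⁻¹ ∉ F := by
      by_contra hcon; push Not at hcon
      haveI hFn : F.Normal := ⟨fun f hf g => hcon g f hf⟩
      exact hu0 (hsub F hFn (fun f hf => hf.1) hFne (huF w0 hw0))
    obtain ⟨f1, hf1, hf1'⟩ := hgF
    -- the conjugate `F'`
    set F' : Subgroup G := F.map (MulAut.conj g).toMonoidHom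
    have hF'mem : ∀ v, v ∈ F' ↔ g⁻¹ * v * g ∈ F := fun v => by
      constructor
      · rintro ⟨f, hf, rfl⟩; simpa [mul_assoc] using hf
      · intro hv; exact ⟨_, hv, by simp [mul_assoc]⟩
    have hint : ∀ v ∈ F, v ∈ F' → v ∈ Z := by
      intro v hv hv'
      by_contra hvZ
      have hgv := (hF'mem v).1 hv'
      refine hf1' (hBF (hsame v hv hvZ _ (hconj g f1 hf1.1) ?_))
      have := (hBab _ (hFB hgv) f1 (hFB hf1)).map (MulAut.conj g).toMonoidHom
      simpa [mul_assoc] using this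
    have hq4 : Nat.card (↥W ⧸ Z.subgroupOf W) ≤ 4 := by
      classical
      let ψ : ↥W ⧸ Z.subgroupOf W → Bool × Bool := fun q =>
        (decide ((q.out : G) ∈ F), decide ((q.out : G) ∈ F'))
      refine (Nat.card_le_card_of_injective ψ ?_).trans (by simp)
      intro q1 q2 hq
      obtain ⟨h1, h2⟩ := Prod.mk.injEq .. ▸ hq
      simp only [decide_eq_decide] at h1 h2
      have hidx' : ∀ a ∈ W, ∀ b ∈ W, a ∉ F' → b ∉ F' → a * b⁻¹ ∈ F' := by
        intro a ha b hb haF hbF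
        refine (hF'mem _).2 ?_
        have := hidx (g⁻¹ * a * g) (by simpa using hconj g⁻¹ a ha) (g⁻¹ * b * g)
          (by simpa using hconj g⁻¹ b hb) (fun hh => haF ((hF'mem a).2 hh))
          (fun hh => hbF ((hF'mem b).2 hh))
        simpa [mul_assoc] using this
      set a := (q1.out : G)
      set b := (q2.out : G)
      have hA : a * b⁻¹ ∈ F := by
        by_cases ha : a ∈ F
        · exact mul_mem ha (inv_mem (h1.1 ha))
        · exact hidx a q1.out.2 b q2.out.2 ha (fun hb => ha (h1.2 hb))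
      have hA' : a * b⁻¹ ∈ F' := by
        by_cases ha : a ∈ F'
        · exact mul_mem ha (inv_mem (h2.1 ha))
        · exact hidx' a q1.out.2 b q2.out.2 ha (fun hb => ha (h2.2 hb))
      rw [← q1.out_eq', ← q2.out_eq']
      refine QuotientGroup.eq.2 (mem_subgroupOf.2 ?_)
      have hab := hint _ hA hA'
      have : ((q1.out⁻¹ * q2.out : W) : G) = a⁻¹ * (a * b⁻¹)⁻¹ * a := by
        rw [coe_mul, coe_inv]; simp only [a, b]; group
      rw [this, mem_center_iff.1 (inv_mem hab) a⁻¹, inv_mul_cancel_right]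
      exact inv_mem hab
    -- the action on `W` modulo the centre is trivial
    have hst : ∀ g : G, ∀ q : ↥W, q ∈ Z.subgroupOf W →
        (⟨g * q * g⁻¹, hconj g q q.2⟩ : W) ∈ Z.subgroupOf W := fun g q hq => by
      rw [mem_subgroupOf] at hq ⊢
      show g * (q : G) * g⁻¹ ∈ Z
      rw [mem_center_iff.1 hq g, mul_inv_cancel_right]; exact hq
    let act : G → ↥W ⧸ Z.subgroupOf W → ↥W ⧸ Z.subgroupOf W := fun g =>
      QuotientGroup.map (Z.subgroupOf W) (Z.subgroupOf W) ((MulAut.conjNormal g : MulAut W)).toMonoidHom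
        fun q hq => hst g q hq
    have hact : ∀ g (w : W), act g (QuotientGroup.mk w) = QuotientGroup.mk (MulAut.conjNormal g w) :=
      fun g w => rfl
    let ρ : G →* Equiv.Perm (↥W ⧸ Z.subgroupOf W) :=
      { toFun := fun g =>
          { toFun := act g
            invFun := act g⁻¹
            left_inv := fun q => by
              induction q using QuotientGroup.induction_on with
              | H w => rw [hact, hact]; exact congrArg QuotientGroup.mk (Subtype.ext (by simp [mul_assoc]))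
            right_inv := fun q => by
              induction q using QuotientGroup.induction_on with
              | H w => rw [hact, hact]; exact congrArg QuotientGroup.mk (Subtype.ext (by simp [mul_assoc])) }
        map_one' := by
          refine Equiv.ext fun q => ?_
          induction q using QuotientGroup.induction_on with
          | H w => show act 1 (QuotientGroup.mk w) = QuotientGroup.mk w; rw [hact]; exact congrArg QuotientGroup.mk (Subtype.ext (by simp))
        map_mul' := fun g k => by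
          refine Equiv.ext fun q => ?_
          induction q using QuotientGroup.induction_on with
          | H w =>
            show act (g * k) (QuotientGroup.mk w) = act g (act k (QuotientGroup.mk w))
            rw [hact, hact, hact]; exact congrArg QuotientGroup.mk (Subtype.ext (by simp [mul_assoc])) }
    haveI := CfsgLib.Inv54.isSolvable_perm_of_card_le_four hq4
    haveI : Group.IsSolvable ρ.range := inferInstance
    have htriv : ∀ g, ρ g = 1 := by
      intro g
      by_contra hg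
      haveI : Nontrivial ρ.range := ⟨⟨⟨ρ g, g, rfl⟩, 1, fun e => hg (congrArg Subtype.val e)⟩⟩
      refine (Group.IsSolvable.commutator_lt_top_of_nontrivial ρ.range).ne ?_
      rw [eq_top_iff, ← Subgroup.map_top_of_surjective ρ.rangeRestrict ρ.rangeRestrict_surjective,
        ← Group.IsPerfect.commutator_eq_top (G := G), _root_.commutator_def, _root_.commutator_def,
        map_commutator]
      exact commutator_mono le_top le_top
    refine hWZ fun w hw => mem_center_of_commutators fun g => ?_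
    have h1 := congrArg (fun π => π (QuotientGroup.mk ⟨w, hw⟩)) (htriv g)
    have h2 := QuotientGroup.eq.1 (show QuotientGroup.mk (MulAut.conjNormal g ⟨w, hw⟩) =
      (QuotientGroup.mk (⟨w, hw⟩ : W) : ↥W ⧸ Z.subgroupOf W) from h1)
    rw [mem_subgroupOf] at h2
    have h3 : (g * w * g⁻¹)⁻¹ * w ∈ Z := by simpa [mul_assoc] using h2
    have e : g * w * g⁻¹ * w⁻¹ = (g * w * g⁻¹) * ((g * w * g⁻¹)⁻¹ * w)⁻¹ * (g * w * g⁻¹)⁻¹ := by
      group
    rw [e, mem_center_iff.1 (inv_mem h3) (g * w * g⁻¹), mul_inv_cancel_right]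
    exact inv_mem h3
  · -- odd primes
    have hxinv : ∀ x, x ∉ D → x ^ 2 ∈ D → ∀ w ∈ W, w * (x * w * x⁻¹) ∈ Z := by
      intro x hxD hx2
      have hu : ∀ w ∈ W, x * (w * (x * w * x⁻¹)) * x⁻¹ * (w * (x * w * x⁻¹))⁻¹ ∈ Z := by
        intro w hw
        have e : x * (w * (x * w * x⁻¹)) * x⁻¹ * (w * (x * w * x⁻¹))⁻¹ =
          (x * w * x⁻¹) * (x ^ 2 * w * (x ^ 2)⁻¹ * w⁻¹) * (x * w * x⁻¹)⁻¹ *
          ((x * w * x⁻¹) * w * (x * w * x⁻¹)⁻¹ * w⁻¹) := by group
        rw [e]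
        refine mul_mem ?_ (hcc _ (hconj x w hw) w hw)
        rw [mem_center_iff.1 (hx2 w hw) _, mul_inv_cancel_right]; exact hx2 w hw
      have hv : ∀ w ∈ W, (w * (x * w⁻¹ * x⁻¹)) * (x * (w * (x * w⁻¹ * x⁻¹)) * x⁻¹) ∈ Z := by
        intro w hw
        have e : (w * (x * w⁻¹ * x⁻¹)) * (x * (w * (x * w⁻¹ * x⁻¹)) * x⁻¹) =
            (x ^ 2 * w * (x ^ 2)⁻¹ * w⁻¹)⁻¹ := by rw [sq]; simp [mul_assoc]
        rw [e]; exact inv_mem (hx2 w hw)
      have hcomm : ∀ a ∈ W, ∀ b ∈ W, x * a * x⁻¹ * a⁻¹ ∈ Z → b * (x * b * x⁻¹) ∈ Z →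
          Commute a b := by
        intro a ha b hb h1 h2
        set c := a * b * a⁻¹ * b⁻¹ with hc
        have hcZ : c ∈ Z := hcc a ha b hb
        have hz : ∀ ζ ∈ Z, ∀ g, g * ζ * g⁻¹ = ζ := fun ζ hζ g => by
          rw [mem_center_iff.1 hζ g, mul_inv_cancel_right]
        set ζ := x * a * x⁻¹ * a⁻¹
        set η := b * (x * b * x⁻¹)
        have e3 : (x * a * x⁻¹) * (x * b * x⁻¹) * (x * a * x⁻¹)⁻¹ * (x * b * x⁻¹)⁻¹ = c := by
          calc _ = x * c * x⁻¹ := by rw [hc]; group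
            _ = c := hz c hcZ x
        rw [show x * a * x⁻¹ = ζ * a from by simp [ζ], show x * b * x⁻¹ = b⁻¹ * η from by simp [η]]
          at e3
        have e4 : ζ * a * (b⁻¹ * η) * (ζ * a)⁻¹ * (b⁻¹ * η)⁻¹ = a * b⁻¹ * a⁻¹ * b⁻¹⁻¹ := by
          calc ζ * a * (b⁻¹ * η) * (ζ * a)⁻¹ * (b⁻¹ * η)⁻¹
              = ζ * (a * b⁻¹ * (η * a⁻¹)) * ζ⁻¹ * η⁻¹ * b := by group
            _ = (a * b⁻¹ * (η * a⁻¹)) * η⁻¹ * b := by
                rw [← mem_center_iff.1 h1 (a * b⁻¹ * (η * a⁻¹)), mul_inv_cancel_right]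
            _ = (a * b⁻¹ * (a⁻¹ * η)) * η⁻¹ * b := by rw [(mem_center_iff.1 h2 a⁻¹).symm]
            _ = _ := by group
        have e5 : a * b⁻¹ * a⁻¹ * b⁻¹⁻¹ = c⁻¹ := by
          have := hbil a b b⁻¹ ha hb (inv_mem hb)
          rw [mul_inv_cancel, ← hc] at this
          exact eq_inv_of_mul_eq_one_right (this.symm.trans (by simp))
        have hcinv : c⁻¹ = c := by rw [← e5, ← e4, e3]
        have hcc2 : c * c = 1 := by
          nth_rewrite 1 [← hcinv]
          exact inv_mul_cancel c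
        have hc1 : c = 1 := by
          have hcp := hbp a ha b hb
          rw [← hc] at hcp
          obtain ⟨k, hk⟩ := hodd
          rw [hk, pow_succ, pow_mul, sq, hcc2, one_pow, one_mul] at hcp
          exact hcp
        exact mul_inv_eq_iff_eq_mul.1 (mul_inv_eq_one.1 hc1)
      by_contra hcon
      push Not at hcon
      obtain ⟨w, hw, hwZ⟩ := hcon
      have hxW : ∀ w ∈ W, x * w⁻¹ * x⁻¹ ∈ W := fun w hw => hconj x _ (inv_mem hw)
      obtain ⟨b0, hb0, hb0i, hb0Z⟩ : ∃ b ∈ W, b * (x * b * x⁻¹) ∈ Z ∧ b ∉ Z := by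
        by_contra hcon
        push Not at hcon
        refine hxD fun v hvW => ?_
        have h1 := hcon _ (mul_mem hvW (hxW v hvW)) (hv v hvW)
        have e : x * v * x⁻¹ * v⁻¹ = (v * (x * v⁻¹ * x⁻¹))⁻¹ := by group
        rw [e]; exact inv_mem h1
      set a0 := w * (x * w * x⁻¹)
      have ha0 : a0 ∈ W := mul_mem hw (hconj x w hw)
      obtain ⟨t, ht, hbt⟩ := hnc b0 hb0 hb0Z
      obtain ⟨t', ht', hat⟩ := hnc a0 ha0 hwZ
      have hplus : ∀ a ∈ W, ∀ a' ∈ W, x * a * x⁻¹ * a⁻¹ ∈ Z → x * a' * x⁻¹ * a'⁻¹ ∈ Z →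
          Commute a a' := fun a ha a' ha' h1 h2 =>
        hCAW b0 hb0 t ht hbt a ha a' ha' (hcomm a ha b0 hb0 h1 hb0i).symm
          (hcomm a' ha' b0 hb0 h2 hb0i).symm
      have hminus : ∀ b ∈ W, ∀ b' ∈ W, b * (x * b * x⁻¹) ∈ Z → b' * (x * b' * x⁻¹) ∈ Z →
          Commute b b' := fun b hb b' hb' h1 h2 =>
        hCAW a0 ha0 t' ht' hat b hb b' hb' (hcomm a0 ha0 b hb (hu w hw) h1)
          (hcomm a0 ha0 b' hb' (hu w hw) h2)
      -- squares commute
      have hsqc : ∀ v1 ∈ W, ∀ v2 ∈ W, Commute (v1 * v1) (v2 * v2) := by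
        have dec : ∀ v ∈ W, ∃ ζ ∈ Z, v * v = (v * (x * v * x⁻¹)) * (v * (x * v⁻¹ * x⁻¹)) * ζ := by
          intro v hv
          refine ⟨((v * (x * v * x⁻¹)) * (v * (x * v⁻¹ * x⁻¹)))⁻¹ * (v * v), ?_, by group⟩
          have e : ((v * (x * v * x⁻¹)) * (v * (x * v⁻¹ * x⁻¹)))⁻¹ * (v * v) =
              (x * v * x⁻¹) * v⁻¹ * (x * v * x⁻¹)⁻¹ * v⁻¹⁻¹ := by group
          rw [e]
          exact hcc _ (hconj x v hv) _ (inv_mem hv)
        intro v1 h1 v2 h2
        obtain ⟨z1, hz1, e1⟩ := dec v1 h1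
        obtain ⟨z2, hz2, e2⟩ := dec v2 h2
        rw [e1, e2]
        have m1 := mul_mem h1 (hconj x v1 h1)
        have m2 := mul_mem h2 (hconj x v2 h2)
        have n1 := mul_mem h1 (hxW v1 h1)
        have n2 := mul_mem h2 (hxW v2 h2)
        have cz1 : ∀ g, Commute z1 g := fun g => (mem_center_iff.1 hz1 g).symm
        have cz2 : ∀ g, Commute g z2 := fun g => mem_center_iff.1 hz2 g
        exact (((((hplus _ m1 _ m2 (hu v1 h1) (hu v2 h2)).mul_right
          (hcomm _ m1 _ n2 (hu v1 h1) (hv v2 h2))).mul_left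
          (((hcomm _ m2 _ n1 (hu v2 h2) (hv v1 h1)).symm).mul_right
          (hminus _ n1 _ n2 (hv v1 h1) (hv v2 h2)))).mul_left
          (cz1 _)).mul_right (cz2 _))
      refine hWZ fun v1 h1 => hZW v1 h1 fun v2 h2 => ?_
      set c := v1 * v2 * v1⁻¹ * v2⁻¹ with hc
      have h4 : c ^ 4 = 1 := by
        have e1 := hsq v1 h1 v2 h2
        have e2 : (v1 * v1) * (v2 * v2) * (v1 * v1)⁻¹ * (v2 * v2)⁻¹ = c ^ 4 := by
          have hd := hcc v1 h1 (v2 * v2) (mul_mem h2 h2)
          calc (v1 * v1) * (v2 * v2) * (v1 * v1)⁻¹ * (v2 * v2)⁻¹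
              = (v1 * (v1 * (v2 * v2) * v1⁻¹ * (v2 * v2)⁻¹) * v1⁻¹) *
                (v1 * (v2 * v2) * v1⁻¹ * (v2 * v2)⁻¹) := by group
            _ = c ^ 4 := by
                rw [mem_center_iff.1 hd v1, mul_inv_cancel_right, e1, ← hc, ← pow_add]
        rw [← e2, (hsqc v1 h1 v2 h2).eq, mul_inv_cancel_right, mul_inv_cancel]
      have hcp := hbp v1 h1 v2 h2
      rw [← hc] at hcp
      have h41 : Nat.gcd 4 p = 1 := by
        rw [show (4 : ℕ) = 2 ^ 2 from rfl]
        exact Nat.Coprime.pow_left 2 (Nat.coprime_two_left.2 hodd)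
      have h1c : c ^ 1 = 1 := h41 ▸ pow_gcd_eq_one.2 ⟨h4, hcp⟩
      rw [pow_one, hc] at h1c
      exact mul_inv_eq_iff_eq_mul.1 (mul_inv_eq_one.1 h1c)
    refine false_of_unique_involution h D hDne ?_ hC ?_
    · rintro s hs ⟨k, hk⟩
      have hsp : s ^ p ∈ Z := by
        refine hCW (mem_centralizer_iff.2 fun w hw => ?_)
        set c := s * w * s⁻¹ * w⁻¹ with hc
        have hsc : ∀ j : ℕ, s ^ j * w * (s ^ j)⁻¹ = c ^ j * w := by
          intro j
          induction j with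
          | zero => simp
          | succ j ih =>
            calc s ^ (j + 1) * w * (s ^ (j + 1))⁻¹ = s * (s ^ j * w * (s ^ j)⁻¹) * s⁻¹ := by group
              _ = s * c ^ j * (w * s⁻¹) := by rw [ih]; group
              _ = c ^ j * s * (w * s⁻¹) := by rw [mem_center_iff.1 (pow_mem (hs w hw) j) s]
              _ = c ^ (j + 1) * w := by rw [pow_succ, hc]; group
        have hcp : c ^ p = 1 := by
          have hwc : ∀ j : ℕ, s * w ^ j * s⁻¹ = c ^ j * w ^ j := by
            intro j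
            induction j with
            | zero => simp
            | succ j ih =>
              calc s * w ^ (j + 1) * s⁻¹ = (s * w ^ j * s⁻¹) * (s * w * s⁻¹) := by group
                _ = c ^ j * w ^ j * (c * w) := by rw [ih, hc]; group
                _ = c ^ j * (w ^ j * c) * w := by group
                _ = c ^ (j + 1) * w ^ (j + 1) := by
                  rw [mem_center_iff.1 (hs w hw) (w ^ j), ← hc, pow_succ c, pow_succ w]; group
          have := hwc p
          rw [mem_center_iff.1 (hpw w hw) s, mul_inv_cancel_right] at this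
          exact mul_right_cancel (this.symm.trans (one_mul _).symm)
        have := hsc p
        rw [hcp, one_mul] at this
        exact (mul_inv_eq_iff_eq_mul.1 this).symm
      -- `s` has 2-power order and `s ^ p` is central
      obtain ⟨j, hj⟩ := exists_pow_eq_self_of_coprime (x := s) (n := p)
        (Nat.Coprime.of_dvd_right (orderOf_dvd_of_pow_eq_one hk)
          (Nat.Coprime.pow_right _ (Nat.coprime_two_right.2 hodd)))
      rw [← hj]; exact pow_mem hsp j
    · intro x y _ _ _ hxD hyD hx2 hy2 _ w hw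
      have hy' := hxinv y hyD hy2 w hw
      set w' := y * w * y⁻¹
      have hx' := hxinv x hxD hx2 w' (hconj y w hw)
      have e : x * y * w * (x * y)⁻¹ * w⁻¹ =
          w'⁻¹ * (w' * (x * w' * x⁻¹)) * w' * (w'⁻¹ * w⁻¹) := by simp only [w']; group
      rw [e, show w'⁻¹ * w⁻¹ = (w * w')⁻¹ by group, mem_center_iff.1 hx' w'⁻¹, inv_mul_cancel_right]
      exact mul_mem hx' (inv_mem hy')

end CfsgLib.MinNonCA
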