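import Cfsg.Agent.MinNonCA.Simple
import Cfsg.Agent.MinNonCA.PSLCoord

/-!
# A group with CA proper subgroups and residual a central extension of `PSL(2, F)`

The action `Φ` on `PSL(2, F)` has kernel the centre, and an element of its image fixing a
non-trivial element `u w` is inner, by an element of the same root group.
-/

set_option autoImplicit false
set_option linter.style.haveILetI false
set_option linter.unusedSectionVars false

namespace CfsgLib.MinNonCA

open Subgroup CfsgLib.SL2Trace CfsgLib.DicksonPSL2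
open scoped MatrixGroups

universe u

/-- A proper-CA group whose residual covers `PSL(2, F)`. -/
structure PSLSetup (G : Type u) [Group G] (F : Type) [Field F] [Fintype F] where
  hprop : ∀ H : Subgroup G, H ≠ ⊤ → CAOn H
  hns : ¬ Group.IsSolvable G
  R : Subgroup G
  hRn : R.Normal
  hRp : Group.IsPerfect R
  π : R →* PSL(2, F)
  hπ : Function.Surjective π
  hker : π.ker = center R
  h4 : 4 ≤ Fintype.card F
  hU : Fintype.card F = 9 ∨
    ∀ a b : R, π a ∈ (upGroup : Subgroup PSL(2, F)) → π b ∈ (upGroup : Subgroup PSL(2, F)) →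
      Commute a b
  hK : Odd (Fintype.card F) → ∀ a b : R, π a ≠ 1 → π b ≠ 1 → π a ≠ π b →
    π a * π a = 1 → π b * π b = 1 → Commute (π a) (π b) → ¬ Commute a b

/-- An element of a perfect group lying centrally in an abelian subgroup of coprime index. -/
theorem eq_one_of_central_abelian {G : Type u} [Group G] [Finite G] [Group.IsPerfect G]
    (A : Subgroup G) (hab : AbOn A) {z : G} (hzA : z ∈ A) (hz : z ∈ center G) {n : ℕ}
    (hn : z ^ n = 1) (hcop : Nat.Coprime n A.index) : z = 1 := by
  letI : CommGroup A :=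
    { (inferInstance : Group A) with
      mul_comm := fun a b => Subtype.ext (hab a a.2 b b.2).eq }
  haveI : A.FiniteIndex := inferInstance
  let f : G →* A := MonoidHom.transfer (MonoidHom.id A)
  have key : ∀ (k : ℕ) (g₀ : G), g₀⁻¹ * z ^ k * g₀ ∈ A → g₀⁻¹ * z ^ k * g₀ = z ^ k := fun k g₀ _ => by
    rw [mem_center_iff.1 (pow_mem hz k) g₀⁻¹, inv_mul_cancel_right]
  have h1 := MonoidHom.transfer_eq_pow (MonoidHom.id A) z key
  have h2 : f z = 1 := by
    have hle : commutator G ≤ f.ker := by
      refine Subgroup.commutator_le.2 fun g _ k _ => MonoidHom.mem_ker.2 ?_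
      rw [map_commutatorElement, commutatorElement_eq_one_iff_mul_comm]
      exact mul_comm _ _
    exact hle (Group.IsPerfect.commutator_eq_top (G := G) ▸ mem_top z)
  have h3 : z ^ A.index = 1 := by
    have := congrArg Subtype.val (h1.symm.trans h2)
    simpa using this
  have h4 : z ^ Nat.gcd n A.index = 1 := pow_gcd_eq_one.2 ⟨hn, h3⟩
  rwa [Nat.Coprime.gcd_eq_one hcop, pow_one] at h4

namespace PSLSetup

variable {G : Type u} [Group G] [Finite G] {F : Type} [Field F] [Fintype F] (D : PSLSetup G F)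

include D in
theorem solvCA : SolvCA G := solvCA_of_proper D.hns D.hprop

theorem eq_one_iff (r : D.R) : D.π r = 1 ↔ r ∈ center D.R := by
  rw [← MonoidHom.mem_ker, D.hker]

theorem eq_iff (r r' : D.R) : D.π r = D.π r' ↔ r⁻¹ * r' ∈ center D.R := by
  rw [← D.eq_one_iff, map_mul, map_inv, inv_mul_eq_one]

theorem not_isSolvable : ¬ Group.IsSolvable D.R := fun hs => by
  haveI := D.hRp
  haveI : Nontrivial D.R := (D.hπ.nontrivial)
  exact (Group.IsSolvable.commutator_lt_top_of_nontrivial D.R).ne Group.IsPerfect.commutator_eq_top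

/-- The centraliser of `R` is the centre. -/
theorem mem_center_of_commute {c : G} (hc : ∀ r ∈ D.R, Commute c r) : c ∈ center G := by
  obtain ⟨Y, hYR, hYs, hY, hsup⟩ := exists_solvable_nonabelian D.not_isSolvable
  haveI := hYs
  refine mem_center_iff.2 fun g => ?_
  have hg : g ∈ normalizer (Y : Set G) ⊔ D.R := (hsup D.hRn).symm ▸ mem_top g
  have hle : normalizer (Y : Set G) ⊔ D.R ≤ centralizer ({c} : Set G) := by
    refine sup_le (fun n hn => mem_centralizer_singleton_iff.2 ?_)
      (fun r hr => mem_centralizer_singleton_iff.2 (hc r hr).symm.eq)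
    exact (commute_centralizer_normalizer D.solvCA hY
      (mem_centralizer_iff.2 fun y hy => (hc y (hYR hy)).symm.eq) hn).symm.eq
  exact mem_centralizer_singleton_iff.1 (hle hg)

theorem coe_mem_center {r : D.R} (hr : r ∈ center D.R) : (r : G) ∈ center G :=
  D.mem_center_of_commute fun s hs => (congrArg Subtype.val (mem_center_iff.1 hr ⟨s, hs⟩)).symm

/-- Conjugation on `R`. -/
def cj : G →* MulAut D.R :=
  haveI := D.hRn
  MulAut.conjNormal

theorem coe_cj (g : G) (r : D.R) : ((D.cj g r : D.R) : G) = g * r * g⁻¹ := by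
  haveI := D.hRn
  exact MulAut.conjNormal_apply g r

theorem π_cj_congr (g : G) {r r' : D.R} (h : D.π r = D.π r') :
    D.π (D.cj g r) = D.π (D.cj g r') := by
  rw [eq_iff, ← map_inv, ← map_mul]
  have hc : center D.R = (center D.R).map (D.cj g).toMonoidHom :=
    ((Subgroup.characteristic_iff_map_eq.1 inferInstance) (D.cj g)).symm
  rw [hc]
  exact mem_map_of_mem _ ((D.eq_iff r r').1 h)

/-- The automorphism of `PSL(2, F)` induced by an element. -/
noncomputable def act (g : G) (x : PSL(2, F)) : PSL(2, F) :=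
  D.π (D.cj g (Function.surjInv D.hπ x))

theorem act_π (g : G) (r : D.R) : D.act g (D.π r) = D.π (D.cj g r) :=
  D.π_cj_congr g (Function.surjInv_eq D.hπ _)

/-- The action on `PSL(2, F)`. -/
noncomputable def Φ : G →* MulAut PSL(2, F) where
  toFun g :=
    { toFun := D.act g
      invFun := D.act g⁻¹
      left_inv := fun x => by
        obtain ⟨r, rfl⟩ := D.hπ x
        rw [act_π, act_π, ← MulAut.mul_apply, ← map_mul, inv_mul_cancel, map_one, MulAut.one_apply]
      right_inv := fun x => by
        obtain ⟨r, rfl⟩ := D.hπ x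
        rw [act_π, act_π, ← MulAut.mul_apply, ← map_mul, mul_inv_cancel, map_one, MulAut.one_apply]
      map_mul' := fun x y => by
        obtain ⟨r, rfl⟩ := D.hπ x
        obtain ⟨s, rfl⟩ := D.hπ y
        rw [← map_mul, act_π, act_π, act_π, map_mul, map_mul] }
  map_one' := by
    ext x
    obtain ⟨r, rfl⟩ := D.hπ x
    show D.act 1 (D.π r) = D.π r
    rw [act_π, map_one, MulAut.one_apply]
  map_mul' g h := by
    ext x
    obtain ⟨r, rfl⟩ := D.hπ x
    show D.act (g * h) (D.π r) = D.act g (D.act h (D.π r))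
    rw [act_π, act_π, act_π, map_mul, MulAut.mul_apply]

theorem Φ_π (g : G) (r : D.R) : D.Φ g (D.π r) = D.π (D.cj g r) := D.act_π g r

theorem Φ_coe (r : D.R) : D.Φ (r : G) = MulAut.conj (D.π r) := by
  ext x
  obtain ⟨s, rfl⟩ := D.hπ x
  rw [Φ_π, MulAut.conj_apply, ← map_inv, ← map_mul, ← map_mul]
  exact congrArg D.π (Subtype.ext (D.coe_cj r s))

theorem Φ_of_center {z : G} (hz : z ∈ center G) : D.Φ z = 1 := by
  ext x
  obtain ⟨r, rfl⟩ := D.hπ x
  rw [Φ_π, MulAut.one_apply]
  refine congrArg D.π (Subtype.ext ?_)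
  rw [coe_cj, ← mem_center_iff.1 hz (r : G), mul_inv_cancel_right]

theorem mem_center_of_Φ {g : G} (hg : D.Φ g = 1) : g ∈ center G := by
  haveI := D.hRp
  have hc : ∀ r : D.R, D.cj g r * r⁻¹ ∈ center D.R := fun r => by
    rw [← D.eq_one_iff, map_mul, map_inv, ← Φ_π, hg, MulAut.one_apply, mul_inv_cancel]
  let φ : D.R →* center D.R :=
    { toFun := fun r => ⟨D.cj g r * r⁻¹, hc r⟩
      map_one' := Subtype.ext (by simp)
      map_mul' := fun r s => by
        apply Subtype.ext
        show D.cj g (r * s) * (r * s)⁻¹ = D.cj g r * r⁻¹ * (D.cj g s * s⁻¹)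
        rw [map_mul, _root_.mul_inv_rev, ← mul_assoc, mul_assoc (D.cj g r) (D.cj g s) s⁻¹,
          mul_assoc (D.cj g r) (D.cj g s * s⁻¹) r⁻¹, mul_assoc (D.cj g r) r⁻¹,
          mem_center_iff.1 (hc s) r⁻¹] }
  refine D.mem_center_of_commute fun r hr => ?_
  have hle : commutator D.R ≤ φ.ker := by
    refine Subgroup.commutator_le.2 fun a _ b _ => MonoidHom.mem_ker.2 ?_
    rw [map_commutatorElement, commutatorElement_eq_one_iff_mul_comm]
    exact Subtype.ext (mem_center_iff.1 (φ b).2 _)
  have h1 : φ ⟨r, hr⟩ = 1 := hle (Group.IsPerfect.commutator_eq_top (G := D.R) ▸ mem_top _)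
  have h2 : D.cj g ⟨r, hr⟩ = ⟨r, hr⟩ := mul_inv_eq_one.1 (congrArg Subtype.val h1)
  have h3 := congrArg Subtype.val h2
  rw [coe_cj] at h3
  exact mul_inv_eq_iff_eq_mul.1 h3

theorem Φ_eq_iff {g h : G} : D.Φ g = D.Φ h ↔ g⁻¹ * h ∈ center G := by
  refine ⟨fun e => D.mem_center_of_Φ (by rw [map_mul, map_inv, e, inv_mul_cancel]), fun hz => ?_⟩
  have := D.Φ_of_center hz
  rwa [map_mul, map_inv, inv_mul_eq_one] at this

/-- The commutator of two lifts does not depend on the lifts. -/
theorem commute_congr {a b a' b' : D.R} (ha : D.π a = D.π a') (hb : D.π b = D.π b')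
    (h : Commute a b) : Commute a' b' := by
  obtain ⟨z, hz, rfl⟩ : ∃ z ∈ center D.R, a' = a * z :=
    ⟨a⁻¹ * a', (D.eq_iff _ _).1 ha, by group⟩
  obtain ⟨w, hw, rfl⟩ : ∃ w ∈ center D.R, b' = b * w :=
    ⟨b⁻¹ * b', (D.eq_iff _ _).1 hb, by group⟩
  have hz' : ∀ x, Commute z x := fun x => (mem_center_iff.1 hz x).symm
  have hw' : ∀ x, Commute x w := fun x => mem_center_iff.1 hw x
  exact ((h.mul_right (hw' a)).mul_left ((hz' b).mul_right (hw' z)))

theorem not_commute_of_π {a b : D.R} (h : ¬ Commute (D.π a) (D.π b)) :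
    ¬ Commute (a : G) (b : G) := fun hc =>
  h ((show Commute a b from Subtype.ext hc.eq).map D.π)

theorem not_dvd_index_upGroup {p : ℕ} [Fact p.Prime] [CharP F p] :
    ¬ p ∣ ((upGroup : Subgroup PSL(2, F)).comap D.π).index := by
  rw [index_comap_of_surjective _ D.hπ]
  intro hdvd
  have h1 := (upGroup : Subgroup PSL(2, F)).card_mul_index
  rw [card_upGroup] at h1
  have h2 := Linear.card_PSL_two_mul (F := F)
  rw [← h1, ← mul_assoc, mul_comm (Nat.gcd 2 (Fintype.card F - 1)), mul_assoc] at h2
  have h3 := Nat.eq_of_mul_eq_mul_left Fintype.card_pos h2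
  obtain ⟨n, hp, hn⟩ := FiniteField.card F p
  have hpq : p ∣ Fintype.card F ^ 2 := (hn ▸ dvd_pow_self p n.ne_zero).trans (dvd_pow_self _ two_ne_zero)
  have hsub := Nat.dvd_sub hpq (h3 ▸ dvd_mul_of_dvd_right hdvd (Nat.gcd 2 (Fintype.card F - 1)))
  rw [Nat.sub_sub_self (Nat.one_le_pow _ _ Fintype.card_pos), Nat.dvd_one] at hsub
  exact hp.ne_one hsub

/-- An element of the image of `Φ` fixing some `u w`, `w ≠ 0`, is conjugation by some `u v`. -/
theorem eq_conj_u_of_fix {g : G} {w : F} (hw : w ≠ 0) (hg : D.Φ g (u w) = u w) :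
    ∃ v, D.Φ g = MulAut.conj (u v) := by
  classical
  haveI := D.hRn
  obtain ⟨h, σ, hβ⟩ := exists_semilinear (D.Φ g)
  obtain ⟨h10, hfix⟩ := semi_u_eq hw (hβ ▸ hg)
  obtain ⟨h00, h11⟩ := diag_ne_zero h10
  set a : F := h.1 0 0 / h.1 1 1 with ha
  have hact : ∀ v, D.Φ g (u v) = u (a * σ v) := fun v => by rw [hβ, semi_u h10]
  suffices hall : ∀ v, a * σ v = v by
    have ha1 : a = 1 := by simpa using hall 1
    have hσ : σ = 1 := RingEquiv.ext fun v => by simpa [ha1] using hall v
    refine ⟨h.1 0 1 / h.1 0 0, ?_⟩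
    rw [hβ, hσ]
    exact semi_eq_conj_u h10 ((div_eq_one_iff_eq h11).1 ha1)
  -- the preimage of the triangular group and its normaliser
  set Y0 : Subgroup D.R := (BP : Subgroup PSL(2, F)).comap D.π
  haveI : Group.IsSolvable (BP : Subgroup PSL(2, F)) := isSolvable_BP F
  haveI hY0s : Group.IsSolvable Y0 := by
    set f := D.π.subgroupComap (BP : Subgroup PSL(2, F))
    haveI : Group.IsSolvable f.ker := Group.isSolvable_of_comm fun x y => by
      refine Subtype.ext (Subtype.ext ?_)
      have hx : D.π ((x : Y0) : D.R) = 1 := congrArg Subtype.val (MonoidHom.mem_ker.1 x.2)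
      exact (mem_center_iff.1 ((D.eq_one_iff _).1 hx) _).symm
    exact Group.isSolvable_of_ker_le_range f.ker.subtype f (by rw [range_subtype])
  set Y : Subgroup G := Y0.map D.R.subtype
  haveI : Group.IsSolvable Y :=
    Group.isSolvable_of_surjective (f := D.R.subtype.subgroupMap Y0)
      (D.R.subtype.subgroupMap_surjective Y0)
  obtain ⟨d, hd, hchi⟩ := exists_chi_ne_one (F := F) D.h4
  obtain ⟨dl, hdl⟩ := D.hπ d
  have hlift : ∀ v : F, ∃ r : D.R, D.π r = u v := fun v => D.hπ _
  choose l hl using hlift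
  have hlY : ∀ v, (l v : G) ∈ Y := fun v =>
    mem_map_of_mem _ (show D.π (l v) ∈ BP by rw [hl]; exact u_mem_BP v)
  have hdY : (dl : G) ∈ Y := mem_map_of_mem _ (show D.π dl ∈ BP by rw [hdl]; exact hd)
  have hnc : ¬ Commute ((l w : D.R) : G) (dl : G) := D.not_commute_of_π fun hc => by
    rw [hl, hdl] at hc
    have h2 := conj_u hd w
    rw [← hc.eq, mul_inv_cancel_right] at h2
    exact hchi (mul_right_cancel₀ hw (by linear_combination -(u_injective h2)))
  set H := normalizer (Y : Set G)
  haveI : Group.IsSolvable H :=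
    isSolvable_normalizer D.solvCA fun hab => hnc (hab _ (hlY w) _ hdY)
  have hgH : g ∈ H := by
    refine mem_normalizer_iff.2 fun y => ?_
    have hY : ∀ r : D.R, (r : G) ∈ Y ↔ D.π r ∈ BP := fun r =>
      ⟨fun ⟨s, hs, e⟩ => Subtype.ext e ▸ hs, fun hr => mem_map_of_mem _ hr⟩
    constructor
    · rintro ⟨r, hr, rfl⟩
      show g * (r : G) * g⁻¹ ∈ Y
      rw [← D.coe_cj g r, hY, ← Φ_π, hβ]
      exact semi_mem_BP h10 σ hr
    · rintro hy
      obtain ⟨s, hs, e⟩ := hy
      have hyR : y ∈ D.R := by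
        have := D.hRn.conj_mem _ s.2 g⁻¹
        have e' : (s : G) = g * y * g⁻¹ := e
        rw [e'] at this
        simpa [mul_assoc] using this
      refine (hY ⟨y, hyR⟩).2 ?_
      have hsy : D.cj g ⟨y, hyR⟩ = s := Subtype.ext ((D.coe_cj _ _).trans e.symm)
      have h1 : D.Φ g (D.π ⟨y, hyR⟩) ∈ BP := by rw [Φ_π, hsy]; exact hs
      -- `Φ g` permutes the triangular group
      have hmap : (BP : Subgroup PSL(2, F)).map (D.Φ g).toMonoidHom = BP := by
        refine eq_of_le_of_card_ge ?_ (le_of_eq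
          (card_map_of_injective (D.Φ g).injective).symm)
        rintro _ ⟨x, hx, rfl⟩
        show D.Φ g x ∈ BP
        rw [hβ]; exact semi_mem_BP h10 σ hx
      rw [← hmap] at h1
      obtain ⟨x, hx, ex⟩ := h1
      exact (D.Φ g).injective ex ▸ hx
  have hH : ∀ v, (l v : G) ∈ H := fun v => le_normalizer (hlY v)
  have key : ∀ {x y : G}, x ∈ H → y ∈ H → Commute ((l w : D.R) : G) x →
      Commute ((l w : D.R) : G) y → Commute x y := fun hx hy =>
    D.solvCA.commute_of_commute (hH w) (le_normalizer hdY) hnc hx hy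
  by_cases hall : ∀ v, Commute (l v) (l w)
  · -- all lifts of the root group commute
    have hab : ∀ a' b' : D.R, D.π a' ∈ (upGroup : Subgroup PSL(2, F)) →
        D.π b' ∈ (upGroup : Subgroup PSL(2, F)) → Commute a' b' := by
      rintro a' b' ⟨x, hx⟩ ⟨y, hy⟩
      refine D.commute_congr (a := l x) (b := l y) ((hl x).trans hx) ((hl y).trans hy) ?_
      exact Subtype.ext (key (hH x) (hH y) ((hall x).symm.map D.R.subtype)
        ((hall y).symm.map D.R.subtype)).eq
    obtain ⟨p, hp⟩ := CharP.exists F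
    haveI : Fact p.Prime := ⟨CharP.char_is_prime F p⟩
    haveI := D.hRp
    set ζ := D.cj g (l w) * (l w)⁻¹ with hζdef
    have hζ : ζ ∈ center D.R := by
      rw [← D.eq_one_iff, hζdef, map_mul, map_inv, ← Φ_π, hl, hg, mul_inv_cancel]
    have hwp : l w ^ p ∈ center D.R := by
      rw [← D.eq_one_iff, map_pow, hl]
      by_contra hne
      exact not_isTor_u w ((isTor_iff_pow p _).2 hne)
    have hζp : ζ ^ p = 1 := by
      have e1 : D.cj g (l w ^ p) = l w ^ p := Subtype.ext (by
        rw [coe_cj, mem_center_iff.1 (D.coe_mem_center hwp) g, mul_inv_cancel_right])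
      have e2 : D.cj g (l w) = ζ * l w := by rw [hζdef, inv_mul_cancel_right]
      rw [map_pow, e2, (show Commute ζ (l w) from (mem_center_iff.1 hζ _).symm).mul_pow] at e1
      exact mul_right_cancel (e1.trans (one_mul _).symm)
    have hζ1 : ζ = 1 := by
      refine eq_one_of_central_abelian ((upGroup : Subgroup PSL(2, F)).comap D.π)
        (fun x hx y hy => hab x y hx hy)
        (mem_comap.2 (by rw [(D.eq_one_iff ζ).2 hζ]; exact one_mem _)) hζ hζp ?_
      exact (Fact.out : p.Prime).coprime_iff_not_dvd.2 D.not_dvd_index_upGroup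
    have hgw : Commute ((l w : D.R) : G) g := by
      have h3 := congrArg Subtype.val (mul_inv_eq_one.1 hζ1)
      rw [coe_cj] at h3
      exact (mul_inv_eq_iff_eq_mul.1 h3).symm
    intro v
    have hgv := key hgH (hH v) hgw ((hall v).symm.map D.R.subtype)
    refine u_injective ?_
    rw [← hact, ← hl v, Φ_π]
    exact congrArg D.π (Subtype.ext (by rw [coe_cj, hgv.eq, mul_inv_cancel_right]))
  · -- otherwise `q = 9`
    have h9 : Fintype.card F = 9 := D.hU.resolve_right fun hU => hall fun v =>
      hU _ _ (by rw [hl]; exact ⟨v, rfl⟩) (by rw [hl]; exact ⟨w, rfl⟩)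
    haveI h3 : CharP F 3 := by
      obtain ⟨p, hp⟩ := CharP.exists F
      obtain ⟨n, hpp, hn⟩ := FiniteField.card F p
      have hd : p ∣ 3 ^ 2 := by
        rw [show (3 : ℕ) ^ 2 = Fintype.card F by rw [h9]; norm_num, hn]
        exact dvd_pow_self p n.ne_zero
      rwa [← (Nat.prime_dvd_prime_iff_eq hpp Nat.prime_three).1 (hpp.dvd_of_dvd_pow hd)]
    let C : AddSubgroup F :=
      { carrier := {v | Commute (l v) (l w)}
        zero_mem' := by
          refine D.commute_congr (a := 1) (b := l w) ?_ rfl (Commute.one_left _)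
          rw [map_one, hl, u_zero]
        add_mem' := fun {x y} hx hy => by
          refine D.commute_congr (a := l x * l y) (b := l w) ?_ rfl (Commute.mul_left hx hy)
          rw [map_mul, hl, hl, hl, u_add]
        neg_mem' := fun {x} hx => by
          refine D.commute_congr (a := (l x)⁻¹) (b := l w) ?_ rfl (Commute.inv_left hx)
          rw [map_inv, hl, hl, u_neg] }
    have hCw : w ∈ C := Commute.refl _
    have hC3 : Nat.card C = 3 := by
      have hne : C ≠ ⊤ := fun e => hall fun v => (e.symm ▸ AddSubgroup.mem_top v : v ∈ C)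
      have h1 := C.card_mul_index
      rw [Nat.card_eq_fintype_card (α := F), h9] at h1
      have h2 : Nat.card C ≠ 1 := fun e => hw (by
        have := AddSubgroup.eq_bot_of_card_eq C e
        rw [this] at hCw
        exact AddSubgroup.mem_bot.1 hCw)
      have h3 : C.index ≠ 1 := fun e => hne (AddSubgroup.index_eq_one.1 e)
      have : Nat.card C ∣ 3 ^ 2 := ⟨C.index, h1.symm⟩
      obtain ⟨i, hi, e⟩ := (Nat.dvd_prime_pow Nat.prime_three).1 this
      interval_cases i <;> simp_all
    have hmul : ∀ c ∈ C, ∃ k : ℕ, c = k • w := by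
      intro c hc
      haveI : Fact (Nat.Prime 3) := ⟨Nat.prime_three⟩
      have hord : addOrderOf w = 3 := addOrderOf_eq_prime (by
        rw [nsmul_eq_mul, CharP.cast_eq_zero, zero_mul]) hw
      have hle : AddSubgroup.zmultiples w ≤ C := AddSubgroup.zmultiples_le_of_mem hCw
      have heq : AddSubgroup.zmultiples w = C := AddSubgroup.eq_of_le_of_card_ge hle (by
        rw [Nat.card_zmultiples, hord, hC3])
      rw [← heq] at hc
      obtain ⟨k, hk⟩ := (mem_multiples_iff_mem_zmultiples (G := F) (x := w) (y := c)).2 hc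
      exact ⟨k, hk.symm⟩
    set f : F → F := fun v => a * σ v with hf
    have hfw : f w = w := by
      have e := hg
      rw [hact] at e
      exact u_injective e
    -- `f v - v` commutes with `w`
    have hdiff : ∀ v, f v - v ∈ C := by
      intro v
      set E := D.cj g
      set z := l v * l w * (l v)⁻¹ * (l w)⁻¹ with hz
      have hzc : z ∈ center D.R := by
        rw [← D.eq_one_iff, hz, map_mul, map_mul, map_mul, map_inv, map_inv, hl, hl,
          ← u_neg, ← u_neg, ← u_add, ← u_add, ← u_add]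
        rw [show v + w + -v + -w = (0 : F) by ring, u_zero]
      have hEz : E z = z := Subtype.ext (by
        rw [coe_cj, mem_center_iff.1 (D.coe_mem_center hzc) g, mul_inv_cancel_right])
      obtain ⟨c₁, hc₁, e₁⟩ : ∃ c ∈ center D.R, E (l v) = l (f v) * c :=
        ⟨(l (f v))⁻¹ * E (l v), (D.eq_iff _ _).1 (by rw [hl, ← Φ_π, hl, hact]), by group⟩
      obtain ⟨c₂, hc₂, e₂⟩ : ∃ c ∈ center D.R, E (l w) = l w * c :=
        ⟨(l w)⁻¹ * E (l w), (D.eq_iff _ _).1 (by rw [← Φ_π, hl, hg]), by group⟩
      have hEz' : l (f v) * l w * (l (f v))⁻¹ * (l w)⁻¹ = z := by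
        rw [← hEz, hz, map_mul, map_mul, map_mul, map_inv, map_inv, e₁, e₂]
        have k1 : Commute c₁ (l w * c₂) := (mem_center_iff.1 hc₁ _).symm
        calc l (f v) * l w * (l (f v))⁻¹ * (l w)⁻¹
            = l (f v) * (l w * c₂) * (c₂⁻¹ * (l (f v))⁻¹) * (l w)⁻¹ := by group
          _ = l (f v) * (l w * c₂) * ((l (f v))⁻¹ * c₂⁻¹) * (l w)⁻¹ := by
              rw [mem_center_iff.1 (inv_mem hc₂) ((l (f v))⁻¹)]
          _ = l (f v) * ((l w * c₂) * c₁) * c₁⁻¹ * (l (f v))⁻¹ * (l w * c₂)⁻¹ := by
              rw [_root_.mul_inv_rev (l w) c₂]; group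
          _ = _ := by rw [← k1.eq]; group
      refine D.commute_congr (a := l (f v) * (l v)⁻¹) (b := l w) ?_ rfl ?_
      · rw [map_mul, map_inv, hl, hl, hl, ← u_neg, ← u_add, sub_eq_add_neg]
      · have e1 : l (f v) * l w * (l (f v))⁻¹ = z * l w := by rw [← hEz']; group
        have e2 : l v * l w * (l v)⁻¹ = z * l w := by rw [hz]; group
        have e3 : (l v)⁻¹ * (z * l w) * l v = l w := by rw [← e2]; group
        refine mul_inv_eq_iff_eq_mul.1 ?_
        calc l (f v) * (l v)⁻¹ * l w * (l (f v) * (l v)⁻¹)⁻¹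
            = l (f v) * ((l v)⁻¹ * (z * l w) * l v * z⁻¹) * (l (f v))⁻¹ := by
              rw [show (l v)⁻¹ * (z * l w) * l v * z⁻¹ = (l v)⁻¹ * ((z * l w) * l v * z⁻¹) by group,
                mem_center_iff.1 (inv_mem hzc) ((z * l w) * l v),
                mul_assoc z (l w) (l v), inv_mul_cancel_left]
              group
          _ = l (f v) * (l w * z⁻¹) * (l (f v))⁻¹ := by rw [e3]
          _ = l (f v) * l w * (l (f v))⁻¹ * z⁻¹ := by
              rw [← mul_assoc, mul_assoc (l (f v) * l w),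
                ← mem_center_iff.1 (inv_mem hzc) (l (f v))⁻¹]
              group
          _ = l w := by rw [e1, ← mem_center_iff.1 hzc (l w), mul_inv_cancel_right]
    have hfix : ∀ k : ℕ, f (k • w) = k • w := fun k => by
      simp only [hf, map_nsmul, mul_smul_comm]
      exact congrArg (k • ·) hfw
    have hf3 : ∀ v, f (f (f v)) = v := by
      intro v
      obtain ⟨k, hk⟩ := hmul _ (hdiff v)
      have e1 : f v = v + k • w := by rw [← hk]; ring
      have hadd : ∀ x y, f (x + y) = f x + f y := fun x y => by simp only [hf, map_add, mul_add]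
      rw [e1, hadd, hfix, e1, hadd, hadd, hfix, e1]
      have h30 : ((3 : ℕ) : F) = 0 := CharP.cast_eq_zero F 3
      push_cast at h30
      simp only [nsmul_eq_mul]
      linear_combination (k : F) * w * h30
    have hσ2 : ∀ x, σ (σ x) = x := fun x =>
      congrArg (fun τ : F ≃+* F => τ x) (sq_ringAut_of_nine h9 σ)
    have haw : a * σ w = w := hfw
    intro v
    have e := hf3 v
    have e' := hf3 w
    simp only [hf, map_mul, hσ2] at e e'
    have hone : a * σ a = 1 := mul_right_cancel₀ hw (by linear_combination e' - a * σ a * haw)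
    linear_combination e - a * σ v * hone

end PSLSetup

end CfsgLib.MinNonCA
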