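import Cfsg.Agent.MinNonCA.RadicalSolvable

/-!
# Normalisers of non-abelian solvable subgroups are solvable

Consequences: a perfect group with CA solvable subgroups is simple modulo its centre, and in
general the centraliser of the solvable residual is the centre.
-/

set_option autoImplicit false
set_option linter.style.haveILetI false

namespace CfsgLib.MinNonCA

open Subgroup

universe u

variable {G : Type u} [Group G]

theorem SolvCA.commute_of_commute (h : SolvCA G) {H : Subgroup G} [Group.IsSolvable H]
    {x y a b : G} (hx : x ∈ H) (hy : y ∈ H) (hxy : ¬ Commute x y) (ha : a ∈ H) (hb : b ∈ H)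
    (hxa : Commute x a) (hxb : Commute x b) : Commute a b :=
  h H ‹_› x hx y hy hxy a ha b hb hxa hxb

theorem exists_not_commute {H : Subgroup G} (h : ¬ AbOn H) :
    ∃ x ∈ H, ∃ y ∈ H, ¬ Commute x y := by
  unfold AbOn at h
  push Not at h
  exact h

/-- Two commuting solvable subgroups are not both non-abelian. -/
theorem abOn_or_abOn (h : SolvCA G) {Y₁ Y₂ : Subgroup G} [Group.IsSolvable Y₁]
    [Group.IsSolvable Y₂] (hc : ∀ a ∈ Y₁, ∀ b ∈ Y₂, Commute a b) : AbOn Y₁ ∨ AbOn Y₂ := by
  refine or_iff_not_imp_right.2 fun h2 a ha b hb => ?_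
  obtain ⟨x, hx, y, hy, hxy⟩ := exists_not_commute h2
  haveI : Group.IsSolvable (Y₁ ⊔ Y₂ : Subgroup G) := isSolvable_sup fun g hg =>
    centralizer_le_normalizer _ (mem_centralizer_iff.2 fun b hb => (hc g hg b hb).symm.eq)
  exact h.commute_of_commute (mem_sup_right hx) (mem_sup_right hy) hxy (mem_sup_left ha)
    (mem_sup_left hb) (hc a ha x hx).symm (hc b hb x hx).symm

/-- The solvable residual. -/
theorem exists_perfect_normal [Finite G] :
    ∃ (E : Subgroup G) (_ : E.Normal), Group.IsPerfect E ∧ Group.IsSolvable (G ⧸ E) ∧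
      ∀ D : Subgroup G, ∀ _ : D.Normal, Group.IsSolvable (G ⧸ D) → E ≤ D := by
  obtain ⟨n, hn⟩ : ∃ n, derivedSeries G n = derivedSeries G (n + 1) := by
    obtain ⟨W, ⟨n, rfl⟩, hmin⟩ := exists_min_not_le (fun V => ∃ n, V = derivedSeries G n)
      (A := derivedSeries G 0) ⟨0, rfl⟩
    exact ⟨n, by_contra fun hne => hmin _ ⟨n + 1, rfl⟩
      (lt_of_le_of_ne (derivedSeries_antitone G n.le_succ) fun e => hne e.symm)⟩
  refine ⟨derivedSeries G n, inferInstance, ⟨?_⟩, ?_, fun D hD hsol => ?_⟩
  · refine map_injective (derivedSeries G n).subtype_injective ?_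
    rw [map_subtype_commutator, ← derivedSeries_succ, ← hn, ← MonoidHom.range_eq_map, range_subtype]
  · refine (Group.isSolvable_def _).2 ⟨n, ?_⟩
    rw [← map_derivedSeries_eq (QuotientGroup.mk'_surjective _) n]
    exact QuotientGroup.map_mk'_self _
  · obtain ⟨m, hm⟩ := (Group.isSolvable_def _).1 hsol
    have hle : derivedSeries G m ≤ D := by
      have h1 := map_derivedSeries_le_derivedSeries (QuotientGroup.mk' D) m
      rw [hm, map_le_iff_le_comap] at h1
      rwa [MonoidHom.comap_bot, QuotientGroup.ker_mk'] at h1
    have hst : ∀ k, derivedSeries G n ≤ derivedSeries G k := by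
      intro k
      induction k with
      | zero => simp
      | succ k ih =>
        rw [hn, derivedSeries_succ, derivedSeries_succ]
        exact commutator_mono ih ih
    exact (hst m).trans hle

/-- A solvable normal subgroup commutes with a perfect normal subgroup. -/
theorem commute_perfect_normal [Finite G] (h : SolvCA G) (E Y : Subgroup G) [hEn : E.Normal]
    [Group.IsPerfect E] [Y.Normal] [Group.IsSolvable Y] : ∀ y ∈ Y, ∀ e ∈ E, Commute e y := by
  have hE := h.comap E.subtype E.subtype_injective
  haveI : (Y.subgroupOf E).Normal := inferInstance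
  haveI : Group.IsSolvable (Y.subgroupOf E) :=
  Group.isSolvable_of_isSolvable_injective (f := (E.subtype.subgroupComap Y))
    fun a b hab => Subtype.ext (Subtype.ext (congrArg Subtype.val hab :))
  have hYE := solvable_normal_le_center hE (Y.subgroupOf E)
  intro y hy
  let c : E → E := fun e => ⟨(e : G) * y * (e : G)⁻¹ * y⁻¹,
    by
      have := mul_mem e.2 (hEn.conj_mem _ (inv_mem e.2) y)
      simpa [mul_assoc] using this⟩
  have hc : ∀ e, c e ∈ center E := fun e => hYE (mem_subgroupOf.2
    (mul_mem ((inferInstance : Y.Normal).conj_mem y hy e) (inv_mem hy)))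
  have hmul : ∀ e f, c (e * f) = c e * c f := by
    intro e f
    have h1 := mem_center_iff.1 (hc f) e
    have h2 : c (e * f) = e * c f * (e⁻¹ * c e) := by
      apply Subtype.ext
      simp only [c, coe_mul, coe_inv]
      group
    rw [h2, h1, mul_assoc, mul_inv_cancel_left, mem_center_iff.1 (hc e) (c f)]
  let φ : E →* center E :=
    { toFun := fun e => ⟨c e, hc e⟩
      map_one' := Subtype.ext (Subtype.ext (by simp [c]))
      map_mul' := fun e f => Subtype.ext (hmul e f) }
  intro e he
  have hle : commutator E ≤ φ.ker := by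
    refine Subgroup.commutator_le.2 fun g _ k _ => MonoidHom.mem_ker.2 ?_
    rw [map_commutatorElement, commutatorElement_eq_one_iff_mul_comm]
    exact Subtype.ext (mem_center_iff.1 (φ k).2 _)
  have h1 : φ ⟨e, he⟩ = 1 :=
    hle (Group.IsPerfect.commutator_eq_top (G := E) ▸ mem_top (⟨e, he⟩ : E))
  have h2 : e * y * e⁻¹ * y⁻¹ = 1 := congrArg (fun z : center E => (((z : E)) : G)) h1
  exact mul_inv_eq_iff_eq_mul.1 (mul_inv_eq_one.1 h2)

/-- A group with CA solvable subgroups and a non-abelian solvable normal subgroup is solvable. -/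
theorem isSolvable_of_normal_nonabelian [Finite G] (h : SolvCA G) {Y : Subgroup G} [Y.Normal]
    [Group.IsSolvable Y] (hY : ¬ AbOn Y) : Group.IsSolvable G := by
  by_contra hns
  obtain ⟨E, hEn, hEp, hEq, -⟩ := exists_perfect_normal (G := G)
  haveI := hEp
  haveI := hEn
  have hEns : ¬ Group.IsSolvable E := fun hs =>
    hns ((Group.isSolvable_iff_subgroup_quotient E).2 ⟨hs, hEq⟩)
  have hcomm := commute_perfect_normal h E Y
  obtain ⟨Y', hY'E, hY's, hY'na, -⟩ := exists_solvable_nonabelian hEns
  haveI := hY's
  exact (abOn_or_abOn h fun a ha b hb => hcomm b hb a (hY'E ha)).elim hY'na hY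

/-- A group with a solvable normal subgroup whose centraliser is solvable is solvable. -/
theorem isSolvable_of_normal_centralizer [Finite G] (h : SolvCA G) {V : Subgroup G} [V.Normal]
    [Group.IsSolvable V] (hC : Group.IsSolvable (centralizer (V : Set G))) :
    Group.IsSolvable G := by
  obtain ⟨E, hEn, hEp, hEq, -⟩ := exists_perfect_normal (G := G)
  haveI := hEp
  have hle : E ≤ centralizer (V : Set G) := fun e he =>
    mem_centralizer_iff.2 fun v hv => (commute_perfect_normal h E V v hv e he).symm.eq
  haveI := hC
  exact (Group.isSolvable_iff_subgroup_quotient E).2 ⟨isSolvable_of_le hle, hEq⟩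

/-- The normaliser of a solvable subgroup with solvable centraliser is solvable. -/
theorem isSolvable_normalizer_of_centralizer [Finite G] (h : SolvCA G) {V : Subgroup G}
    [Group.IsSolvable V] (hC : Group.IsSolvable (centralizer (V : Set G))) :
    Group.IsSolvable (normalizer (V : Set G)) := by
  set N := normalizer (V : Set G)
  haveI : (V.subgroupOf N).Normal := normal_subgroupOf_of_le_normalizer le_rfl
  haveI : Group.IsSolvable (V.subgroupOf N) :=
    Group.isSolvable_of_isSolvable_injective
      (f := (subgroupOfEquivOfLe (le_normalizer : V ≤ N)).toMonoidHom) (MulEquiv.injective _)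
  haveI := hC
  have hle : (centralizer (V.subgroupOf N : Set N)).map N.subtype ≤ centralizer (V : Set G) := by
    rintro _ ⟨c, hc, rfl⟩
    exact mem_centralizer_iff.2 fun v hv => congrArg Subtype.val
      (mem_centralizer_iff.1 hc ⟨v, le_normalizer hv⟩ (mem_subgroupOf.2 hv))
  haveI := isSolvable_of_le hle
  exact isSolvable_of_normal_centralizer (h.comap N.subtype N.subtype_injective)
    (Group.isSolvable_of_isSolvable_injective
      (f := ((centralizer (V.subgroupOf N : Set N)).equivMapOfInjective N.subtype
        N.subtype_injective).toMonoidHom) (MulEquiv.injective _))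

/-- Normalisers of non-abelian solvable subgroups are solvable. -/
theorem isSolvable_normalizer [Finite G] (h : SolvCA G) {Y : Subgroup G} [Group.IsSolvable Y]
    (hY : ¬ AbOn Y) : Group.IsSolvable (normalizer (Y : Set G)) := by
  haveI : (Y.subgroupOf (normalizer (Y : Set G))).Normal :=
    normal_subgroupOf_of_le_normalizer le_rfl
  haveI : Group.IsSolvable (Y.subgroupOf (normalizer (Y : Set G))) :=
    Group.isSolvable_of_isSolvable_injective
      (f := (subgroupOfEquivOfLe (le_normalizer : Y ≤ normalizer (Y : Set G))).toMonoidHom)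
      (MulEquiv.injective _)
  refine isSolvable_of_normal_nonabelian (h.comap _ (subtype_injective _))
    (Y := Y.subgroupOf (normalizer (Y : Set G))) fun hab => hY fun a ha b hb => ?_
  have := hab ⟨a, le_normalizer ha⟩ (mem_subgroupOf.2 ha) ⟨b, le_normalizer hb⟩ (mem_subgroupOf.2 hb)
  exact this.map (normalizer (Y : Set G)).subtype

/-- The centraliser of a non-abelian solvable subgroup is central in its normaliser. -/
theorem commute_centralizer_normalizer [Finite G] (h : SolvCA G) {Y : Subgroup G}
    [Group.IsSolvable Y] (hY : ¬ AbOn Y) {c n : G} (hc : c ∈ centralizer (Y : Set G))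
    (hn : n ∈ normalizer (Y : Set G)) : Commute c n := by
  haveI := isSolvable_normalizer h hY
  by_contra hcn
  exact hY fun a ha b hb => h.commute_of_commute (centralizer_le_normalizer _ hc) hn hcn
    (le_normalizer ha) (le_normalizer hb) (mem_centralizer_iff.1 hc a ha).symm
    (mem_centralizer_iff.1 hc b hb).symm

/-- A perfect group with CA solvable subgroups is simple modulo its centre. -/
theorem normal_le_center_or_top [Finite G] [Group.IsPerfect G] (h : SolvCA G) (M : Subgroup G)
    [M.Normal] : M ≤ center G ∨ M = ⊤ := by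
  refine or_iff_not_imp_right.2 fun hne => ?_
  by_contra hMZ
  have hns : ¬ Group.IsSolvable M := fun hs => hMZ (haveI := hs; solvable_normal_le_center h M)
  obtain ⟨Y, -, hYs, hYna, hYt⟩ := exists_solvable_nonabelian hns
  haveI := hYs
  haveI := isSolvable_normalizer h hYna
  let f : normalizer (Y : Set G) →* G ⧸ M := (QuotientGroup.mk' M).comp (Subgroup.subtype _)
  have hsur : Function.Surjective f := by
    intro q
    obtain ⟨g, rfl⟩ := QuotientGroup.mk'_surjective M q
    have hg : g ∈ normalizer (Y : Set G) ⊔ M := hYt inferInstance ▸ mem_top g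
    obtain ⟨a, ha, b, hb, rfl⟩ := mem_sup_of_normal_right.1 hg
    exact ⟨⟨a, ha⟩, QuotientGroup.eq.2 (by simpa using hb)⟩
  haveI := Group.isSolvable_of_surjective hsur
  haveI : Group.IsPerfect (G ⧸ M) := inferInstance
  haveI : Nontrivial (G ⧸ M) := QuotientGroup.nontrivial_iff.2 hne
  exact (Group.IsSolvable.commutator_lt_top_of_nontrivial (G ⧸ M)).ne
    Group.IsPerfect.commutator_eq_top

theorem center_ne_top [Group.IsPerfect G] [Nontrivial G] : center G ≠ ⊤ := fun ht => by
  haveI : Group.IsSolvable G :=
    Group.isSolvable_of_comm fun a b => (mem_center_iff.1 (ht ▸ mem_top b : b ∈ center G) a)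
  exact (Group.IsSolvable.commutator_lt_top_of_nontrivial G).ne Group.IsPerfect.commutator_eq_top

theorem isSimpleGroup_quotient_center [Finite G] [Group.IsPerfect G] [Nontrivial G]
    (h : SolvCA G) : IsSimpleGroup (G ⧸ center G) := by
  haveI : Nontrivial (G ⧸ center G) := QuotientGroup.nontrivial_iff.2 center_ne_top
  refine ⟨fun N hN => ?_⟩
  rcases normal_le_center_or_top h (N.comap (QuotientGroup.mk' (center G))) with h1 | h1
  · refine Or.inl (eq_bot_iff.2 fun q hq => ?_)
    obtain ⟨g, rfl⟩ := QuotientGroup.mk'_surjective (center G) q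
    exact mem_bot.2 ((QuotientGroup.eq_one_iff g).2 (h1 hq))
  · refine Or.inr (eq_top_iff.2 fun q _ => ?_)
    obtain ⟨g, rfl⟩ := QuotientGroup.mk'_surjective (center G) q
    exact (h1 ▸ mem_top g : g ∈ N.comap (QuotientGroup.mk' (center G)))

end CfsgLib.MinNonCA
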