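import Cfsg.Agent.MinNonCA.Fusion

/-!
# Non-abelian Sylow 2-subgroups: elementary lemmas
-/

set_option autoImplicit false
set_option linter.style.haveILetI false
set_option linter.unusedSectionVars false

namespace CfsgLib.MinNonCA

open Subgroup

universe u

variable {G : Type u} [Group G] [Finite G] [Group.IsPerfect G]

theorem abOn_of_conj {H K : Subgroup G} (g : G) (hK : ∀ x ∈ K, g * x * g⁻¹ ∈ H) (hH : AbOn H) :
    AbOn K := fun a ha b hb => by
  have h := (hH _ (hK a ha) _ (hK b hb)).eq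
  refine mul_left_cancel (a := g) (mul_right_cancel (b := g⁻¹) ?_)
  calc g * (a * b) * g⁻¹ = g * a * g⁻¹ * (g * b * g⁻¹) := by group
    _ = g * b * g⁻¹ * (g * a * g⁻¹) := h
    _ = g * (b * a) * g⁻¹ := by group

theorem not_abOn_sylow (S S' : Sylow 2 G) (hna : ¬ AbOn (S : Subgroup G)) :
    ¬ AbOn (S' : Subgroup G) := by
  haveI : Fact (Nat.Prime 2) := ⟨Nat.prime_two⟩
  obtain ⟨g, hg⟩ := MulAction.exists_smul_eq G S S'
  refine fun hab => hna (abOn_of_conj g (fun x hx => ?_) hab)
  rw [← hg, Sylow.coe_subgroup_smul]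
  exact ⟨x, hx, rfl⟩

theorem exists_not_commute_sylow (h : SolvCA G) (S : Sylow 2 G) (hna : ¬ AbOn (S : Subgroup G))
    {s : G} (hs : s ∈ S) (hsZ : s ∉ center G) : ∃ y ∈ (S : Subgroup G), ¬ Commute s y := by
  by_contra hcon
  push Not at hcon
  exact hsZ (center_sylow_le_center h S hna hs hcon)

/-- Centralisers in `S` of non-central elements are abelian. -/
theorem commute_in_sylow (h : SolvCA G) (S : Sylow 2 G) (hna : ¬ AbOn (S : Subgroup G))
    {x a b : G} (hx : x ∈ S) (hxZ : x ∉ center G) (ha : a ∈ S) (hb : b ∈ S) (hxa : Commute x a)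
    (hxb : Commute x b) : Commute a b := by
  haveI := isSolvable_sylow S
  obtain ⟨y, hy, hxy⟩ := exists_not_commute_sylow h S hna hx hxZ
  exact h.commute_of_commute hx hy hxy ha hb hxa hxb

/-- If a commutator of two non-commuting elements of `S` is central, their squares are central. -/
theorem sq_mem_center_of_comm (h : SolvCA G) (S : Sylow 2 G) (hna : ¬ AbOn (S : Subgroup G))
    {x y : G} (hx : x ∈ S) (hy : y ∈ S) (hc : x * y * x⁻¹ * y⁻¹ ∈ center G)
    (hne : ¬ Commute x y) : x ^ 2 ∈ center G := by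
  classical
  haveI := isSolvable_sylow S
  set c := x * y * x⁻¹ * y⁻¹ with hcdef
  have hcS : c ∈ (S : Subgroup G) := mul_mem (mul_mem (mul_mem hx hy) (inv_mem hx)) (inv_mem hy)
  have hcc : ∀ g, Commute g c := fun g => mem_center_iff.1 hc g
  have key : ∀ k : ℕ, x ^ k * y * (x ^ k)⁻¹ = c ^ k * y := by
    intro k
    induction k with
    | zero => simp
    | succ k ih =>
      calc x ^ (k + 1) * y * (x ^ (k + 1))⁻¹ = x * (x ^ k * y * (x ^ k)⁻¹) * x⁻¹ := by
            rw [pow_succ']; group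
        _ = x * c ^ k * y * x⁻¹ := by rw [ih]; group
        _ = c ^ k * x * y * x⁻¹ := by rw [((hcc x).pow_right k).eq]
        _ = c ^ (k + 1) * y := by rw [pow_succ, hcdef]; group
  have hcomm : ∀ k : ℕ, c ^ k = 1 → Commute (x ^ k) y := fun k hk => by
    have := key k
    rw [hk, one_mul] at this
    exact mul_inv_eq_iff_eq_mul.1 this
  have hex : ∃ e, c ^ 2 ^ e = 1 := two_element S hcS
  obtain ⟨e, he⟩ : ∃ e, Nat.find hex = e + 1 := by
    refine ⟨Nat.find hex - 1, ?_⟩
    have : Nat.find hex ≠ 0 := fun e0 => hne (by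
      have h1 := Nat.find_spec hex
      rw [e0, pow_zero, pow_one] at h1
      have := hcomm 1 (by rw [pow_one, h1])
      rwa [pow_one] at this)
    omega
  have hspec : c ^ 2 ^ (e + 1) = 1 := he ▸ Nat.find_spec hex
  rcases Nat.eq_zero_or_pos e with rfl | hpos
  · by_contra hx2
    exact hne (commute_in_sylow h S hna (pow_mem hx 2) hx2 hx hy ((Commute.refl x).pow_left 2)
      (hcomm 2 (by simpa using hspec)))
  exfalso
  have hw : c ^ 2 ^ e ≠ 1 := Nat.find_min hex (by omega)
  have hwy : x ^ 2 ^ e ∉ center G := fun hz => hw (by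
    have := key (2 ^ e)
    rw [← mem_center_iff.1 hz y, mul_inv_cancel_right] at this
    exact mul_right_cancel (this.symm.trans (one_mul y).symm))
  have hwy2 : Commute (x ^ 2 ^ e) (y * y) := by
    refine mul_inv_eq_iff_eq_mul.1 ?_
    calc x ^ 2 ^ e * (y * y) * (x ^ 2 ^ e)⁻¹
        = (x ^ 2 ^ e * y * (x ^ 2 ^ e)⁻¹) * (x ^ 2 ^ e * y * (x ^ 2 ^ e)⁻¹) := by group
      _ = c ^ 2 ^ e * (y * c ^ 2 ^ e) * y := by rw [key]; group
      _ = c ^ 2 ^ e * c ^ 2 ^ e * (y * y) := by rw [((hcc y).pow_right _).eq]; group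
      _ = y * y := by rw [← pow_add, ← two_mul, ← pow_succ', hspec, one_mul]
  have hxy2 := commute_in_sylow h S hna (pow_mem hx _) hwy hx (mul_mem hy hy)
    ((Commute.refl x).pow_left _) hwy2
  have h2 : c ^ 2 = 1 := by
    have e1 : x * (y * y) * x⁻¹ = c ^ 2 * (y * y) := by
      calc x * (y * y) * x⁻¹ = (x ^ 1 * y * (x ^ 1)⁻¹) * (x ^ 1 * y * (x ^ 1)⁻¹) := by group
        _ = c ^ 1 * (y * c ^ 1) * y := by rw [key]; group
        _ = c ^ 2 * (y * y) := by rw [((hcc y).pow_right _).eq]; group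
    rw [hxy2.eq, mul_inv_cancel_right] at e1
    exact mul_right_cancel (e1.symm.trans (one_mul _).symm)
  exact Nat.find_min hex (show 1 < Nat.find hex by omega) (by rw [pow_one]; exact h2)

/-- Two elements with central commutator, one of them with non-central square, commute. -/
theorem commute_of_high (h : SolvCA G) (S : Sylow 2 G) (hna : ¬ AbOn (S : Subgroup G))
    {x y : G} (hx : x ∈ S) (hy : y ∈ S) (hc : x * y * x⁻¹ * y⁻¹ ∈ center G)
    (hx2 : x ^ 2 ∉ center G) : Commute x y := by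
  by_contra hne
  exact hx2 (sq_mem_center_of_comm h S hna hx hy hc hne)

theorem mul_mem_center_comm {a b : G} (h : a * b ∈ center G) : b * a ∈ center G := by
  have : b * a = a⁻¹ * (a * b) * a := by group
  rw [this, mem_center_iff.1 h a⁻¹, inv_mul_cancel_right]
  exact h

theorem inv_mul_conj_mem_center {s w : G} (h : s * w * s⁻¹ * w⁻¹ ∈ center G) :
    w⁻¹ * (s * w * s⁻¹) ∈ center G := mul_mem_center_comm h

/-- A central involution of a Sylow 2-subgroup modulo the centre. -/
theorem exists_central_mod (S : Sylow 2 G) (hne : ∃ s ∈ (S : Subgroup G), s ∉ center G) :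
    ∃ t ∈ (S : Subgroup G), t ∉ center G ∧ t ^ 2 ∈ center G ∧
      ∀ s ∈ (S : Subgroup G), t * s * t⁻¹ * s⁻¹ ∈ center G := by
  haveI : Fact (Nat.Prime 2) := ⟨Nat.prime_two⟩
  set π := QuotientGroup.mk' (center G)
  have hπ : Function.Surjective π := QuotientGroup.mk'_surjective _
  set P : Sylow 2 (G ⧸ center G) := S.mapSurjective hπ
  obtain ⟨s0, hs0, hs0Z⟩ := hne
  haveI : Nontrivial (P : Subgroup (G ⧸ center G)) := by
    refine ⟨⟨⟨π s0, by rw [Sylow.coe_mapSurjective]; exact mem_map_of_mem π hs0⟩, 1, fun e => hs0Z ?_⟩⟩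
    exact (QuotientGroup.eq_one_iff s0).1 (congrArg Subtype.val e)
  haveI := P.isPGroup'.center_nontrivial
  obtain ⟨zc, hzc⟩ := exists_prime_orderOf_dvd_card' (G := center (P : Subgroup (G ⧸ center G))) 2 (by
    obtain ⟨n, hn, hcard⟩ := (P.isPGroup'.to_subgroup (center _)).nontrivial_iff_card.1 inferInstance
    exact hcard ▸ dvd_pow_self 2 hn.ne')
  obtain ⟨t, htS, htπ⟩ : ∃ t ∈ (S : Subgroup G), π t = (zc.1.1 : G ⧸ center G) := by
    exact mem_map.1 ((SetLike.ext_iff.1 (Sylow.coe_mapSurjective hπ S) _).1 zc.1.2)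
  have hord : orderOf (π t) = 2 := by rw [htπ, orderOf_coe, orderOf_coe]; exact hzc
  refine ⟨t, htS, fun hz => ?_, ?_, fun s hs => ?_⟩
  · rw [show π t = 1 from (QuotientGroup.eq_one_iff t).2 hz, orderOf_one] at hord; omega
  · refine (QuotientGroup.eq_one_iff _).1 ?_
    show π (t ^ 2) = 1
    rw [map_pow, ← hord, pow_orderOf_eq_one]
  · refine (QuotientGroup.eq_one_iff _).1 ?_
    show π (t * s * t⁻¹ * s⁻¹) = 1
    have hcs : π t * π s = π s * π t := by
      rw [htπ]
      exact (congrArg Subtype.val (mem_center_iff.1 zc.2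
        ⟨π s, by rw [Sylow.coe_mapSurjective]; exact mem_map_of_mem π hs⟩)).symm
    rw [map_mul, map_mul, map_mul, map_inv, map_inv, hcs, mul_inv_cancel_right, mul_inv_cancel]

end CfsgLib.MinNonCA
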