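import Cfsg.Agent.MinNonCA.TwoElems
import Cfsg.Agent.Small.ThompsonTransfer
import Cfsg.Agent.Small.NormalFour
import Cfsg.Agent.Small.Dihedral

/-!
# Non-abelian Sylow 2-subgroups with an element whose square is not central

Such a Sylow 2-subgroup is dihedral modulo the centre.
-/

set_option autoImplicit false
set_option linter.style.haveILetI false
set_option linter.unusedSectionVars false

namespace CfsgLib.MinNonCA

open Subgroup

universe u

variable {G : Type u} [Group G] [Finite G] [Group.IsPerfect G]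

/-- Lifts of two commuting involutions of `G / Z(G)` inside `S` do not commute. -/
def NoCommutingLifts (S : Subgroup G) : Prop :=
  ∀ a ∈ S, ∀ b ∈ S, a ∉ center G → b ∉ center G → a⁻¹ * b ∉ center G → a ^ 2 ∈ center G →
    b ^ 2 ∈ center G → ¬ Commute a b

theorem mk_eq_iff_center {a b : G} :
    (QuotientGroup.mk' (center G) a = QuotientGroup.mk' (center G) b) ↔ a⁻¹ * b ∈ center G :=
  QuotientGroup.eq

theorem no_index_two [Nontrivial G] (H : Subgroup (G ⧸ center G)) : H.index ≠ 2 := by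
  intro hH
  haveI : H.Normal := normal_of_index_eq_two hH
  haveI : Fact (Nat.Prime 2) := ⟨Nat.prime_two⟩
  haveI : IsCyclic ((G ⧸ center G) ⧸ H) :=
    isCyclic_of_prime_card (p := 2) (by rw [← index_eq_card, hH])
  letI : CommGroup ((G ⧸ center G) ⧸ H) := IsCyclic.commGroup
  haveI : Group.IsSolvable ((G ⧸ center G) ⧸ H) := Group.isSolvable_of_comm mul_comm
  haveI : Group.IsPerfect (G ⧸ center G) := inferInstance
  haveI : Group.IsPerfect ((G ⧸ center G) ⧸ H) := inferInstance
  haveI : Nontrivial ((G ⧸ center G) ⧸ H) :=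
    QuotientGroup.nontrivial_iff.2 fun ht => by rw [ht, index_top] at hH; omega
  exact (Group.IsSolvable.commutator_lt_top_of_nontrivial ((G ⧸ center G) ⧸ H)).ne
    Group.IsPerfect.commutator_eq_top

/-- The data of the high case. -/
structure HighData (S : Sylow 2 G) (t : G) (A : Subgroup G) : Prop where
  le : A ≤ (S : Subgroup G)
  ab : AbOn A
  ht : t ∈ A
  hA : ∀ s ∈ (S : Subgroup G), Commute t s → s ∈ A
  tZ : t ∉ center G
  t2 : t ^ 2 ∈ center G
  high : ∀ a ∈ (S : Subgroup G), a ^ 2 ∉ center G → a ∈ A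
  inv : ∀ v ∈ (S : Subgroup G), v ∉ A → ∀ a ∈ A, v * a * v⁻¹ * a ∈ center G
  idx : ∀ a ∈ (S : Subgroup G), ∀ b ∈ (S : Subgroup G), a ∉ A → b ∉ A → a * b ∈ A

theorem exists_highData (h : SolvCA G) (S : Sylow 2 G) (hna : ¬ AbOn (S : Subgroup G)) {x : G}
    (hx : x ∈ S) (hx2 : x ^ 2 ∉ center G) :
    ∃ t A, HighData S t A := by
  obtain ⟨t, htS, htZ, ht2, htc⟩ :=
    exists_central_mod S ⟨x, hx, fun hz => hx2 (pow_mem hz 2)⟩
  set A := (S : Subgroup G) ⊓ centralizer ({t} : Set G) with hA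
  have hmemA : ∀ s, s ∈ A ↔ s ∈ (S : Subgroup G) ∧ Commute t s := fun s => by
    simp only [hA, mem_inf, mem_centralizer_singleton_iff]
    exact and_congr_right fun _ => ⟨fun e => e.symm, fun e => e.symm⟩
  have hhigh : ∀ a ∈ (S : Subgroup G), a ^ 2 ∉ center G → a ∈ A := fun a ha ha2 => by
    refine (hmemA a).2 ⟨ha, (commute_of_high h S hna ha htS ?_ ha2).symm⟩
    have h1 := inv_mem (htc a ha)
    have e : a * t * a⁻¹ * t⁻¹ = (t * a * t⁻¹ * a⁻¹)⁻¹ := by group
    rwa [e]
  have hab : AbOn A := fun a ha b hb => commute_in_sylow h S hna htS htZ ha.1 hb.1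
    ((hmemA a).1 ha).2 ((hmemA b).1 hb).2
  have hlow : ∀ v ∈ (S : Subgroup G), v ∉ A → v ^ 2 ∈ center G := fun v hv hvA => by
    by_contra hv2; exact hvA (hhigh v hv hv2)
  have hinv : ∀ v ∈ (S : Subgroup G), v ∉ A → ∀ a ∈ A, v * a * v⁻¹ * a ∈ center G := by
    intro v hv hvA a ha
    have h1 := hlow _ (mul_mem hv ha.1) fun hh => hvA (by
      have := mul_mem hh (inv_mem ha)
      rwa [mul_inv_cancel_right] at this)
    have h2 := hlow v hv hvA
    have e : (v * a) ^ 2 = v * a * v⁻¹ * (v ^ 2 * a) := by rw [sq, sq]; group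
    rw [e, ← mem_center_iff.1 h2 a, ← mul_assoc] at h1
    have := mul_mem h1 (inv_mem h2)
    rwa [mul_inv_cancel_right] at this
  refine ⟨t, A, inf_le_left, hab, (hmemA t).2 ⟨htS, Commute.refl t⟩,
    fun s hs hc => (hmemA s).2 ⟨hs, hc⟩, htZ, ht2, hhigh, hinv, fun a ha b hb haA hbA => ?_⟩
  by_contra habA
  have hxA := hhigh x hx hx2
  set π := QuotientGroup.mk' (center G)
  have hpi : ∀ v ∈ (S : Subgroup G), v ∉ A → ∀ c ∈ A, π v * π c * (π v)⁻¹ = (π c)⁻¹ := by
    intro v hv hvA c hc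
    refine eq_inv_of_mul_eq_one_left ?_
    rw [← map_inv, ← map_mul, ← map_mul, ← map_mul]
    exact (QuotientGroup.eq_one_iff _).2 (hinv v hv hvA c hc)
  have h1 := hpi _ (mul_mem ha hb) habA x hxA
  rw [map_mul] at h1
  have h2 : π a * π b * π x * (π a * π b)⁻¹ = π x := by
    calc π a * π b * π x * (π a * π b)⁻¹ = π a * (π b * π x * (π b)⁻¹) * (π a)⁻¹ := by group
      _ = (π a * π x * (π a)⁻¹)⁻¹ := by rw [hpi b hb hbA x hxA]; group
      _ = π x := by rw [hpi a ha haA x hxA, inv_inv]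
  rw [h2] at h1
  refine hx2 ((QuotientGroup.eq_one_iff _).1 ?_)
  show π (x ^ 2) = 1
  rw [map_pow, sq]
  nth_rewrite 1 [h1]
  exact inv_mul_cancel _

variable {S : Sylow 2 G} {t : G} {A : Subgroup G}

theorem HighData.center_mem (d : HighData S t A) {z : G} (hzS : z ∈ S) (hz : z ∈ center G) :
    z ∈ A :=
  d.hA z hzS (mem_center_iff.1 hz t)

/-- A step of a fusion chain does not move an element of `S` outside `A` into `A`. -/
theorem HighData.step (d : HighData S t A) (h : SolvCA G) (hna : ¬ AbOn (S : Subgroup G))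
    {f : G} (hf : f ∈ A) (hf2 : f ^ 2 ∈ center G) (hfZ : f ∉ center G) (hft : t * f ∉ center G)
    {D : Subgroup G} (hDS : D ≤ S) (hDZ : ∀ z ∈ (S : Subgroup G), z ∈ center G → z ∈ D)
    (htame : ¬ 2 ∣ ((S : Subgroup G) ⊓ normalizer (D : Set G)).relIndex (normalizer (D : Set G)))
    {x : G} (hx : x ∈ normalizer (D : Set G)) {v : G} (hvD : v ∈ D) (hvA : v ∉ A) :
    x⁻¹ * v * x ∉ A := by
  haveI : Fact (Nat.Prime 2) := ⟨Nat.prime_two⟩
  intro hxA
  set N := normalizer (D : Set G) with hN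
  set π := QuotientGroup.mk' (center G) with hπdef
  set K := N ⊓ (centralizer ((D.map π : Subgroup (G ⧸ center G)) : Set (G ⧸ center G))).comap π
    with hK
  have hKN : K ≤ N := inf_le_left
  have hKmem : ∀ g, g ∈ N → (∀ e ∈ D, π e * π g = π g * π e) → g ∈ K := fun g hg hge =>
    ⟨hg, mem_centralizer_iff.2 (by rintro _ ⟨e, he, rfl⟩; exact hge e he)⟩
  have hKcomm : ∀ g ∈ K, ∀ e ∈ D, π e * π g = π g * π e := fun g hg e he =>
    mem_centralizer_iff.1 hg.2 (π e) (mem_map_of_mem π he)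
  have hnK : N ≤ normalizer (K : Set G) := by
    intro n hn
    have key : ∀ m ∈ N, ∀ g ∈ K, m * g * m⁻¹ ∈ K := fun m hm g hg =>
      hKmem _ (mul_mem (mul_mem hm hg.1) (inv_mem hm)) fun e he => by
        have h1 := hKcomm g hg (m⁻¹ * e * m) ((mem_normalizer_iff''.1 hm e).1 he)
        simp only [map_mul, map_inv] at h1 ⊢
        calc π e * (π m * π g * (π m)⁻¹) = π m * ((π m)⁻¹ * π e * π m * π g) * (π m)⁻¹ := by group
          _ = π m * (π g * ((π m)⁻¹ * π e * π m)) * (π m)⁻¹ := by rw [h1]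
          _ = π m * π g * (π m)⁻¹ * π e := by group
    refine mem_normalizer_iff.2 fun g => ⟨key n hn g, fun hg => ?_⟩
    have := key n⁻¹ (inv_mem hn) _ hg
    simpa [mul_assoc] using this
  set V := (S : Subgroup G) ⊓ K with hV
  have hidx : ¬ 2 ∣ V.relIndex K := by
    let PN : Sylow 2 N := Sylow.ofCard _ (CfsgLib.Transfer.card_subgroupOf_eq S htame)
    haveI : (K.subgroupOf N).Normal := normal_subgroupOf_of_le_normalizer hnK
    have h1 := CfsgLib.Inv53.not_dvd_relIndex_inf PN (N := (⊤ : Subgroup N))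
      (K := K.subgroupOf N) le_top le_top (by rw [normalizer_eq_top])
    have e : (PN : Subgroup N) ⊓ K.subgroupOf N = V.subgroupOf N := rfl
    rw [e, relIndex_subgroupOf hKN] at h1
    exact h1
  have hR : V.map (MulAut.conj x).toMonoidHom ≤ K := by
    rintro _ ⟨w, hw, rfl⟩
    exact ((mem_normalizer_iff.1 (hnK hx)) w).1 hw.2
  obtain ⟨c, hc, hle⟩ := CfsgLib.Inv53.exists_conj_le_of_pGroup (p := 2)
    (S.isPGroup'.to_le (inf_le_left : V ≤ S)) inf_le_right hidx
    ((S.isPGroup'.to_le (inf_le_left : V ≤ S)).map (MulAut.conj x).toMonoidHom) hR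
  set m := c * x with hm
  have hmV : m ∈ normalizer (V : Set G) := by
    refine CfsgLib.Transfer.mem_normalizer_of_map_conj_eq ?_
    rw [hm, ← CfsgLib.Transfer.map_conj_map_conj]
    refine eq_of_le_of_card_ge hle ?_
    rw [CfsgLib.Inv53.card_map_conj, CfsgLib.Inv53.card_map_conj]
  have hmD : m ∈ N := mul_mem hc.1 hx
  set Q := D ⊔ V with hQ
  have hQS : Q ≤ S := sup_le hDS inf_le_left
  have hmQ : m ∈ normalizer (Q : Set G) := by
    refine CfsgLib.Transfer.mem_normalizer_of_map_conj_eq ?_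
    rw [hQ, Subgroup.map_sup, CfsgLib.Transfer.map_conj_eq_of_mem_normalizer hmD,
      CfsgLib.Transfer.map_conj_eq_of_mem_normalizer hmV]
  set u := m⁻¹ * v * m with hu
  have huQ : u ∈ Q := (mem_normalizer_iff''.1 hmQ v).1 (mem_sup_left hvD)
  have huA : u ∈ A := by
    have h1 := hKcomm c hc v hvD
    have hxu : π (x⁻¹ * v * x) = π u := by
      simp only [hu, hm, map_mul, map_inv]
      calc (π x)⁻¹ * π v * π x = (π x)⁻¹ * (π c)⁻¹ * (π c * π v) * π x := by group
        _ = (π x)⁻¹ * (π c)⁻¹ * (π v * π c) * π x := by rw [h1]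
        _ = (π c * π x)⁻¹ * π v * (π c * π x) := by group
    have h2 := mk_eq_iff_center.1 hxu
    have h3 := mul_mem hxA (d.center_mem (mul_mem (inv_mem (d.le hxA)) (hQS huQ)) h2)
    rwa [mul_inv_cancel_left] at h3
  have hfQ : ∀ w ∈ A, w ^ 2 ∈ center G → w ∈ Q := by
    intro w hw hw2
    have hwc : ∀ e ∈ D, π e * π w = π w * π e := by
      intro e he
      by_cases heA : e ∈ A
      · rw [← map_mul, ← map_mul, (d.ab e heA w hw).eq]
      · have h1 : π e * π w * (π e)⁻¹ * π w = 1 := by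
          rw [← map_inv, ← map_mul, ← map_mul, ← map_mul]
          exact (QuotientGroup.eq_one_iff _).2 (d.inv e (hDS he) heA w hw)
        have h2 : π w * π w = 1 := by
          rw [← map_mul, ← sq]; exact (QuotientGroup.eq_one_iff _).2 hw2
        exact mul_inv_eq_iff_eq_mul.1 ((eq_inv_of_mul_eq_one_left h1).trans
          (inv_eq_of_mul_eq_one_right h2))
    refine mem_sup_right ⟨d.le hw, hKmem w ?_ hwc⟩
    refine CfsgLib.Transfer.mem_normalizer_of_map_conj_eq (eq_of_le_of_card_ge ?_ ?_)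
    · rintro _ ⟨e, he, rfl⟩
      show w * e * w⁻¹ ∈ D
      have h1 : e⁻¹ * (w * e * w⁻¹) ∈ center G := by
        refine mk_eq_iff_center.1 ?_
        rw [map_mul, map_mul, map_inv, ← hwc e he, mul_inv_cancel_right]
      have := mul_mem he (hDZ _ (mul_mem (inv_mem (hDS he))
        (mul_mem (mul_mem (d.le hw) (hDS he)) (inv_mem (d.le hw)))) h1)
      rwa [mul_inv_cancel_left] at this
    · rw [CfsgLib.Inv53.card_map_conj]
  have hconjQ : ∀ w ∈ Q, m * w * m⁻¹ ∈ Q := fun w hw => (mem_normalizer_iff.1 hmQ w).1 hw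
  have hvu : m * u * m⁻¹ = v := by rw [hu]; group
  have hcommv : ∀ w ∈ A, Commute v (m * w * m⁻¹) := fun w hw => by
    rw [← hvu]
    exact (d.ab u huA w hw).map (MulAut.conj m).toMonoidHom
  have hsqconj : ∀ w : G, (m * w * m⁻¹) ^ 2 ∈ center G ↔ w ^ 2 ∈ center G := fun w => by
    rw [conj_pow]
    constructor
    · intro h1
      have h2 := mem_center_iff.1 h1 m⁻¹
      have : w ^ 2 = m⁻¹ * (m * w ^ 2 * m⁻¹) * m := by group
      rw [this, h2, inv_mul_cancel_right]
      exact h1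
    · intro h1
      rw [mem_center_iff.1 h1 m, mul_inv_cancel_right]
      exact h1
  by_cases hhigh : ∃ a ∈ Q, a ^ 2 ∉ center G
  · obtain ⟨a, haQ, ha2⟩ := hhigh
    have haA := d.high a (hQS haQ) ha2
    have ha' : m * a * m⁻¹ ∈ A :=
      d.high _ (hQS (hconjQ a haQ)) fun h1 => ha2 ((hsqconj a).1 h1)
    have h1 := d.inv v (hDS hvD) hvA _ ha'
    rw [(hcommv a haA).eq, mul_inv_cancel_right, ← sq] at h1
    exact ha2 ((hsqconj a).1 h1)
  push Not at hhigh
  have hout : ∀ w ∈ A, w ^ 2 ∈ center G → w ∉ center G → m * w * m⁻¹ ∉ A := by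
    intro w hw hw2 hwZ hA'
    have hnZ : m * w * m⁻¹ ∉ center G := fun h1 => hwZ (by
      have h2 := mem_center_iff.1 h1 m⁻¹
      have : w = m⁻¹ * (m * w * m⁻¹) * m := by group
      rw [this, h2, inv_mul_cancel_right]
      exact h1)
    exact hvA (d.hA v (hDS hvD) (commute_in_sylow h S hna (d.le hA') hnZ (d.le d.ht) (hDS hvD)
      (d.ab _ hA' t d.ht) (hcommv w hw).symm))
  have hm1 := hout t d.ht d.t2 d.tZ
  have hm2 := hout f hf hf2 hfZ
  have hm3 := hout (t * f) (mul_mem d.ht hf)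
    (by rw [(d.ab t d.ht f hf).mul_pow]; exact mul_mem d.t2 hf2) hft
  refine hm3 ?_
  have := d.idx _ (hQS (hconjQ t (hfQ t d.ht d.t2))) _ (hQS (hconjQ f (hfQ f hf hf2))) hm1 hm2
  rwa [show m * t * m⁻¹ * (m * f * m⁻¹) = m * (t * f) * m⁻¹ by group] at this

theorem HighData.not_mem_of_chain (d : HighData S t A) (h : SolvCA G)
    (hna : ¬ AbOn (S : Subgroup G)) {f : G} (hf : f ∈ A) (hf2 : f ^ 2 ∈ center G)
    (hfZ : f ∉ center G) (hft : t * f ∉ center G) {B : Set G} {g : G}
    (hc : CfsgLib.Transfer.FusionChain S B g) : ∀ v ∈ B, v ∉ A → g⁻¹ * v * g ∉ A := by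
  induction hc with
  | nil B => intro v _ hvA; simpa using hvA
  | cons B Q x g hB ht hx _ ih =>
    intro v hv hvA
    have h1 := d.step h hna hf hf2 hfZ hft inf_le_left
      (fun z hzS hz => ⟨hzS, mem_sylow_of_center Q hz (two_element S hzS)⟩) ht.1 hx (hB hv) hvA
    have h2 := ih _ ⟨v, hv, rfl⟩ h1
    rwa [show (x * g)⁻¹ * v * (x * g) = g⁻¹ * (x⁻¹ * v * x) * g by group]

theorem HighData.low_mem [Nontrivial G] (d : HighData S t A) (h : SolvCA G)
    (hna : ¬ AbOn (S : Subgroup G)) {f : G} (hf : f ∈ A) (hf2 : f ^ 2 ∈ center G)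
    (hfZ : f ∉ center G) : t * f ∈ center G := by
  haveI : Fact (Nat.Prime 2) := ⟨Nat.prime_two⟩
  by_contra hft
  set π := QuotientGroup.mk' (center G)
  have hπ : Function.Surjective π := QuotientGroup.mk'_surjective _
  set P : Sylow 2 (G ⧸ center G) := S.mapSurjective hπ
  obtain ⟨v, hvS, hvt⟩ := exists_not_commute_sylow h S hna (d.le d.ht) d.tZ
  have hvA : v ∉ A := fun hh => hvt (d.ab t d.ht v hh)
  have hmemA : ∀ s ∈ (S : Subgroup G), π s ∈ A.map π → s ∈ A := fun s hs hh => by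
    obtain ⟨a, ha, e⟩ := hh
    have h1 := mk_eq_iff_center.1 e
    have := mul_mem ha (d.center_mem (mul_mem (inv_mem (d.le ha)) hs) h1)
    rwa [mul_inv_cancel_left] at this
  have hle : A.map π ≤ (P : Subgroup (G ⧸ center G)) := by
    rw [Sylow.coe_mapSurjective]; exact map_mono d.le
  have hrel : (A.map π).relIndex (P : Subgroup (G ⧸ center G)) = 2 := by
    rw [relIndex, index_eq_two_iff]
    refine ⟨⟨π v, by rw [Sylow.coe_mapSurjective]; exact mem_map_of_mem π hvS⟩, fun b => ?_⟩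
    obtain ⟨s, hs, hsb⟩ := mem_map.1 ((SetLike.ext_iff.1 (Sylow.coe_mapSurjective hπ S) _).1 b.2)
    simp only [mem_subgroupOf, coe_mul]
    rw [← hsb, ← map_mul]
    by_cases hsA : s ∈ A
    · refine Or.inr ⟨mem_map_of_mem π hsA, fun hh => ?_⟩
      have h1 := hmemA _ (mul_mem hs hvS) hh
      have := mul_mem (inv_mem hsA) h1
      rw [inv_mul_cancel_left] at this
      exact hvA this
    · exact Or.inl ⟨mem_map_of_mem π (d.idx s hs v hvS hsA hvA), fun hh => hsA (hmemA s hs hh)⟩
  have hv2 : v ^ 2 ∈ center G := by by_contra hv2; exact hvA (d.high v hvS hv2)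
  have hvord : orderOf (π v) = 2 := orderOf_eq_prime
    (by rw [← map_pow]; exact (QuotientGroup.eq_one_iff _).2 hv2)
    fun h1 => hvA (d.center_mem hvS ((QuotientGroup.eq_one_iff v).1 h1))
  obtain ⟨q, hq⟩ := CfsgLib.Small.thompson_transfer_sylow no_index_two P _ hle hrel hvord
  obtain ⟨g, rfl⟩ := hπ q
  rw [← map_inv, ← map_mul, ← map_mul] at hq
  obtain ⟨a, ha, e⟩ := hq
  have h2 : ∃ k, (g⁻¹ * v * g) ^ 2 ^ k = 1 := by
    have := two_element_conj (two_element S hvS) g⁻¹
    rwa [inv_inv] at this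
  have hwS := mem_sylow_of_mul_center S (d.le ha) h2 (mk_eq_iff_center.1 e)
  have hwA : g⁻¹ * v * g ∈ A := hmemA _ hwS ⟨a, ha, e⟩
  refine d.not_mem_of_chain h hna hf hf2 hfZ hft
    (CfsgLib.Transfer.exists_fusionChain S (A := {v}) (g := g) (Set.singleton_subset_iff.2 hvS)
      (by rw [Set.image_singleton]; exact Set.singleton_subset_iff.2 hwS)) v rfl hvA hwA

/-- The conclusion in the high case. -/
theorem dihedral_of_high [Nontrivial G] (h : SolvCA G) (S : Sylow 2 G)
    (hna : ¬ AbOn (S : Subgroup G)) {x : G} (hx : x ∈ S) (hx2 : x ^ 2 ∉ center G) :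
    (∃ n : ℕ, 2 ≤ n ∧ Nonempty
      (((S.mapSurjective (QuotientGroup.mk'_surjective (center G)) : Sylow 2 (G ⧸ center G)) :
        Subgroup (G ⧸ center G)) ≃* DihedralGroup n)) ∧
      NoCommutingLifts (S : Subgroup G) := by
  haveI : Fact (Nat.Prime 2) := ⟨Nat.prime_two⟩
  obtain ⟨t, A, d⟩ := exists_highData h S hna hx hx2
  have hF : ∀ f ∈ A, f ^ 2 ∈ center G → f ∉ center G → t * f ∈ center G :=
    fun f hf hf2 hfZ => d.low_mem h hna hf hf2 hfZ
  refine ⟨?_, fun a ha b hb haZ hbZ habZ ha2 hb2 hcomm => ?_⟩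
  swap
  · by_cases haA : a ∈ A
    · by_cases hbA : b ∈ A
      · refine habZ ?_
        have h1 := mul_mem (inv_mem (hF a haA ha2 haZ)) (hF b hbA hb2 hbZ)
        rwa [show (t * a)⁻¹ * (t * b) = a⁻¹ * b by group] at h1
      · refine hbA (d.hA b hb ?_)
        have h1 := hF a haA ha2 haZ
        have h2 : Commute (t * a) b := (mem_center_iff.1 h1 b).symm
        have := h2.mul_left hcomm.inv_left
        rwa [mul_inv_cancel_right] at this
    · refine haA (d.hA a ha ?_)
      by_cases hbA : b ∈ A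
      · have h2 : Commute (t * b) a := (mem_center_iff.1 (hF b hbA hb2 hbZ) a).symm
        have := h2.mul_left hcomm.symm.inv_left
        rwa [mul_inv_cancel_right] at this
      · have hcA := d.idx a ha b hb haA hbA
        have hc2 : (a * b) ^ 2 ∈ center G := by rw [hcomm.mul_pow]; exact mul_mem ha2 hb2
        have hcZ : a * b ∉ center G := fun hh => habZ (by
          have := mul_mem (inv_mem ha2) hh
          rwa [show (a ^ 2)⁻¹ * (a * b) = a⁻¹ * b by group] at this)
        have h2 : Commute (t * (a * b)) a := (mem_center_iff.1 (hF _ hcA hc2 hcZ) a).symm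
        have := h2.mul_left (((Commute.refl a).mul_left hcomm.symm).inv_left)
        rwa [mul_inv_cancel_right] at this
  set π := QuotientGroup.mk' (center G) with hπdef
  set P : Sylow 2 (G ⧸ center G) := S.mapSurjective (QuotientGroup.mk'_surjective (center G))
  have hle : A.map π ≤ (P : Subgroup (G ⧸ center G)) := by
    rw [Sylow.coe_mapSurjective]; exact map_mono d.le
  haveI hcyc : IsCyclic (A.map π) := by
    refine CfsgLib.Small.isCyclic_of_unique_invol (P.isPGroup'.to_le hle) (fun a b => ?_) fun a b ha hb => ?_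
    · obtain ⟨a', ha', e1⟩ := mem_map.1 a.2
      obtain ⟨b', hb', e2⟩ := mem_map.1 b.2
      apply Subtype.ext
      rw [coe_mul, coe_mul, ← e1, ← e2, ← map_mul, ← map_mul, (d.ab a' ha' b' hb').eq]
    · have key : ∀ q : A.map π, orderOf q = 2 → π t * (q : G ⧸ center G) = 1 := by
        intro q hq
        obtain ⟨f, hf, e⟩ := mem_map.1 q.2
        have hq' : orderOf (π f) = 2 := by rw [e, orderOf_coe]; exact hq
        rw [← e, ← map_mul]
        refine (QuotientGroup.eq_one_iff _).2 (hF f hf ((QuotientGroup.eq_one_iff _).1 ?_) fun hz => ?_)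
        · show π (f ^ 2) = 1
          rw [map_pow, ← hq', pow_orderOf_eq_one]
        · rw [show π f = 1 from (QuotientGroup.eq_one_iff f).2 hz, orderOf_one] at hq'; omega
      exact Subtype.ext (mul_left_cancel ((key a ha).trans (key b hb).symm))
  obtain ⟨r, hr⟩ := hcyc.exists_generator
  obtain ⟨a0, ha0, hra⟩ := mem_map.1 r.2
  obtain ⟨v, hvS, hvt⟩ := exists_not_commute_sylow h S hna (d.le d.ht) d.tZ
  have hvA : v ∉ A := fun hh => hvt (d.ab t d.ht v hh)
  have hinvol : ∀ s ∈ (S : Subgroup G), s ∉ A → orderOf (π s) = 2 := fun s hs hsA =>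
    orderOf_eq_prime (by
      rw [← map_pow]
      exact (QuotientGroup.eq_one_iff _).2 (by by_contra hh; exact hsA (d.high s hs hh)))
      fun h1 => hsA (d.center_mem hs ((QuotientGroup.eq_one_iff s).1 h1))
  have hva : v * a0 ∉ A := fun hh => hvA (by
    have := mul_mem hh (inv_mem ha0)
    rwa [mul_inv_cancel_right] at this)
  have hx1 := hinvol v hvS hvA
  have hy1 := hinvol _ (mul_mem hvS (d.le ha0)) hva
  have hxy : π v * π (v * a0) = (r : G ⧸ center G) := by
    rw [map_mul, ← mul_assoc, ← sq, orderOf_dvd_iff_pow_eq_one.1 hx1.dvd, one_mul, hra]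
  have hr1 : (r : G ⧸ center G) ≠ 1 := fun e => d.tZ ((QuotientGroup.eq_one_iff t).1 (by
    obtain ⟨k, hk⟩ := hr ⟨π t, mem_map_of_mem π d.ht⟩
    have := congrArg Subtype.val hk
    rw [SubgroupClass.coe_zpow, e, one_zpow] at this
    exact this.symm))
  have hne : π v ≠ π (v * a0) := fun e => hr1 (by
    rw [← hxy, ← e, ← sq, orderOf_dvd_iff_pow_eq_one.1 hx1.dvd])
  have hclos : closure ({π v, π (v * a0)} : Set (G ⧸ center G)) = (P : Subgroup (G ⧸ center G)) := by
    refine le_antisymm ?_ ?_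
    · rw [closure_le, Sylow.coe_mapSurjective]
      rintro _ (rfl | rfl)
      · exact mem_map_of_mem π hvS
      · exact mem_map_of_mem π (mul_mem hvS (d.le ha0))
    · rw [Sylow.coe_mapSurjective]
      rintro _ ⟨s, hs, rfl⟩
      have hrmem : (r : G ⧸ center G) ∈ closure ({π v, π (v * a0)} : Set (G ⧸ center G)) := by
        rw [← hxy]; exact CfsgLib.Small.mul_mem_closure_pair _ _
      have hA' : ∀ a ∈ A, π a ∈ closure ({π v, π (v * a0)} : Set (G ⧸ center G)) := fun a ha => by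
        obtain ⟨k, hk⟩ := hr ⟨π a, mem_map_of_mem π ha⟩
        have := congrArg Subtype.val hk
        rw [SubgroupClass.coe_zpow] at this
        rw [← show (r : G ⧸ center G) ^ k = π a from this]
        exact zpow_mem hrmem k
      by_cases hsA : s ∈ A
      · exact hA' s hsA
      · have := mul_mem (inv_mem (subset_closure (Set.mem_insert (π v) _)))
          (hA' _ (d.idx v hvS s hs hvA hsA))
        rwa [map_mul π v s, inv_mul_cancel_left] at this
  refine ⟨orderOf (π v * π (v * a0)), ?_, ⟨(MulEquiv.subgroupCongr hclos.symm).trans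
    (CfsgLib.Small.closurePairEquivDihedral hx1 hy1 hne)⟩⟩
  rw [hxy]
  have h0 : 0 < orderOf (r : G ⧸ center G) := orderOf_pos _
  have h1 : orderOf (r : G ⧸ center G) ≠ 1 := fun e => hr1 (orderOf_eq_one_iff.1 e)
  omega

end CfsgLib.MinNonCA
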