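import Cfsg.Agent.MinNonCA.TwoHigh
import Cfsg.Agent.MultPSL.Main
import Cfsg.Agent.Linear.Basic
import Cfsg.Agent.S2202

/-!
# Non-abelian Sylow 2-subgroups all of whose squares are central
-/

set_option autoImplicit false
set_option linter.style.haveILetI false
set_option linter.unusedSectionVars false

namespace CfsgLib.MinNonCA

open Subgroup
open scoped IsKleinFour

universe u

variable {G : Type u} [Group G] [Finite G] [Group.IsPerfect G]

theorem low_comm (S : Sylow 2 G) (hlow : ∀ s ∈ (S : Subgroup G), s ^ 2 ∈ center G) {a b : G}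
    (ha : a ∈ S) (hb : b ∈ S) : a * b * a⁻¹ * b⁻¹ ∈ center G := by
  have e : a * b * a⁻¹ * b⁻¹ = (a * b) ^ 2 * ((b⁻¹ * (a ^ 2)⁻¹ * b) * (b ^ 2)⁻¹) := by
    rw [sq, sq, sq]; group
  rw [e]
  refine mul_mem (hlow _ (mul_mem ha hb)) (mul_mem ?_ (inv_mem (hlow b hb)))
  rw [mem_center_iff.1 (inv_mem (hlow a ha)) b⁻¹, inv_mul_cancel_right]
  exact inv_mem (hlow a ha)

theorem mem_center_of_mul_sq {a b : G} (ha : a ^ 2 ∈ center G) (h : a * b ∈ center G) :
    a⁻¹ * b ∈ center G := by
  have := mul_mem (inv_mem ha) h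
  rwa [show (a ^ 2)⁻¹ * (a * b) = a⁻¹ * b by rw [sq]; group] at this

/-- For `|S/Z| ≥ 8`, centralisers in `S` of non-central elements have index at least four. -/
theorem exists_pair_out [Nontrivial G] (h : SolvCA G) (S : Sylow 2 G)
    (hna : ¬ AbOn (S : Subgroup G)) (hlow : ∀ s ∈ (S : Subgroup G), s ^ 2 ∈ center G)
    (hbig : 8 ≤ Nat.card ((S : Subgroup G).map (QuotientGroup.mk' (center G)))) {t : G}
    (htS : t ∈ S) (htZ : t ∉ center G) {s : G} (hs : s ∈ S) (hst : ¬ Commute t s) :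
    ∃ s₂ ∈ (S : Subgroup G), ¬ Commute t s₂ ∧ ¬ Commute t (s * s₂) := by
  haveI : Fact (Nat.Prime 2) := ⟨Nat.prime_two⟩
  by_contra hcon
  push Not at hcon
  set A := (S : Subgroup G) ⊓ centralizer ({t} : Set G) with hA
  have hmemA : ∀ x, x ∈ A ↔ x ∈ (S : Subgroup G) ∧ Commute t x := fun x => by
    simp only [hA, mem_inf, mem_centralizer_singleton_iff]
    exact and_congr_right fun _ => ⟨fun e => e.symm, fun e => e.symm⟩
  have hZA : ∀ z ∈ (S : Subgroup G), z ∈ center G → z ∈ A := fun z hz hzc =>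
    (hmemA z).2 ⟨hz, mem_center_iff.1 hzc t⟩
  have hidx : ∀ a ∈ (S : Subgroup G), ∀ b ∈ (S : Subgroup G), a ∉ A → b ∉ A → a * b ∈ A := by
    intro a ha b hb haA hbA
    have h1 : s * a ∈ A := (hmemA _).2 ⟨mul_mem hs ha, hcon a ha fun hc => haA ((hmemA a).2 ⟨ha, hc⟩)⟩
    have h2 : s * b ∈ A := (hmemA _).2 ⟨mul_mem hs hb, hcon b hb fun hc => hbA ((hmemA b).2 ⟨hb, hc⟩)⟩
    have := mul_mem (hZA _ (pow_mem ha 2) (hlow a ha)) (mul_mem (inv_mem h1) h2)
    rwa [show a ^ 2 * ((s * a)⁻¹ * (s * b)) = a * b by rw [sq]; group] at this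
  have hsA : s ∉ A := fun hh => hst ((hmemA s).1 hh).2
  have htA : t ∈ A := (hmemA t).2 ⟨htS, Commute.refl t⟩
  set π := QuotientGroup.mk' (center G) with hπdef
  have hπ : Function.Surjective π := QuotientGroup.mk'_surjective _
  set P : Sylow 2 (G ⧸ center G) := S.mapSurjective hπ
  have hP : (P : Subgroup (G ⧸ center G)) = (S : Subgroup G).map π := Sylow.coe_mapSurjective hπ S
  have hmemA' : ∀ x ∈ (S : Subgroup G), π x ∈ A.map π → x ∈ A := fun x hx hh => by
    obtain ⟨a, ha, e⟩ := hh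
    have := mul_mem ha (hZA _ (mul_mem (inv_mem ha.1) hx) (mk_eq_iff_center.1 e))
    rwa [mul_inv_cancel_left] at this
  have hle : A.map π ≤ (P : Subgroup (G ⧸ center G)) := by rw [hP]; exact map_mono inf_le_left
  have hrel : (A.map π).relIndex (P : Subgroup (G ⧸ center G)) = 2 := by
    rw [relIndex, index_eq_two_iff]
    refine ⟨⟨π s, by rw [hP]; exact mem_map_of_mem π hs⟩, fun b => ?_⟩
    obtain ⟨w, hw, hwb⟩ := mem_map.1 ((SetLike.ext_iff.1 hP _).1 b.2)
    simp only [mem_subgroupOf, coe_mul]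
    rw [← hwb, ← map_mul]
    by_cases hwA : w ∈ A
    · refine Or.inr ⟨mem_map_of_mem π hwA, fun hh => ?_⟩
      have := mul_mem (inv_mem hwA) (hmemA' _ (mul_mem hw hs) hh)
      rw [inv_mul_cancel_left] at this
      exact hsA this
    · exact Or.inl ⟨mem_map_of_mem π (hidx w hw s hs hwA hsA), fun hh => hwA (hmemA' w hw hh)⟩
  obtain ⟨q, hqA, hqZ, hqt⟩ : ∃ q ∈ A, q ∉ center G ∧ t⁻¹ * q ∉ center G := by
    by_contra hcon2
    push Not at hcon2
    have hsub : A.map π ≤ zpowers (π t) := by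
      rintro _ ⟨a, ha, rfl⟩
      by_cases haZ : a ∈ center G
      · rw [show π a = 1 from (QuotientGroup.eq_one_iff a).2 haZ]; exact one_mem _
      · rw [← mk_eq_iff_center.2 (hcon2 a ha haZ)]; exact mem_zpowers _
    have h1 := Subgroup.card_le_of_le hsub
    rw [Nat.card_zpowers] at h1
    have h2 : orderOf (π t) ≤ 2 := orderOf_le_of_pow_eq_one (by norm_num)
      (by rw [← map_pow]; exact (QuotientGroup.eq_one_iff _).2 (hlow t htS))
    have h3 := Subgroup.relIndex_mul_relIndex ⊥ _ _ bot_le hle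
    rw [relIndex_bot_left, relIndex_bot_left, hrel, hP] at h3
    rw [← h3] at hbig
    omega
  -- `N(S)` preserves `A`
  have hinv : ∀ n ∈ normalizer ((S : Subgroup G) : Set G), ∀ w ∈ A, n * w * n⁻¹ ∈ A := by
    intro n hn w hw
    have hnS : ∀ x ∈ (S : Subgroup G), n * x * n⁻¹ ∈ (S : Subgroup G) := fun x hx =>
      (mem_normalizer_iff.1 hn x).1 hx
    obtain ⟨a, ha, haZ, haA⟩ : ∃ a ∈ A, a ∉ center G ∧ n * a * n⁻¹ ∈ A := by
      by_contra hc
      push Not at hc
      refine hc (t * q) (mul_mem htA hqA) (fun hh => hqt (mem_center_of_mul_sq (hlow t htS) hh)) ?_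
      have := hidx _ (hnS t htS) _ (hnS q hqA.1) (hc t htA htZ) (hc q hqA hqZ)
      rwa [show n * t * n⁻¹ * (n * q * n⁻¹) = n * (t * q) * n⁻¹ by group] at this
    have hnZ : n * a * n⁻¹ ∉ center G := fun h1 => haZ (by
      have h2 := mem_center_iff.1 h1 n⁻¹
      have : a = n⁻¹ * (n * a * n⁻¹) * n := by group
      rw [this, h2, inv_mul_cancel_right]
      exact h1)
    have hcaw : Commute a w := commute_in_sylow h S hna htS htZ ha.1 hw.1
      ((hmemA a).1 ha).2 ((hmemA w).1 hw).2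
    exact (hmemA _).2 ⟨hnS w hw.1, commute_in_sylow h S hna (hnS a ha.1) hnZ htS (hnS w hw.1)
      ((hmemA _).1 haA).2.symm (hcaw.map (MulAut.conj n).toMonoidHom)⟩
  have hvord : orderOf (π s) = 2 := orderOf_eq_prime
    (by rw [← map_pow]; exact (QuotientGroup.eq_one_iff _).2 (hlow s hs))
    fun h1 => hsA (hZA s hs ((QuotientGroup.eq_one_iff s).1 h1))
  obtain ⟨g, hg⟩ := CfsgLib.Small.thompson_transfer_sylow no_index_two P _ hle hrel hvord
  haveI : IsMulCommutative (P : Subgroup (G ⧸ center G)) := ⟨⟨fun a b => by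
    obtain ⟨a', ha', e1⟩ := mem_map.1 ((SetLike.ext_iff.1 hP _).1 a.2)
    obtain ⟨b', hb', e2⟩ := mem_map.1 ((SetLike.ext_iff.1 hP _).1 b.2)
    apply Subtype.ext
    rw [coe_mul, coe_mul, ← e1, ← e2]
    have h1 : π (a' * b' * a'⁻¹ * b'⁻¹) = 1 :=
      (QuotientGroup.eq_one_iff _).2 (low_comm S hlow ha' hb')
    rw [map_mul, map_mul, map_mul, map_inv, map_inv, mul_inv_eq_one, mul_inv_eq_iff_eq_mul] at h1
    exact h1⟩⟩
  have hgP : g⁻¹ * π s * g⁻¹⁻¹ ∈ (P : Subgroup (G ⧸ center G)) := by rw [inv_inv]; exact hle hg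
  obtain ⟨nq, hnq, hne⟩ := CfsgLib.Transfer.controlsFusion_normalizer_of_isMulCommutative P ‹_›
    (π s) (by rw [hP]; exact mem_map_of_mem π hs) g⁻¹ hgP
  obtain ⟨n, rfl⟩ := hπ nq
  have hnS : n ∈ normalizer ((S : Subgroup G) : Set G) := by
    refine CfsgLib.Transfer.mem_normalizer_of_map_conj_eq (eq_of_le_of_card_ge ?_ ?_)
    · rintro _ ⟨x, hx, rfl⟩
      have h1 := (mem_normalizer_iff.1 hnq (π x)).1 (by rw [hP]; exact mem_map_of_mem π hx)
      rw [hP, ← map_inv, ← map_mul, ← map_mul] at h1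
      obtain ⟨y, hy, e⟩ := h1
      exact mem_sylow_of_mul_center S hy (two_element_conj (two_element S hx) n) (mk_eq_iff_center.1 e)
    · rw [CfsgLib.Inv53.card_map_conj]
  rw [inv_inv, ← map_inv, ← map_mul, ← map_mul] at hne
  have hnsA : n * s * n⁻¹ ∈ A := hmemA' _ ((mem_normalizer_iff.1 hnS s).1 hs) (hne ▸ hg)
  have := hinv n⁻¹ (inv_mem hnS) _ hnsA
  rw [show n⁻¹ * (n * s * n⁻¹) * n⁻¹⁻¹ = s by group] at this
  exact hsA this

/-- Centralisers of involutions of `S/Z` are abelian when `|S/Z| ≥ 8`. -/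
theorem abelian_centralizer_quotient [Nontrivial G] (h : SolvCA G) (S : Sylow 2 G)
    (hna : ¬ AbOn (S : Subgroup G)) (hlow : ∀ s ∈ (S : Subgroup G), s ^ 2 ∈ center G)
    (hbig : 8 ≤ Nat.card ((S : Subgroup G).map (QuotientGroup.mk' (center G)))) {t : G}
    (htS : t ∈ S) (htZ : t ∉ center G) :
    AbOn (centralizer ({QuotientGroup.mk' (center G) t} : Set (G ⧸ center G))) := by
  haveI : Fact (Nat.Prime 2) := ⟨Nat.prime_two⟩
  set π := QuotientGroup.mk' (center G) with hπdef
  set X := (centralizer ({π t} : Set (G ⧸ center G))).comap π with hX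
  set C := centralizer ({t} : Set G) with hC
  have hXz : ∀ y ∈ X, ∃ ζ ∈ center G, y * t * y⁻¹ = ζ * t ∧ ζ ^ 2 = 1 := by
    intro y hy
    have h1 : π y * π t = π t * π y := mem_centralizer_singleton_iff.1 hy
    have hz : y * t * y⁻¹ * t⁻¹ ∈ center G := (QuotientGroup.eq_one_iff _).1 (by
      show π (y * t * y⁻¹ * t⁻¹) = 1
      rw [map_mul, map_mul, map_mul, map_inv, map_inv, h1, mul_inv_cancel_right, mul_inv_cancel])
    refine ⟨_, hz, by group, ?_⟩
    set ζ := y * t * y⁻¹ * t⁻¹ with hζ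
    have h2 : (ζ * t) ^ 2 = t ^ 2 := by
      rw [hζ, inv_mul_cancel_right, conj_pow, mem_center_iff.1 (hlow t htS) y, mul_inv_cancel_right]
    rw [(mem_center_iff.1 hz t).symm |> fun e : ζ * t = t * ζ => (show Commute ζ t from e).mul_pow] at h2
    exact mul_eq_right.1 h2
  have hCX : C ≤ X := fun c hc => mem_centralizer_singleton_iff.2 (by
    rw [← map_mul, ← map_mul, mem_centralizer_singleton_iff.1 hc])
  have hSX : (S : Subgroup G) ≤ X := fun s hs => mem_centralizer_singleton_iff.2 (by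
    have h1 : π (s * t * s⁻¹ * t⁻¹) = 1 := (QuotientGroup.eq_one_iff _).2 (low_comm S hlow hs htS)
    rw [map_mul, map_mul, map_mul, map_inv, map_inv, mul_inv_eq_one, mul_inv_eq_iff_eq_mul] at h1
    exact h1)
  have hconjC : ∀ y ∈ X, ∀ c ∈ C, y * c * y⁻¹ ∈ C := by
    intro y hy c hc
    obtain ⟨ζ, hζ, e, -⟩ := hXz y⁻¹ (inv_mem hy)
    rw [inv_inv] at e
    refine mem_centralizer_singleton_iff.2 ?_
    have hc' := mem_centralizer_singleton_iff.1 hc
    calc y * c * y⁻¹ * t = y * (c * (y⁻¹ * t * y)) * y⁻¹ := by group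
      _ = y * (ζ * (c * t)) * y⁻¹ := by rw [e, ← mul_assoc c, mem_center_iff.1 hζ c, mul_assoc ζ]
      _ = y * (ζ * t * c) * y⁻¹ := by rw [hc', ← mul_assoc ζ]
      _ = y * (y⁻¹ * t * y * c) * y⁻¹ := by rw [← e]
      _ = t * (y * c * y⁻¹) := by group
  have hcommC : ∀ y ∈ X, ∀ w ∈ X, y * w * y⁻¹ * w⁻¹ ∈ C := by
    intro y hy w hw
    obtain ⟨ζ, hζ, e1, -⟩ := hXz y hy
    obtain ⟨η, hη, e2, -⟩ := hXz w hw
    have cζ : ∀ g, g * ζ = ζ * g := mem_center_iff.1 hζ
    have cη : ∀ g, g * η = η * g := mem_center_iff.1 hη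
    have e1' : y * t = ζ * t * y := mul_inv_eq_iff_eq_mul.1 e1
    have e2' : w * t = η * t * w := mul_inv_eq_iff_eq_mul.1 e2
    have f2 : w⁻¹ * t = η⁻¹ * t * w⁻¹ := by
      have : t * w⁻¹ = η * (w⁻¹ * t) := by
        calc t * w⁻¹ = w⁻¹ * (w * t) * w⁻¹ := by group
          _ = w⁻¹ * η * t := by rw [e2']; group
          _ = η * (w⁻¹ * t) := by rw [cη, mul_assoc]
      rw [mul_assoc, this, inv_mul_cancel_left]
    have f1 : y⁻¹ * t = ζ⁻¹ * t * y⁻¹ := by
      have : t * y⁻¹ = ζ * (y⁻¹ * t) := by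
        calc t * y⁻¹ = y⁻¹ * (y * t) * y⁻¹ := by group
          _ = y⁻¹ * ζ * t := by rw [e1']; group
          _ = ζ * (y⁻¹ * t) := by rw [cζ, mul_assoc]
      rw [mul_assoc, this, inv_mul_cancel_left]
    refine mem_centralizer_singleton_iff.2 ?_
    have cη' : ∀ g, g * η⁻¹ = η⁻¹ * g := mem_center_iff.1 (inv_mem hη)
    have cζ' : ∀ g, g * ζ⁻¹ = ζ⁻¹ * g := mem_center_iff.1 (inv_mem hζ)
    calc y * w * y⁻¹ * w⁻¹ * t = y * w * y⁻¹ * (w⁻¹ * t) := by group
      _ = (y * w * y⁻¹) * η⁻¹ * (t * w⁻¹) := by rw [f2]; group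
      _ = η⁻¹ * (y * w * (y⁻¹ * t)) * w⁻¹ := by rw [cη']; group
      _ = η⁻¹ * ((y * w) * ζ⁻¹) * t * y⁻¹ * w⁻¹ := by rw [f1]; group
      _ = η⁻¹ * ζ⁻¹ * (y * (w * t)) * y⁻¹ * w⁻¹ := by rw [cζ']; group
      _ = η⁻¹ * ζ⁻¹ * (y * η) * t * w * y⁻¹ * w⁻¹ := by rw [e2']; group
      _ = η⁻¹ * ζ⁻¹ * η * (y * t) * w * y⁻¹ * w⁻¹ := by rw [cη y]; group
      _ = η⁻¹ * (ζ⁻¹ * η * ζ) * t * y * w * y⁻¹ * w⁻¹ := by rw [e1']; group
      _ = t * (y * w * y⁻¹ * w⁻¹) := by rw [mul_assoc ζ⁻¹, cζ η]; group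
  have hXn : X ≤ normalizer (C : Set G) := fun y hy => mem_normalizer_iff.2 fun c =>
    ⟨hconjC y hy c, fun hc => by
      have := hconjC y⁻¹ (inv_mem hy) _ hc
      rwa [show y⁻¹ * (y * c * y⁻¹) * y⁻¹⁻¹ = c by group] at this⟩
  set A := (S : Subgroup G) ⊓ C with hA
  have hArel : ¬ 2 ∣ A.relIndex C := CfsgLib.Inv53.not_dvd_relIndex_inf S hSX hCX hXn
  have htA : t ∈ A := ⟨htS, mem_centralizer_singleton_iff.2 rfl⟩
  obtain ⟨v, hvS, hvt⟩ := exists_not_commute_sylow h S hna htS htZ
  have hSA : (S : Subgroup G) ≤ normalizer (A : Set G) := fun s hs => mem_normalizer_iff.2 fun a =>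
    ⟨fun ha => ⟨(mem_normalizer_iff.1 (le_normalizer hs) a).1 ha.1, hconjC s (hSX hs) a ha.2⟩,
      fun ha => ⟨(mem_normalizer_iff.1 (le_normalizer hs) a).2 ha.1,
        (mem_normalizer_iff.1 (hXn (hSX hs)) a).2 ha.2⟩⟩
  have hAab : AbOn A := fun a ha b hb => commute_in_sylow h S hna htS htZ ha.1 hb.1
    (mem_centralizer_singleton_iff.1 ha.2).symm (mem_centralizer_singleton_iff.1 hb.2).symm
  haveI : Group.IsSolvable A := isSolvable_of_abOn hAab
  have hAC : A ≤ centralizer (A : Set G) := fun a ha =>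
    mem_centralizer_iff.2 fun b hb => (hAab b hb a ha).eq
  have hCAC : centralizer (A : Set G) ≤ C := fun c hc =>
    mem_centralizer_singleton_iff.2 (mem_centralizer_iff.1 hc t htA).symm
  haveI hCAs : Group.IsSolvable (centralizer (A : Set G)) := by
    set K := centralizer (A : Set G)
    haveI : (A.subgroupOf K).Normal := normal_subgroupOf_of_le_normalizer (centralizer_le_normalizer _)
    haveI : Group.IsSolvable (A.subgroupOf K) :=
      Group.isSolvable_of_isSolvable_injective (f := (subgroupOfEquivOfLe hAC).toMonoidHom)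
        (MulEquiv.injective _)
    have hodd : Odd (Nat.card (K ⧸ A.subgroupOf K)) := by
      rw [← Subgroup.index_eq_card, ← Nat.not_even_iff_odd, even_iff_two_dvd]
      intro h2
      exact hArel (h2.trans (Dvd.intro _ (relIndex_mul_relIndex A K C hAC hCAC)))
    haveI : Group.IsSolvable (K ⧸ A.subgroupOf K) := Cfsg.Agent.S0205.result hodd
    exact (Group.isSolvable_iff_subgroup_quotient (A.subgroupOf K)).2 ⟨‹_›, ‹_›⟩
  haveI := isSolvable_normalizer_of_centralizer h hCAs
  haveI hCs : Group.IsSolvable C := by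
    let PC : Sylow 2 C := Sylow.ofCard _ (CfsgLib.Transfer.card_subgroupOf_eq S hArel)
    have hN : normalizer ((PC : Subgroup C) : Set C) ≤ centralizer ((PC : Subgroup C) : Set C) := by
      intro n hn
      have hn' : (n : G) ∈ normalizer (A : Set G) := by
        refine mem_normalizer_iff.2 fun a => ⟨fun ha => ?_, fun ha => ?_⟩
        · exact ⟨(mem_normalizer_iff.1 hn ⟨a, ha.2⟩).1 ha.1, (mul_mem (mul_mem n.2 ha.2) (inv_mem n.2) : (n : G) * a * (n : G)⁻¹ ∈ C)⟩
        · have haC : a ∈ C := by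
            have := mul_mem (mul_mem (inv_mem n.2) ha.2) n.2
            simpa [mul_assoc] using this
          exact ⟨(mem_normalizer_iff.1 hn ⟨a, haC⟩).2 ha.1, haC⟩
      refine mem_centralizer_iff.2 fun a ha => Subtype.ext ?_
      exact (h.commute_of_commute (H := normalizer (A : Set G)) (le_normalizer htA) (hSA hvS) hvt
        (le_normalizer (H := A) ⟨ha, a.2⟩) hn' (mem_centralizer_singleton_iff.1 a.2).symm
        (mem_centralizer_singleton_iff.1 n.2).symm).eq
    obtain ⟨f, hodd⟩ : ∃ f : C →* (PC : Subgroup C), Odd (Nat.card f.ker) :=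
      ⟨_, Nat.odd_iff.2 (Nat.two_dvd_ne_zero.1 (MonoidHom.not_dvd_card_ker_transferSylow PC hN))⟩
    haveI : Group.IsSolvable f.ker := Cfsg.Agent.S0205.result hodd
    haveI : Group.IsSolvable (PC : Subgroup C) := isSolvable_of_abOn fun a ha b hb =>
      Subtype.ext (hAab a ⟨ha, a.2⟩ b ⟨hb, b.2⟩).eq
    exact Group.isSolvable_of_ker_le_range f.ker.subtype f f.ker.range_subtype.ge
  haveI hXs : Group.IsSolvable X := by
    haveI : (C.subgroupOf X).Normal := normal_subgroupOf_of_le_normalizer hXn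
    haveI : Group.IsSolvable (C.subgroupOf X) :=
      Group.isSolvable_of_isSolvable_injective (f := (subgroupOfEquivOfLe hCX).toMonoidHom)
        (MulEquiv.injective _)
    haveI : Group.IsSolvable (X ⧸ C.subgroupOf X) := by
      refine Group.isSolvable_of_comm fun a b => ?_
      obtain ⟨a, rfl⟩ := QuotientGroup.mk'_surjective _ a
      obtain ⟨b, rfl⟩ := QuotientGroup.mk'_surjective _ b
      have h1 : QuotientGroup.mk' (C.subgroupOf X) (a * b * a⁻¹ * b⁻¹) = 1 :=
        (QuotientGroup.eq_one_iff _).2 (mem_subgroupOf.2 (hcommC a a.2 b b.2))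
      rw [map_mul, map_mul, map_mul, map_inv, map_inv, mul_inv_eq_one, mul_inv_eq_iff_eq_mul] at h1
      exact h1
    exact (Group.isSolvable_iff_subgroup_quotient (C.subgroupOf X)).2 ⟨‹_›, ‹_›⟩
  have htX : t ∈ X := hSX htS
  have hCab : AbOn C := fun a ha b hb => h.commute_of_commute htX (hSX hvS) hvt (hCX ha) (hCX hb)
    (mem_centralizer_singleton_iff.1 ha).symm (mem_centralizer_singleton_iff.1 hb).symm
  -- elements of `C` fixed by an outer element are central in `X`
  have hfix : ∀ p ∈ C, ∀ s ∈ (S : Subgroup G), ¬ Commute t s → s * p * s⁻¹ = p →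
      ∀ y ∈ X, Commute p y := by
    intro p hp s hs hst hsp y hy
    by_contra hpy
    exact hst (h.commute_of_commute (hCX hp) hy hpy htX (hSX hs)
      (mem_centralizer_singleton_iff.1 hp) (mul_inv_eq_iff_eq_mul.1 hsp).symm)
  have hsq : ∀ s ∈ (S : Subgroup G), ∀ c : G, s * (s * c * s⁻¹) * s⁻¹ = c := fun s hs c => by
    calc s * (s * c * s⁻¹) * s⁻¹ = s ^ 2 * c * (s ^ 2)⁻¹ := by rw [sq]; group
      _ = c := by rw [← mem_center_iff.1 (hlow s hs) c, mul_inv_cancel_right]
  have hpfix : ∀ s ∈ (S : Subgroup G), ¬ Commute t s → ∀ c ∈ C, ∀ y ∈ X,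
      Commute (c * (s * c * s⁻¹)) y := fun s hs hst c hc => by
    have hc' := hconjC s (hSX hs) c hc
    refine hfix _ (mul_mem hc hc') s hs hst ?_
    calc s * (c * (s * c * s⁻¹)) * s⁻¹ = s * c * s⁻¹ * (s * (s * c * s⁻¹) * s⁻¹) := by group
      _ = (s * c * s⁻¹) * c := by rw [hsq s hs c]
      _ = c * (s * c * s⁻¹) := (hCab _ hc' c hc).eq
  have hCS : ∀ c ∈ C, ∀ s ∈ (S : Subgroup G), π c * π s = π s * π c := by
    intro c hc s hs
    by_cases hst : Commute t s
    · rw [← map_mul, ← map_mul,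
        (hCab c hc s (mem_centralizer_singleton_iff.2 hst.symm.eq)).eq]
    obtain ⟨s₂, hs₂, hs₂t, hss⟩ := exists_pair_out h S hna hlow hbig htS htZ hs hst
    have hc' := hconjC s (hSX hs) c hc
    have hc₂ := hconjC s₂ (hSX hs₂) c hc
    have h1 := hpfix s hs hst c hc
    have h2 := hpfix s₂ hs₂ hs₂t c hc
    have h12 := hpfix _ (mul_mem hs hs₂) hss c hc
    set p := c * (s₂ * c * s₂⁻¹) with hp
    -- `c * c` is central in `X`
    have e : c * c = c * (s * s₂ * c * (s * s₂)⁻¹) * p⁻¹ * (c * (s * c * s⁻¹)) := by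
      have hps : s * p * s⁻¹ = p := by
        rw [← (h2 s (hSX hs)).eq, mul_inv_cancel_right]
      have hd : s * s₂ * c * (s * s₂)⁻¹ = (s * c * s⁻¹)⁻¹ * p := by
        calc s * s₂ * c * (s * s₂)⁻¹ = s * (c⁻¹ * p) * s⁻¹ := by rw [hp]; group
          _ = (s * c * s⁻¹)⁻¹ * (s * p * s⁻¹) := by group
          _ = (s * c * s⁻¹)⁻¹ * p := by rw [hps]
      rw [hd]
      have hk := (hCab c hc _ (inv_mem hc')).eq
      calc c * c = c * ((s * c * s⁻¹)⁻¹ * (c * (s * c * s⁻¹))) := by
            rw [(hCab c hc _ hc').eq]; group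
        _ = _ := by group
    have hcc : Commute (c * c) s := by
      rw [e]
      exact ((h12 s (hSX hs)).mul_left (h2 s (hSX hs)).inv_left).mul_left (h1 s (hSX hs))
    set ε := s * c * s⁻¹ * c⁻¹ with hε
    have hεC : ε ∈ C := mul_mem hc' (inv_mem hc)
    have hε2 : ε * ε = 1 := by
      have h3 : s * (c * c) * s⁻¹ = c * c := by rw [← hcc.eq, mul_inv_cancel_right]
      calc ε * ε = s * c * s⁻¹ * (c⁻¹ * (s * c * s⁻¹)) * c⁻¹ := by rw [hε]; group
        _ = s * c * s⁻¹ * ((s * c * s⁻¹) * c⁻¹) * c⁻¹ := by rw [(hCab _ (inv_mem hc) _ hc').eq]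
        _ = s * (c * c) * s⁻¹ * (c * c)⁻¹ := by group
        _ = 1 := by rw [h3, mul_inv_cancel]
    have hεs : s * ε * s⁻¹ = ε := by
      calc s * ε * s⁻¹ = (s * (s * c * s⁻¹) * s⁻¹) * (s * c * s⁻¹)⁻¹ := by rw [hε]; group
        _ = ε⁻¹ := by rw [hsq s hs c, hε]; group
        _ = ε := inv_eq_of_mul_eq_one_left hε2
    have hεX := hfix ε hεC s hs hst hεs
    have hεS : ε ∈ (S : Subgroup G) := by
      have hp2 : IsPGroup 2 (zpowers ε) := by
        rintro ⟨a, i, rfl⟩
        refine ⟨1, Subtype.ext ?_⟩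
        show (ε ^ i) ^ 2 ^ 1 = 1
        rw [pow_one, ← zpow_natCast, ← zpow_mul, mul_comm, zpow_mul, zpow_natCast, sq, hε2, one_zpow]
      have hle : zpowers ε ≤ normalizer ((S : Subgroup G) : Set G) :=
        zpowers_le.2 (centralizer_le_normalizer _
          (mem_centralizer_iff.2 fun w hw => (hεX w (hSX hw)).symm.eq))
      have hm : ε ∈ zpowers ε ⊔ (S : Subgroup G) := mem_sup_left (mem_zpowers ε)
      rwa [S.is_maximal' (hp2.to_sup_of_normal_right' S.isPGroup' hle) le_sup_right] at hm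
    have hεZ : π ε = 1 := (QuotientGroup.eq_one_iff _).2
      (center_sylow_le_center h S hna hεS fun w hw => hεX w (hSX hw))
    rw [hε, map_mul, map_mul, map_mul, map_inv, map_inv, mul_inv_eq_one, mul_inv_eq_iff_eq_mul] at hεZ
    exact hεZ.symm
  -- `X = C S`
  set W := C ⊔ (S : Subgroup G) with hW
  have hWX : W ≤ X := sup_le hCX hSX
  have hXW : X ≤ W := by
    intro y hy
    haveI : (W.subgroupOf X).Normal := by
      refine ⟨fun w hw g => mem_subgroupOf.2 ?_⟩
      have := mul_mem (mem_sup_left (hcommC g g.2 w w.2) : _ ∈ W) (mem_subgroupOf.1 hw)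
      simpa [mul_assoc] using this
    have hodd : ¬ 2 ∣ (W.subgroupOf X).index := fun h2 => S.not_dvd_index
      ((h2.trans (relIndex_dvd_of_le_left X le_sup_right)).trans (relIndex_dvd_index_of_le hSX))
    obtain ⟨k, hk⟩ := Nat.odd_iff.2 (Nat.two_dvd_ne_zero.1 hodd)
    have h3 := Subgroup.pow_index_mem (W.subgroupOf X) ⟨y, hy⟩
    rw [hk, pow_succ, pow_mul] at h3
    have hy2 : (⟨y, hy⟩ : X) ^ 2 ∈ W.subgroupOf X := by
      refine mem_subgroupOf.2 (mem_sup_left (mem_centralizer_singleton_iff.2 ?_))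
      show (y ^ 2 : G) * t = t * y ^ 2
      obtain ⟨ζ, hζ, e, hζ2⟩ := hXz y hy
      refine mul_inv_eq_iff_eq_mul.1 ?_
      calc y ^ 2 * t * (y ^ 2)⁻¹ = y * (y * t * y⁻¹) * y⁻¹ := by rw [sq]; group
        _ = (y * ζ) * t * y⁻¹ := by rw [e]; group
        _ = ζ * (y * t * y⁻¹) := by rw [mem_center_iff.1 hζ y]; group
        _ = t := by rw [e, ← mul_assoc, ← sq, hζ2, one_mul]
    exact mem_subgroupOf.1 ((Subgroup.mul_mem_cancel_left _ (pow_mem hy2 k)).1 h3)
  have hPP : (S : Subgroup G).map π ≤ centralizer (((S : Subgroup G).map π : Subgroup _) : Set _) := by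
    rintro _ ⟨a, ha, rfl⟩
    refine mem_centralizer_iff.2 ?_
    rintro _ ⟨b, hb, rfl⟩
    have h1 : π (b * a * b⁻¹ * a⁻¹) = 1 := (QuotientGroup.eq_one_iff _).2 (low_comm S hlow hb ha)
    rw [map_mul, map_mul, map_mul, map_inv, map_inv, mul_inv_eq_one, mul_inv_eq_iff_eq_mul] at h1
    exact h1
  have hCC : C.map π ≤ centralizer ((C.map π : Subgroup _) : Set _) := by
    rintro _ ⟨a, ha, rfl⟩
    refine mem_centralizer_iff.2 ?_
    rintro _ ⟨b, hb, rfl⟩
    rw [← map_mul, ← map_mul, (hCab b hb a ha).eq]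
  have hCP : C.map π ≤ centralizer (((S : Subgroup G).map π : Subgroup _) : Set _) := by
    rintro _ ⟨a, ha, rfl⟩
    refine mem_centralizer_iff.2 ?_
    rintro _ ⟨b, hb, rfl⟩
    exact (hCS a ha b hb).symm
  have hab : W.map π ≤ centralizer ((W.map π : Subgroup _) : Set _) := by
    rw [hW, Subgroup.map_sup]
    exact le_centralizer_iff.1 (sup_le
      (le_centralizer_iff.1 (sup_le hCC (le_centralizer_iff.1 hCP)))
      (le_centralizer_iff.1 (sup_le hCP hPP)))
  intro a ha b hb
  obtain ⟨a', rfl⟩ := QuotientGroup.mk'_surjective (center G) a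
  obtain ⟨b', rfl⟩ := QuotientGroup.mk'_surjective (center G) b
  exact mem_centralizer_iff.1 (hab (mem_map_of_mem π (hXW hb))) _ (mem_map_of_mem π (hXW ha))

/-- The conclusion in the low case. -/
theorem klein_of_low [Nontrivial G] (h : SolvCA G) (S : Sylow 2 G) (hna : ¬ AbOn (S : Subgroup G))
    (hlow : ∀ s ∈ (S : Subgroup G), s ^ 2 ∈ center G) :
    (∃ n : ℕ, 2 ≤ n ∧ Nonempty
      (((S.mapSurjective (QuotientGroup.mk'_surjective (center G)) : Sylow 2 (G ⧸ center G)) :
        Subgroup (G ⧸ center G)) ≃* DihedralGroup n)) ∧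
      NoCommutingLifts (S : Subgroup G) := by
  classical
  haveI : Fact (Nat.Prime 2) := ⟨Nat.prime_two⟩
  set π := QuotientGroup.mk' (center G) with hπdef
  set P : Sylow 2 (G ⧸ center G) := S.mapSurjective (QuotientGroup.mk'_surjective (center G))
  have hP : (P : Subgroup (G ⧸ center G)) = (S : Subgroup G).map π := Sylow.coe_mapSurjective _ S
  have hexp : ∀ q ∈ (P : Subgroup (G ⧸ center G)), q ^ 2 = 1 := by
    intro q hq
    obtain ⟨s, hs, rfl⟩ := mem_map.1 ((SetLike.ext_iff.1 hP _).1 hq)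
    rw [← map_pow]; exact (QuotientGroup.eq_one_iff _).2 (hlow s hs)
  obtain ⟨k, hk⟩ := IsPGroup.iff_card.1 P.isPGroup'
  -- two non-commuting elements
  obtain ⟨a, ha, b, hb, hab⟩ := exists_not_commute hna
  have hsame : ∀ a b : G, a⁻¹ * b ∈ center G → Commute a b := fun a b hh => by
    have := (Commute.refl a).mul_right (mem_center_iff.1 hh a : Commute a (a⁻¹ * b))
    rwa [mul_inv_cancel_left] at this
  have hk2 : 2 ≤ k := by
    by_contra hk2
    have hle : Nat.card (P : Subgroup (G ⧸ center G)) ≤ 2 := by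
      rw [hk]; exact (Nat.pow_le_pow_right (by norm_num) (show k ≤ 1 by omega)).trans (by norm_num)
    have haZ : a ∉ center G := fun hz => hab (mem_center_iff.1 hz b).symm
    have hbZ : b ∉ center G := fun hz => hab (mem_center_iff.1 hz a)
    let ι : Bool ⊕ Unit → (P : Subgroup (G ⧸ center G)) := fun x => x.elim
      (fun c => if c then ⟨π a, by rw [hP]; exact mem_map_of_mem π ha⟩
        else ⟨π b, by rw [hP]; exact mem_map_of_mem π hb⟩) fun _ => 1
    have hι : Function.Injective ι := by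
      have e1 : π a ≠ π b := fun e => hab (hsame a b (mk_eq_iff_center.1 e))
      have e2 : π a ≠ 1 := fun e => haZ ((QuotientGroup.eq_one_iff a).1 e)
      have e3 : π b ≠ 1 := fun e => hbZ ((QuotientGroup.eq_one_iff b).1 e)
      rintro ((_ | _) | _) ((_ | _) | _) e <;>
        simp only [ι, Sum.elim_inl, Sum.elim_inr, Bool.false_eq_true, if_false, if_true,
          Subtype.ext_iff, OneMemClass.coe_one] at e ⊢ <;>
        first
          | rfl
          | exact absurd e e1 | exact absurd e.symm e1 | exact absurd e e2 | exact absurd e.symm e2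
          | exact absurd e e3 | exact absurd e.symm e3
    have := Nat.card_le_card_of_injective ι hι
    simp at this
    omega
  obtain rfl | hk3 : k = 2 ∨ 3 ≤ k := by omega
  · haveI : IsKleinFour (P : Subgroup (G ⧸ center G)) :=
      { card_four := by rw [hk]; norm_num
        exponent_two := by
          refine Nat.prime_two.eq_one_or_self_of_dvd _ (Monoid.exponent_dvd_of_forall_pow_eq_one
            fun g => Subtype.ext ?_) |>.resolve_left fun h1 => ?_
          · rw [SubgroupClass.coe_pow]; exact hexp _ g.2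
          · haveI := Monoid.exp_eq_one_iff.1 h1
            rw [Nat.card_of_subsingleton (1 : (P : Subgroup (G ⧸ center G)))] at hk
            norm_num at hk }
    refine ⟨⟨2, le_rfl, IsKleinFour.nonempty_mulEquiv⟩, fun p hp q hq hpZ hqZ hpqZ hp2 _ hpq => ?_⟩
    -- `S` would be abelian
    have hpe : π p ≠ π q := fun e => hpqZ (mk_eq_iff_center.1 e)
    have hp1 : π p ≠ 1 := fun e => hpZ ((QuotientGroup.eq_one_iff p).1 e)
    have hq1 : π q ≠ 1 := fun e => hqZ ((QuotientGroup.eq_one_iff q).1 e)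
    have hall : ∀ s ∈ (S : Subgroup G), π s = 1 ∨ π s = π p ∨ π s = π q ∨ π s = π (p * q) := by
      intro s hs
      haveI := Fintype.ofFinite (P : Subgroup (G ⧸ center G))
      have key := IsKleinFour.eq_finset_univ (G := (P : Subgroup (G ⧸ center G)))
        (x := ⟨π p, by rw [hP]; exact mem_map_of_mem π hp⟩)
        (y := ⟨π q, by rw [hP]; exact mem_map_of_mem π hq⟩)
      have := key (by simpa [Subtype.ext_iff] using hp1) (by simpa [Subtype.ext_iff] using hq1)
        (by simpa [Subtype.ext_iff] using hpe)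
      have h4 := Finset.ext_iff.1 this ⟨π s, by rw [hP]; exact mem_map_of_mem π hs⟩
      simp [Subtype.ext_iff] at h4
      rw [map_mul]
      tauto
    have hcent : ∀ s ∈ (S : Subgroup G), Commute p s ∧ Commute q s := by
      intro s hs
      rcases hall s hs with e | e | e | e
      · have hz := (QuotientGroup.eq_one_iff s).1 e
        exact ⟨mem_center_iff.1 hz p, mem_center_iff.1 hz q⟩
      all_goals
        have hz := mk_eq_iff_center.1 e.symm
        have h1 : Commute p (_ : G) := mem_center_iff.1 hz p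
        have h2 : Commute q (_ : G) := mem_center_iff.1 hz q
      · exact ⟨by simpa using (Commute.refl p).mul_right h1, by simpa using hpq.symm.mul_right h2⟩
      · exact ⟨by simpa using hpq.mul_right h1, by simpa using (Commute.refl q).mul_right h2⟩
      · exact ⟨by simpa [mul_assoc] using ((Commute.refl p).mul_right hpq).mul_right h1,
          by simpa [mul_assoc] using (hpq.symm.mul_right (Commute.refl q)).mul_right h2⟩
    exact hna fun u hu w hw => commute_in_sylow h S hna hp hpZ hu hw (hcent u hu).1 (hcent w hw).1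
  exfalso
  have hbig : 8 ≤ Nat.card ((S : Subgroup G).map π) := by
    rw [← hP, hk]; exact le_trans (by norm_num) (Nat.pow_le_pow_right (show 2 > 0 by norm_num) hk3)
  haveI := isSimpleGroup_quotient_center h
  haveI : Group.IsPerfect (G ⧸ center G) := inferInstance
  haveI : Nontrivial (G ⧸ center G) := QuotientGroup.nontrivial_iff.2 center_ne_top
  have h8 : 8 ∣ Nat.card (G ⧸ center G) := by
    refine Dvd.dvd.trans ?_ (card_subgroup_dvd_card (P : Subgroup (G ⧸ center G)))
    rw [hk]; exact pow_dvd_pow 2 hk3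
  have hCq : ∀ q : G ⧸ center G, orderOf q = 2 →
      IsMulCommutative (centralizer ({q} : Set (G ⧸ center G))) := by
    intro q hq
    have hp : IsPGroup 2 (zpowers q) :=
      IsPGroup.of_card (n := 1) (by rw [Nat.card_zpowers, hq, pow_one])
    obtain ⟨Q, hQ⟩ := hp.exists_le_sylow
    obtain ⟨g, hg⟩ := MulAction.exists_smul_eq (G ⧸ center G) Q P
    have hmem : g * q * g⁻¹ ∈ (P : Subgroup (G ⧸ center G)) := by
      rw [← hg, Sylow.coe_subgroup_smul]
      exact ⟨q, hQ (mem_zpowers q), rfl⟩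
    obtain ⟨t, ht, hte⟩ := mem_map.1 ((SetLike.ext_iff.1 hP _).1 hmem)
    have hC := abelian_centralizer_quotient h S hna hlow hbig ht fun hz => by
      have h1 : π t = 1 := (QuotientGroup.eq_one_iff t).2 hz
      rw [hte] at h1
      rw [conj_eq_one_iff.1 h1, orderOf_one] at hq
      omega
    rw [hte] at hC
    refine ⟨⟨fun x y => ?_⟩⟩
    obtain ⟨x, hx⟩ := x
    obtain ⟨y, hy⟩ := y
    have key : ∀ x ∈ centralizer ({q} : Set (G ⧸ center G)),
        g * x * g⁻¹ ∈ centralizer ({g * q * g⁻¹} : Set (G ⧸ center G)) :=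
      fun x hx => mem_centralizer_singleton_iff.2 (by
        have hxt := mem_centralizer_singleton_iff.1 hx
        calc g * x * g⁻¹ * (g * q * g⁻¹) = g * (x * q) * g⁻¹ := by group
          _ = g * (q * x) * g⁻¹ := by rw [hxt]
          _ = g * q * g⁻¹ * (g * x * g⁻¹) := by group)
    have h1 := (hC _ (key x hx) _ (key y hy)).eq
    apply Subtype.ext
    exact (MulAut.conj g).injective.eq_iff.1 (by rw [coe_mul, coe_mul, map_mul, map_mul]; exact h1)
  rcases Cfsg.Agent.S2202.result (even_iff_two_dvd.2 (dvd_trans (by norm_num) h8)) hCq with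
    hcyc | hnorm | ⟨F, iF, iT, A, iA, iAf, hchar, -, ⟨e⟩⟩
  · haveI := hcyc P
    haveI := Fintype.ofFinite (P : Subgroup (G ⧸ center G))
    have hle := IsCyclic.card_pow_eq_one_le (α := (P : Subgroup (G ⧸ center G))) (n := 2) (by norm_num)
    rw [Finset.filter_true_of_mem (fun x _ => Subtype.ext (by
      rw [SubgroupClass.coe_pow]; exact hexp _ x.2)), Finset.card_univ, ← Nat.card_eq_fintype_card,
      hP] at hle
    omega
  · rcases IsSimpleGroup.eq_bot_or_eq_top_of_normal _ (hnorm P) with hbt | htp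
    · rw [hbt, card_bot] at hk
      have : 2 ^ 3 ≤ 2 ^ k := Nat.pow_le_pow_right (by norm_num) hk3
      omega
    · haveI : Group.IsSolvable (P : Subgroup (G ⧸ center G)) := isSolvable_sylow P
      haveI : Group.IsSolvable (G ⧸ center G) :=
        Group.isSolvable_of_surjective (f := (P : Subgroup (G ⧸ center G)).subtype)
          fun g => ⟨⟨g, htp ▸ mem_top g⟩, rfl⟩
      exact (Group.IsSolvable.commutator_lt_top_of_nontrivial (G ⧸ center G)).ne
        Group.IsPerfect.commutator_eq_top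
  · letI := iF
    letI := iT
    letI := iA
    haveI := hchar
    let π' : (G ⧸ center G) →* A := (MonoidHom.snd _ _).comp e.toMonoidHom
    have hπ' : ∀ g, π' g = 1 := fun g => by
      have hle : commutator (G ⧸ center G) ≤ π'.ker := Abelianization.commutator_subset_ker π'
      exact hle (Group.IsPerfect.commutator_eq_top (G := G ⧸ center G) ▸ mem_top g)
    haveI : Subsingleton A := ⟨fun a b => by
      obtain ⟨g, hg⟩ := e.surjective (1, a)
      obtain ⟨g', hg'⟩ := e.surjective (1, b)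
      have h1 := hπ' g
      have h2 := hπ' g'
      simp only [π', MonoidHom.coe_comp, Function.comp_apply, MulEquiv.coe_toMonoidHom,
        MonoidHom.coe_snd, hg, hg'] at h1 h2
      rw [h1, h2]⟩
    have hq : Even (Fintype.card F) := by
      obtain ⟨j, -, hj⟩ := FiniteField.card F 2
      rw [hj]; exact Nat.even_pow.2 ⟨even_two, j.pos.ne'⟩
    have hT : Nat.card (G ⧸ center G) = Nat.card (Matrix.SpecialLinearGroup (Fin 2) F) := by
      rw [Nat.card_congr e.toEquiv, Nat.card_prod, Nat.card_of_subsingleton (1 : A), mul_one]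
    have hq5 : 5 ≤ Fintype.card F := by
      by_contra hlt
      rw [hT, CfsgLib.Linear.card_SL_two] at h8
      obtain ⟨j, -, hj⟩ := FiniteField.card F 2
      have hj3 : (j : ℕ) < 3 := by
        by_contra hj3
        have : 2 ^ 3 ≤ 2 ^ (j : ℕ) := Nat.pow_le_pow_right (by norm_num) (by omega)
        omega
      have hjpos := j.pos
      rcases (show (j : ℕ) = 1 ∨ (j : ℕ) = 2 by omega) with e1 | e1 <;>
        rw [hj, e1] at h8 <;> norm_num at h8
    -- to `PSL`
    let ψ : (G ⧸ center G) →* Matrix.ProjectiveSpecialLinearGroup (Fin 2) F :=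
      (QuotientGroup.mk' _).comp ((MonoidHom.fst _ _).comp e.toMonoidHom)
    have hψ : Function.Surjective ψ := fun x => by
      obtain ⟨y, rfl⟩ := QuotientGroup.mk'_surjective _ x
      obtain ⟨g, hg⟩ := e.surjective (y, 1)
      exact ⟨g, by simp [ψ, hg]⟩
    have hψi : Function.Injective ψ := by
      refine ((Nat.bijective_iff_surjective_and_card ψ).2 ⟨hψ, ?_⟩).1
      rw [hT, CfsgLib.Linear.card_SL_two, CfsgLib.Linear.card_PSL_two_even hq]
    have hker : (ψ.comp π).ker = center G := by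
      ext g
      rw [MonoidHom.mem_ker, MonoidHom.comp_apply]
      exact ⟨fun e => (QuotientGroup.eq_one_iff g).1 (hψi (e.trans (map_one ψ).symm)),
        fun e => by rw [show π g = 1 from (QuotientGroup.eq_one_iff g).2 e, map_one]⟩
    have hstem : Cfsg.IsStemExtension (ψ.comp π) :=
      ⟨hψ.comp (QuotientGroup.mk'_surjective _), hker.le, by
        rw [Group.IsPerfect.commutator_eq_top]; exact le_top⟩
    have hle := CfsgLib.MultPSL.card_stem_le_two (F := F) hq5 (fun e => by
      rw [e] at hq; exact absurd hq (by decide)) _ hstem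
    rw [card_eq_card_quotient_mul_card_subgroup (center G), hT] at hle
    have hc1 : center G = ⊥ := Subgroup.card_eq_one.1 (le_antisymm
      (Nat.le_of_mul_le_mul_left (hle.trans (mul_one _).ge) Nat.card_pos) Nat.card_pos)
    have h1 : π (a * b * a⁻¹ * b⁻¹) = 1 := (QuotientGroup.eq_one_iff _).2 (low_comm S hlow ha hb)
    have h2 := (QuotientGroup.eq_one_iff _).1 h1
    rw [hc1, mem_bot] at h2
    exact hab (mul_inv_eq_iff_eq_mul.1 (mul_inv_eq_one.1 h2))

/-- A non-abelian Sylow 2-subgroup is dihedral modulo the centre, and lifts of commuting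
involutions do not commute. -/
theorem nonabelian_case [Nontrivial G] (h : SolvCA G) (S : Sylow 2 G)
    (hna : ¬ AbOn (S : Subgroup G)) :
    (∃ n : ℕ, 2 ≤ n ∧ Nonempty
      (((S.mapSurjective (QuotientGroup.mk'_surjective (center G)) : Sylow 2 (G ⧸ center G)) :
        Subgroup (G ⧸ center G)) ≃* DihedralGroup n)) ∧
      NoCommutingLifts (S : Subgroup G) := by
  by_cases hhigh : ∃ x ∈ (S : Subgroup G), x ^ 2 ∉ center G
  · obtain ⟨x, hx, hx2⟩ := hhigh
    exact dihedral_of_high h S hna hx hx2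
  · push Not at hhigh
    exact klein_of_low h S hna hhigh

end CfsgLib.MinNonCA
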